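import Cfsg.Agent.Lib.CosetEnum.Fi23.BaseD

set_option autoImplicit false

set_option linter.all false

namespace CfsgLib.CosetEnum.Fi23

namespace Base

open CfsgLib.CosetEnum

namespace B0

theorem stepOK_0 : allFrom (fun i => stepOK CfsgLib.CosetEnum.Fi23.subTable pts par pos CfsgLib.CosetEnum.Fi23.subTable.length i) 1024 0 = true := by decide +kernel

theorem stepOK_1024 : allFrom (fun i => stepOK CfsgLib.CosetEnum.Fi23.subTable pts par pos CfsgLib.CosetEnum.Fi23.subTable.length i) 1024 1024 = true := by decide +kernel

theorem stepOK_2048 : allFrom (fun i => stepOK CfsgLib.CosetEnum.Fi23.subTable pts par pos CfsgLib.CosetEnum.Fi23.subTable.length i) 1024 2048 = true := by decide +kernel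

theorem stepOK_3072 : allFrom (fun i => stepOK CfsgLib.CosetEnum.Fi23.subTable pts par pos CfsgLib.CosetEnum.Fi23.subTable.length i) 1024 3072 = true := by decide +kernel

theorem stepOK_4096 : allFrom (fun i => stepOK CfsgLib.CosetEnum.Fi23.subTable pts par pos CfsgLib.CosetEnum.Fi23.subTable.length i) 1024 4096 = true := by decide +kernel

theorem stepOK_5120 : allFrom (fun i => stepOK CfsgLib.CosetEnum.Fi23.subTable pts par pos CfsgLib.CosetEnum.Fi23.subTable.length i) 1024 5120 = true := by decide +kernel

theorem stepOK_6144 : allFrom (fun i => stepOK CfsgLib.CosetEnum.Fi23.subTable pts par pos CfsgLib.CosetEnum.Fi23.subTable.length i) 1024 6144 = true := by decide +kernel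

theorem stepOK_7168 : allFrom (fun i => stepOK CfsgLib.CosetEnum.Fi23.subTable pts par pos CfsgLib.CosetEnum.Fi23.subTable.length i) 1024 7168 = true := by decide +kernel

theorem stepOK_8192 : allFrom (fun i => stepOK CfsgLib.CosetEnum.Fi23.subTable pts par pos CfsgLib.CosetEnum.Fi23.subTable.length i) 1024 8192 = true := by decide +kernel

theorem stepOK_9216 : allFrom (fun i => stepOK CfsgLib.CosetEnum.Fi23.subTable pts par pos CfsgLib.CosetEnum.Fi23.subTable.length i) 1024 9216 = true := by decide +kernel

theorem stepOK_10240 : allFrom (fun i => stepOK CfsgLib.CosetEnum.Fi23.subTable pts par pos CfsgLib.CosetEnum.Fi23.subTable.length i) 1024 10240 = true := by decide +kernel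

theorem stepOK_11264 : allFrom (fun i => stepOK CfsgLib.CosetEnum.Fi23.subTable pts par pos CfsgLib.CosetEnum.Fi23.subTable.length i) 1024 11264 = true := by decide +kernel

theorem stepOK_12288 : allFrom (fun i => stepOK CfsgLib.CosetEnum.Fi23.subTable pts par pos CfsgLib.CosetEnum.Fi23.subTable.length i) 1024 12288 = true := by decide +kernel

theorem stepOK_13312 : allFrom (fun i => stepOK CfsgLib.CosetEnum.Fi23.subTable pts par pos CfsgLib.CosetEnum.Fi23.subTable.length i) 1024 13312 = true := by decide +kernel

theorem stepOK_14336 : allFrom (fun i => stepOK CfsgLib.CosetEnum.Fi23.subTable pts par pos CfsgLib.CosetEnum.Fi23.subTable.length i) 1024 14336 = true := by decide +kernel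

theorem stepOK_15360 : allFrom (fun i => stepOK CfsgLib.CosetEnum.Fi23.subTable pts par pos CfsgLib.CosetEnum.Fi23.subTable.length i) 1024 15360 = true := by decide +kernel

theorem stepOK_16384 : allFrom (fun i => stepOK CfsgLib.CosetEnum.Fi23.subTable pts par pos CfsgLib.CosetEnum.Fi23.subTable.length i) 1024 16384 = true := by decide +kernel

theorem stepOK_17408 : allFrom (fun i => stepOK CfsgLib.CosetEnum.Fi23.subTable pts par pos CfsgLib.CosetEnum.Fi23.subTable.length i) 1024 17408 = true := by decide +kernel

theorem stepOK_18432 : allFrom (fun i => stepOK CfsgLib.CosetEnum.Fi23.subTable pts par pos CfsgLib.CosetEnum.Fi23.subTable.length i) 1024 18432 = true := by decide +kernel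

theorem stepOK_19456 : allFrom (fun i => stepOK CfsgLib.CosetEnum.Fi23.subTable pts par pos CfsgLib.CosetEnum.Fi23.subTable.length i) 1024 19456 = true := by decide +kernel

theorem stepOK_20480 : allFrom (fun i => stepOK CfsgLib.CosetEnum.Fi23.subTable pts par pos CfsgLib.CosetEnum.Fi23.subTable.length i) 1024 20480 = true := by decide +kernel

theorem stepOK_21504 : allFrom (fun i => stepOK CfsgLib.CosetEnum.Fi23.subTable pts par pos CfsgLib.CosetEnum.Fi23.subTable.length i) 1024 21504 = true := by decide +kernel

theorem stepOK_22528 : allFrom (fun i => stepOK CfsgLib.CosetEnum.Fi23.subTable pts par pos CfsgLib.CosetEnum.Fi23.subTable.length i) 1024 22528 = true := by decide +kernel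

theorem stepOK_23552 : allFrom (fun i => stepOK CfsgLib.CosetEnum.Fi23.subTable pts par pos CfsgLib.CosetEnum.Fi23.subTable.length i) 1024 23552 = true := by decide +kernel

theorem stepOK_24576 : allFrom (fun i => stepOK CfsgLib.CosetEnum.Fi23.subTable pts par pos CfsgLib.CosetEnum.Fi23.subTable.length i) 1024 24576 = true := by decide +kernel

theorem stepOK_25600 : allFrom (fun i => stepOK CfsgLib.CosetEnum.Fi23.subTable pts par pos CfsgLib.CosetEnum.Fi23.subTable.length i) 1024 25600 = true := by decide +kernel

theorem stepOK_26624 : allFrom (fun i => stepOK CfsgLib.CosetEnum.Fi23.subTable pts par pos CfsgLib.CosetEnum.Fi23.subTable.length i) 1024 26624 = true := by decide +kernel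

theorem stepOK_27648 : allFrom (fun i => stepOK CfsgLib.CosetEnum.Fi23.subTable pts par pos CfsgLib.CosetEnum.Fi23.subTable.length i) 512 27648 = true := by decide +kernel

theorem compOK_0 : allFrom (fun i => compOK CfsgLib.CosetEnum.Fi23.subTable B0.table ws i) 512 0 = true := by decide +kernel

theorem compOK_512 : allFrom (fun i => compOK CfsgLib.CosetEnum.Fi23.subTable B0.table ws i) 512 512 = true := by decide +kernel

theorem compOK_1024 : allFrom (fun i => compOK CfsgLib.CosetEnum.Fi23.subTable B0.table ws i) 512 1024 = true := by decide +kernel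

theorem compOK_1536 : allFrom (fun i => compOK CfsgLib.CosetEnum.Fi23.subTable B0.table ws i) 512 1536 = true := by decide +kernel

end B0

namespace B1

end B1

namespace B2

end B2

namespace B3

end B3

end Base

end CfsgLib.CosetEnum.Fi23
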