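import Cfsg.Agent.Lib.CosetEnum.Fi23.BaseD

set_option autoImplicit false

set_option linter.all false

namespace CfsgLib.CosetEnum.Fi23

namespace Base

open CfsgLib.CosetEnum

namespace B0

theorem compOK_2048 : allFrom (fun i => compOK CfsgLib.CosetEnum.Fi23.subTable B0.table ws i) 512 2048 = true := by decide +kernel

theorem compOK_2560 : allFrom (fun i => compOK CfsgLib.CosetEnum.Fi23.subTable B0.table ws i) 512 2560 = true := by decide +kernel

theorem compOK_3072 : allFrom (fun i => compOK CfsgLib.CosetEnum.Fi23.subTable B0.table ws i) 512 3072 = true := by decide +kernel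

theorem compOK_3584 : allFrom (fun i => compOK CfsgLib.CosetEnum.Fi23.subTable B0.table ws i) 512 3584 = true := by decide +kernel

theorem compOK_4096 : allFrom (fun i => compOK CfsgLib.CosetEnum.Fi23.subTable B0.table ws i) 512 4096 = true := by decide +kernel

theorem compOK_4608 : allFrom (fun i => compOK CfsgLib.CosetEnum.Fi23.subTable B0.table ws i) 512 4608 = true := by decide +kernel

theorem compOK_5120 : allFrom (fun i => compOK CfsgLib.CosetEnum.Fi23.subTable B0.table ws i) 512 5120 = true := by decide +kernel

theorem compOK_5632 : allFrom (fun i => compOK CfsgLib.CosetEnum.Fi23.subTable B0.table ws i) 512 5632 = true := by decide +kernel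

theorem compOK_6144 : allFrom (fun i => compOK CfsgLib.CosetEnum.Fi23.subTable B0.table ws i) 512 6144 = true := by decide +kernel

end B0

namespace B1

end B1

namespace B2

end B2

namespace B3

end B3

end Base

end CfsgLib.CosetEnum.Fi23
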