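import Cfsg.Agent.Lib.CosetEnum.Fi23.BaseD

set_option autoImplicit false

set_option linter.all false

namespace CfsgLib.CosetEnum.Fi23

namespace Base

open CfsgLib.CosetEnum

namespace B0

end B0

namespace B1

end B1

namespace B2

theorem compOK_13312 : allFrom (fun i => compOK B1.table B2.table ws i) 512 13312 = true := by decide +kernel

theorem compOK_13824 : allFrom (fun i => compOK B1.table B2.table ws i) 512 13824 = true := by decide +kernel

theorem compOK_14336 : allFrom (fun i => compOK B1.table B2.table ws i) 512 14336 = true := by decide +kernel

theorem compOK_14848 : allFrom (fun i => compOK B1.table B2.table ws i) 512 14848 = true := by decide +kernel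

theorem compOK_15360 : allFrom (fun i => compOK B1.table B2.table ws i) 512 15360 = true := by decide +kernel

theorem compOK_15872 : allFrom (fun i => compOK B1.table B2.table ws i) 512 15872 = true := by decide +kernel

theorem compOK_16384 : allFrom (fun i => compOK B1.table B2.table ws i) 512 16384 = true := by decide +kernel

theorem compOK_16896 : allFrom (fun i => compOK B1.table B2.table ws i) 512 16896 = true := by decide +kernel

theorem compOK_17408 : allFrom (fun i => compOK B1.table B2.table ws i) 512 17408 = true := by decide +kernel

theorem compOK_17920 : allFrom (fun i => compOK B1.table B2.table ws i) 512 17920 = true := by decide +kernel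

theorem compOK_18432 : allFrom (fun i => compOK B1.table B2.table ws i) 512 18432 = true := by decide +kernel

theorem compOK_18944 : allFrom (fun i => compOK B1.table B2.table ws i) 512 18944 = true := by decide +kernel

theorem compOK_19456 : allFrom (fun i => compOK B1.table B2.table ws i) 512 19456 = true := by decide +kernel

theorem compOK_19968 : allFrom (fun i => compOK B1.table B2.table ws i) 512 19968 = true := by decide +kernel

theorem compOK_20480 : allFrom (fun i => compOK B1.table B2.table ws i) 512 20480 = true := by decide +kernel

theorem compOK_20992 : allFrom (fun i => compOK B1.table B2.table ws i) 512 20992 = true := by decide +kernel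

theorem compOK_21504 : allFrom (fun i => compOK B1.table B2.table ws i) 512 21504 = true := by decide +kernel

theorem compOK_22016 : allFrom (fun i => compOK B1.table B2.table ws i) 512 22016 = true := by decide +kernel

theorem compOK_22528 : allFrom (fun i => compOK B1.table B2.table ws i) 512 22528 = true := by decide +kernel

theorem compOK_23040 : allFrom (fun i => compOK B1.table B2.table ws i) 512 23040 = true := by decide +kernel

end B2

namespace B3

end B3

end Base

end CfsgLib.CosetEnum.Fi23
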