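import Cfsg.Agent.Lib.CosetEnum.Fi23.BaseD

set_option autoImplicit false

set_option linter.all false

namespace CfsgLib.CosetEnum.Fi23

namespace Base

open CfsgLib.CosetEnum

namespace B0

end B0

namespace B1

end B1

namespace B2

theorem compOK_23552 : allFrom (fun i => compOK B1.table B2.table ws i) 512 23552 = true := by decide +kernel

theorem compOK_24064 : allFrom (fun i => compOK B1.table B2.table ws i) 512 24064 = true := by decide +kernel

theorem compOK_24576 : allFrom (fun i => compOK B1.table B2.table ws i) 512 24576 = true := by decide +kernel

theorem compOK_25088 : allFrom (fun i => compOK B1.table B2.table ws i) 512 25088 = true := by decide +kernel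

theorem compOK_25600 : allFrom (fun i => compOK B1.table B2.table ws i) 512 25600 = true := by decide +kernel

theorem compOK_26112 : allFrom (fun i => compOK B1.table B2.table ws i) 512 26112 = true := by decide +kernel

theorem compOK_26624 : allFrom (fun i => compOK B1.table B2.table ws i) 512 26624 = true := by decide +kernel

theorem compOK_27136 : allFrom (fun i => compOK B1.table B2.table ws i) 512 27136 = true := by decide +kernel

theorem compOK_27648 : allFrom (fun i => compOK B1.table B2.table ws i) 512 27648 = true := by decide +kernel

theorem compOK_28160 : allFrom (fun i => compOK B1.table B2.table ws i) 512 28160 = true := by decide +kernel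

theorem compOK_28672 : allFrom (fun i => compOK B1.table B2.table ws i) 512 28672 = true := by decide +kernel

theorem compOK_29184 : allFrom (fun i => compOK B1.table B2.table ws i) 512 29184 = true := by decide +kernel

theorem compOK_29696 : allFrom (fun i => compOK B1.table B2.table ws i) 512 29696 = true := by decide +kernel

theorem compOK_30208 : allFrom (fun i => compOK B1.table B2.table ws i) 512 30208 = true := by decide +kernel

theorem compOK_30720 : allFrom (fun i => compOK B1.table B2.table ws i) 512 30720 = true := by decide +kernel

theorem compOK_31232 : allFrom (fun i => compOK B1.table B2.table ws i) 439 31232 = true := by decide +kernel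

end B2

namespace B3

theorem stepOK_0 : allFrom (fun i => stepOK B2.table pts par pos B2.table.length i) 96 0 = true := by decide +kernel

theorem compOK_0 : allFrom (fun i => compOK B2.table B3.table ws i) 512 0 = true := by decide +kernel

theorem compOK_512 : allFrom (fun i => compOK B2.table B3.table ws i) 512 512 = true := by decide +kernel

theorem compOK_1024 : allFrom (fun i => compOK B2.table B3.table ws i) 512 1024 = true := by decide +kernel

theorem compOK_1536 : allFrom (fun i => compOK B2.table B3.table ws i) 512 1536 = true := by decide +kernel

theorem compOK_2048 : allFrom (fun i => compOK B2.table B3.table ws i) 512 2048 = true := by decide +kernel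

theorem compOK_2560 : allFrom (fun i => compOK B2.table B3.table ws i) 512 2560 = true := by decide +kernel

theorem compOK_3072 : allFrom (fun i => compOK B2.table B3.table ws i) 512 3072 = true := by decide +kernel

theorem compOK_3584 : allFrom (fun i => compOK B2.table B3.table ws i) 512 3584 = true := by decide +kernel

theorem compOK_4096 : allFrom (fun i => compOK B2.table B3.table ws i) 512 4096 = true := by decide +kernel

theorem compOK_4608 : allFrom (fun i => compOK B2.table B3.table ws i) 512 4608 = true := by decide +kernel

theorem compOK_5120 : allFrom (fun i => compOK B2.table B3.table ws i) 512 5120 = true := by decide +kernel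

theorem compOK_5632 : allFrom (fun i => compOK B2.table B3.table ws i) 512 5632 = true := by decide +kernel

theorem compOK_6144 : allFrom (fun i => compOK B2.table B3.table ws i) 512 6144 = true := by decide +kernel

theorem compOK_6656 : allFrom (fun i => compOK B2.table B3.table ws i) 512 6656 = true := by decide +kernel

theorem compOK_7168 : allFrom (fun i => compOK B2.table B3.table ws i) 512 7168 = true := by decide +kernel

theorem compOK_7680 : allFrom (fun i => compOK B2.table B3.table ws i) 512 7680 = true := by decide +kernel

theorem compOK_8192 : allFrom (fun i => compOK B2.table B3.table ws i) 512 8192 = true := by decide +kernel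

theorem compOK_8704 : allFrom (fun i => compOK B2.table B3.table ws i) 512 8704 = true := by decide +kernel

theorem compOK_9216 : allFrom (fun i => compOK B2.table B3.table ws i) 512 9216 = true := by decide +kernel

theorem compOK_9728 : allFrom (fun i => compOK B2.table B3.table ws i) 512 9728 = true := by decide +kernel

theorem compOK_10240 : allFrom (fun i => compOK B2.table B3.table ws i) 512 10240 = true := by decide +kernel

theorem compOK_10752 : allFrom (fun i => compOK B2.table B3.table ws i) 512 10752 = true := by decide +kernel

theorem compOK_11264 : allFrom (fun i => compOK B2.table B3.table ws i) 512 11264 = true := by decide +kernel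

theorem compOK_11776 : allFrom (fun i => compOK B2.table B3.table ws i) 512 11776 = true := by decide +kernel

theorem compOK_12288 : allFrom (fun i => compOK B2.table B3.table ws i) 512 12288 = true := by decide +kernel

theorem compOK_12800 : allFrom (fun i => compOK B2.table B3.table ws i) 512 12800 = true := by decide +kernel

theorem compOK_13312 : allFrom (fun i => compOK B2.table B3.table ws i) 512 13312 = true := by decide +kernel

theorem compOK_13824 : allFrom (fun i => compOK B2.table B3.table ws i) 512 13824 = true := by decide +kernel

theorem compOK_14336 : allFrom (fun i => compOK B2.table B3.table ws i) 512 14336 = true := by decide +kernel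

theorem compOK_14848 : allFrom (fun i => compOK B2.table B3.table ws i) 512 14848 = true := by decide +kernel

theorem compOK_15360 : allFrom (fun i => compOK B2.table B3.table ws i) 512 15360 = true := by decide +kernel

theorem compOK_15872 : allFrom (fun i => compOK B2.table B3.table ws i) 512 15872 = true := by decide +kernel

theorem compOK_16384 : allFrom (fun i => compOK B2.table B3.table ws i) 512 16384 = true := by decide +kernel

theorem compOK_16896 : allFrom (fun i => compOK B2.table B3.table ws i) 512 16896 = true := by decide +kernel

theorem compOK_17408 : allFrom (fun i => compOK B2.table B3.table ws i) 512 17408 = true := by decide +kernel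

theorem compOK_17920 : allFrom (fun i => compOK B2.table B3.table ws i) 512 17920 = true := by decide +kernel

theorem compOK_18432 : allFrom (fun i => compOK B2.table B3.table ws i) 512 18432 = true := by decide +kernel

theorem compOK_18944 : allFrom (fun i => compOK B2.table B3.table ws i) 512 18944 = true := by decide +kernel

theorem compOK_19456 : allFrom (fun i => compOK B2.table B3.table ws i) 512 19456 = true := by decide +kernel

theorem compOK_19968 : allFrom (fun i => compOK B2.table B3.table ws i) 512 19968 = true := by decide +kernel

theorem compOK_20480 : allFrom (fun i => compOK B2.table B3.table ws i) 512 20480 = true := by decide +kernel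

theorem compOK_20992 : allFrom (fun i => compOK B2.table B3.table ws i) 512 20992 = true := by decide +kernel

theorem compOK_21504 : allFrom (fun i => compOK B2.table B3.table ws i) 512 21504 = true := by decide +kernel

theorem compOK_22016 : allFrom (fun i => compOK B2.table B3.table ws i) 512 22016 = true := by decide +kernel

theorem compOK_22528 : allFrom (fun i => compOK B2.table B3.table ws i) 512 22528 = true := by decide +kernel

theorem compOK_23040 : allFrom (fun i => compOK B2.table B3.table ws i) 512 23040 = true := by decide +kernel

theorem compOK_23552 : allFrom (fun i => compOK B2.table B3.table ws i) 512 23552 = true := by decide +kernel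

theorem compOK_24064 : allFrom (fun i => compOK B2.table B3.table ws i) 512 24064 = true := by decide +kernel

theorem compOK_24576 : allFrom (fun i => compOK B2.table B3.table ws i) 512 24576 = true := by decide +kernel

theorem compOK_25088 : allFrom (fun i => compOK B2.table B3.table ws i) 512 25088 = true := by decide +kernel

theorem compOK_25600 : allFrom (fun i => compOK B2.table B3.table ws i) 512 25600 = true := by decide +kernel

theorem compOK_26112 : allFrom (fun i => compOK B2.table B3.table ws i) 512 26112 = true := by decide +kernel

theorem compOK_26624 : allFrom (fun i => compOK B2.table B3.table ws i) 512 26624 = true := by decide +kernel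

theorem compOK_27136 : allFrom (fun i => compOK B2.table B3.table ws i) 512 27136 = true := by decide +kernel

theorem compOK_27648 : allFrom (fun i => compOK B2.table B3.table ws i) 512 27648 = true := by decide +kernel

theorem compOK_28160 : allFrom (fun i => compOK B2.table B3.table ws i) 512 28160 = true := by decide +kernel

theorem compOK_28672 : allFrom (fun i => compOK B2.table B3.table ws i) 512 28672 = true := by decide +kernel

theorem compOK_29184 : allFrom (fun i => compOK B2.table B3.table ws i) 512 29184 = true := by decide +kernel

theorem compOK_29696 : allFrom (fun i => compOK B2.table B3.table ws i) 512 29696 = true := by decide +kernel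

theorem compOK_30208 : allFrom (fun i => compOK B2.table B3.table ws i) 512 30208 = true := by decide +kernel

theorem compOK_30720 : allFrom (fun i => compOK B2.table B3.table ws i) 512 30720 = true := by decide +kernel

theorem compOK_31232 : allFrom (fun i => compOK B2.table B3.table ws i) 439 31232 = true := by decide +kernel

end B3

end Base

end CfsgLib.CosetEnum.Fi23
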