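import Cfsg.Agent.Lib.CosetEnum.Fi23.BaseD

set_option autoImplicit false

set_option linter.all false

namespace CfsgLib.CosetEnum.Fi23

namespace Base

open CfsgLib.CosetEnum

namespace B0

theorem compOK_6656 : allFrom (fun i => compOK CfsgLib.CosetEnum.Fi23.subTable B0.table ws i) 512 6656 = true := by decide +kernel

theorem compOK_7168 : allFrom (fun i => compOK CfsgLib.CosetEnum.Fi23.subTable B0.table ws i) 512 7168 = true := by decide +kernel

theorem compOK_7680 : allFrom (fun i => compOK CfsgLib.CosetEnum.Fi23.subTable B0.table ws i) 512 7680 = true := by decide +kernel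

theorem compOK_8192 : allFrom (fun i => compOK CfsgLib.CosetEnum.Fi23.subTable B0.table ws i) 512 8192 = true := by decide +kernel

theorem compOK_8704 : allFrom (fun i => compOK CfsgLib.CosetEnum.Fi23.subTable B0.table ws i) 512 8704 = true := by decide +kernel

theorem compOK_9216 : allFrom (fun i => compOK CfsgLib.CosetEnum.Fi23.subTable B0.table ws i) 512 9216 = true := by decide +kernel

theorem compOK_9728 : allFrom (fun i => compOK CfsgLib.CosetEnum.Fi23.subTable B0.table ws i) 512 9728 = true := by decide +kernel

theorem compOK_10240 : allFrom (fun i => compOK CfsgLib.CosetEnum.Fi23.subTable B0.table ws i) 512 10240 = true := by decide +kernel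

end B0

namespace B1

end B1

namespace B2

end B2

namespace B3

end B3

end Base

end CfsgLib.CosetEnum.Fi23
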