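import Cfsg.Agent.Lib.CosetEnum.Fi23.BaseD

set_option autoImplicit false

set_option linter.all false

namespace CfsgLib.CosetEnum.Fi23

namespace Base

open CfsgLib.CosetEnum

namespace B0

theorem compOK_10752 : allFrom (fun i => compOK CfsgLib.CosetEnum.Fi23.subTable B0.table ws i) 512 10752 = true := by decide +kernel

theorem compOK_11264 : allFrom (fun i => compOK CfsgLib.CosetEnum.Fi23.subTable B0.table ws i) 512 11264 = true := by decide +kernel

theorem compOK_11776 : allFrom (fun i => compOK CfsgLib.CosetEnum.Fi23.subTable B0.table ws i) 512 11776 = true := by decide +kernel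

theorem compOK_12288 : allFrom (fun i => compOK CfsgLib.CosetEnum.Fi23.subTable B0.table ws i) 512 12288 = true := by decide +kernel

theorem compOK_12800 : allFrom (fun i => compOK CfsgLib.CosetEnum.Fi23.subTable B0.table ws i) 512 12800 = true := by decide +kernel

theorem compOK_13312 : allFrom (fun i => compOK CfsgLib.CosetEnum.Fi23.subTable B0.table ws i) 512 13312 = true := by decide +kernel

theorem compOK_13824 : allFrom (fun i => compOK CfsgLib.CosetEnum.Fi23.subTable B0.table ws i) 512 13824 = true := by decide +kernel

theorem compOK_14336 : allFrom (fun i => compOK CfsgLib.CosetEnum.Fi23.subTable B0.table ws i) 512 14336 = true := by decide +kernel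

theorem compOK_14848 : allFrom (fun i => compOK CfsgLib.CosetEnum.Fi23.subTable B0.table ws i) 512 14848 = true := by decide +kernel

end B0

namespace B1

end B1

namespace B2

end B2

namespace B3

end B3

end Base

end CfsgLib.CosetEnum.Fi23
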