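import Cfsg.Agent.Lib.CosetEnum.Fi23.BaseD

set_option autoImplicit false

set_option linter.all false

namespace CfsgLib.CosetEnum.Fi23

namespace Base

open CfsgLib.CosetEnum

namespace B0

theorem compOK_28672 : allFrom (fun i => compOK CfsgLib.CosetEnum.Fi23.subTable B0.table ws i) 512 28672 = true := by decide +kernel

theorem compOK_29184 : allFrom (fun i => compOK CfsgLib.CosetEnum.Fi23.subTable B0.table ws i) 512 29184 = true := by decide +kernel

theorem compOK_29696 : allFrom (fun i => compOK CfsgLib.CosetEnum.Fi23.subTable B0.table ws i) 512 29696 = true := by decide +kernel

theorem compOK_30208 : allFrom (fun i => compOK CfsgLib.CosetEnum.Fi23.subTable B0.table ws i) 512 30208 = true := by decide +kernel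

theorem compOK_30720 : allFrom (fun i => compOK CfsgLib.CosetEnum.Fi23.subTable B0.table ws i) 512 30720 = true := by decide +kernel

theorem compOK_31232 : allFrom (fun i => compOK CfsgLib.CosetEnum.Fi23.subTable B0.table ws i) 439 31232 = true := by decide +kernel

end B0

namespace B1

theorem stepOK_0 : allFrom (fun i => stepOK B0.table pts par pos B0.table.length i) 1024 0 = true := by decide +kernel

theorem stepOK_1024 : allFrom (fun i => stepOK B0.table pts par pos B0.table.length i) 1024 1024 = true := by decide +kernel

theorem stepOK_2048 : allFrom (fun i => stepOK B0.table pts par pos B0.table.length i) 1024 2048 = true := by decide +kernel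

theorem stepOK_3072 : allFrom (fun i => stepOK B0.table pts par pos B0.table.length i) 87 3072 = true := by decide +kernel

theorem compOK_0 : allFrom (fun i => compOK B0.table B1.table ws i) 512 0 = true := by decide +kernel

theorem compOK_512 : allFrom (fun i => compOK B0.table B1.table ws i) 512 512 = true := by decide +kernel

theorem compOK_1024 : allFrom (fun i => compOK B0.table B1.table ws i) 512 1024 = true := by decide +kernel

theorem compOK_1536 : allFrom (fun i => compOK B0.table B1.table ws i) 512 1536 = true := by decide +kernel

theorem compOK_2048 : allFrom (fun i => compOK B0.table B1.table ws i) 512 2048 = true := by decide +kernel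

theorem compOK_2560 : allFrom (fun i => compOK B0.table B1.table ws i) 512 2560 = true := by decide +kernel

theorem compOK_3072 : allFrom (fun i => compOK B0.table B1.table ws i) 512 3072 = true := by decide +kernel

theorem compOK_3584 : allFrom (fun i => compOK B0.table B1.table ws i) 512 3584 = true := by decide +kernel

end B1

namespace B2

end B2

namespace B3

end B3

end Base

end CfsgLib.CosetEnum.Fi23
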