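import Cfsg.Agent.Lib.CosetEnum.Fi23.BaseD

set_option autoImplicit false

set_option linter.all false

namespace CfsgLib.CosetEnum.Fi23

namespace Base

open CfsgLib.CosetEnum

namespace B0

end B0

namespace B1

theorem compOK_23552 : allFrom (fun i => compOK B0.table B1.table ws i) 512 23552 = true := by decide +kernel

theorem compOK_24064 : allFrom (fun i => compOK B0.table B1.table ws i) 512 24064 = true := by decide +kernel

theorem compOK_24576 : allFrom (fun i => compOK B0.table B1.table ws i) 512 24576 = true := by decide +kernel

theorem compOK_25088 : allFrom (fun i => compOK B0.table B1.table ws i) 512 25088 = true := by decide +kernel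

theorem compOK_25600 : allFrom (fun i => compOK B0.table B1.table ws i) 512 25600 = true := by decide +kernel

theorem compOK_26112 : allFrom (fun i => compOK B0.table B1.table ws i) 512 26112 = true := by decide +kernel

theorem compOK_26624 : allFrom (fun i => compOK B0.table B1.table ws i) 512 26624 = true := by decide +kernel

theorem compOK_27136 : allFrom (fun i => compOK B0.table B1.table ws i) 512 27136 = true := by decide +kernel

theorem compOK_27648 : allFrom (fun i => compOK B0.table B1.table ws i) 512 27648 = true := by decide +kernel

theorem compOK_28160 : allFrom (fun i => compOK B0.table B1.table ws i) 512 28160 = true := by decide +kernel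

theorem compOK_28672 : allFrom (fun i => compOK B0.table B1.table ws i) 512 28672 = true := by decide +kernel

theorem compOK_29184 : allFrom (fun i => compOK B0.table B1.table ws i) 512 29184 = true := by decide +kernel

theorem compOK_29696 : allFrom (fun i => compOK B0.table B1.table ws i) 512 29696 = true := by decide +kernel

theorem compOK_30208 : allFrom (fun i => compOK B0.table B1.table ws i) 512 30208 = true := by decide +kernel

theorem compOK_30720 : allFrom (fun i => compOK B0.table B1.table ws i) 512 30720 = true := by decide +kernel

theorem compOK_31232 : allFrom (fun i => compOK B0.table B1.table ws i) 439 31232 = true := by decide +kernel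

end B1

namespace B2

theorem stepOK_0 : allFrom (fun i => stepOK B1.table pts par pos B1.table.length i) 1024 0 = true := by decide +kernel

theorem stepOK_1024 : allFrom (fun i => stepOK B1.table pts par pos B1.table.length i) 1024 1024 = true := by decide +kernel

theorem stepOK_2048 : allFrom (fun i => stepOK B1.table pts par pos B1.table.length i) 1024 2048 = true := by decide +kernel

theorem stepOK_3072 : allFrom (fun i => stepOK B1.table pts par pos B1.table.length i) 1024 3072 = true := by decide +kernel

theorem stepOK_4096 : allFrom (fun i => stepOK B1.table pts par pos B1.table.length i) 1024 4096 = true := by decide +kernel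

theorem stepOK_5120 : allFrom (fun i => stepOK B1.table pts par pos B1.table.length i) 1024 5120 = true := by decide +kernel

theorem stepOK_6144 : allFrom (fun i => stepOK B1.table pts par pos B1.table.length i) 1024 6144 = true := by decide +kernel

theorem stepOK_7168 : allFrom (fun i => stepOK B1.table pts par pos B1.table.length i) 1024 7168 = true := by decide +kernel

theorem stepOK_8192 : allFrom (fun i => stepOK B1.table pts par pos B1.table.length i) 1024 8192 = true := by decide +kernel

theorem stepOK_9216 : allFrom (fun i => stepOK B1.table pts par pos B1.table.length i) 1024 9216 = true := by decide +kernel

theorem stepOK_10240 : allFrom (fun i => stepOK B1.table pts par pos B1.table.length i) 1024 10240 = true := by decide +kernel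

theorem stepOK_11264 : allFrom (fun i => stepOK B1.table pts par pos B1.table.length i) 1024 11264 = true := by decide +kernel

theorem stepOK_12288 : allFrom (fun i => stepOK B1.table pts par pos B1.table.length i) 1024 12288 = true := by decide +kernel

theorem stepOK_13312 : allFrom (fun i => stepOK B1.table pts par pos B1.table.length i) 1024 13312 = true := by decide +kernel

theorem stepOK_14336 : allFrom (fun i => stepOK B1.table pts par pos B1.table.length i) 784 14336 = true := by decide +kernel

theorem compOK_0 : allFrom (fun i => compOK B1.table B2.table ws i) 512 0 = true := by decide +kernel

theorem compOK_512 : allFrom (fun i => compOK B1.table B2.table ws i) 512 512 = true := by decide +kernel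

theorem compOK_1024 : allFrom (fun i => compOK B1.table B2.table ws i) 512 1024 = true := by decide +kernel

theorem compOK_1536 : allFrom (fun i => compOK B1.table B2.table ws i) 512 1536 = true := by decide +kernel

theorem compOK_2048 : allFrom (fun i => compOK B1.table B2.table ws i) 512 2048 = true := by decide +kernel

theorem compOK_2560 : allFrom (fun i => compOK B1.table B2.table ws i) 512 2560 = true := by decide +kernel

end B2

namespace B3

end B3

end Base

end CfsgLib.CosetEnum.Fi23
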