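import Cfsg.Agent.Lib.CosetEnum.Fi23.Data
import Cfsg.Agent.Lib.CosetEnum.Fi23.BaseQ0
import Cfsg.Agent.Lib.CosetEnum.Fi23.BaseQ1
import Cfsg.Agent.Lib.CosetEnum.Fi23.BaseQ2
import Cfsg.Agent.Lib.CosetEnum.Fi23.BaseQ3
import Cfsg.Agent.Lib.CosetEnum.Fi23.BaseQ4
import Cfsg.Agent.Lib.CosetEnum.Fi23.BaseQ5
import Cfsg.Agent.Lib.CosetEnum.Fi23.BaseQ6
import Cfsg.Agent.Lib.CosetEnum.Fi23.BaseQ7
import Cfsg.Agent.Lib.CosetEnum.Fi23.BaseQ8
import Cfsg.Agent.Lib.CosetEnum.Fi23.BaseQ9
import Cfsg.Agent.Lib.CosetEnum.Fi23.BaseQ10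
import Cfsg.Agent.Lib.CosetEnum.Fi23.BaseQ11
import Cfsg.Agent.Lib.CosetEnum.Fi23.BaseQ12

set_option autoImplicit false

set_option linter.all false

namespace CfsgLib.CosetEnum.Fi23

namespace Base

open CfsgLib.CosetEnum

namespace B0

theorem step_ok_upto1024 : ∀ k < 1024, stepOK CfsgLib.CosetEnum.Fi23.subTable pts par pos CfsgLib.CosetEnum.Fi23.subTable.length k = true := fun k hk =>
  have h : 0 ≤ k := Nat.zero_le k
  allFrom_spec _ _ _ stepOK_0 k h hk

theorem step_ok_upto2048 : ∀ k < 2048, stepOK CfsgLib.CosetEnum.Fi23.subTable pts par pos CfsgLib.CosetEnum.Fi23.subTable.length k = true := fun k hk =>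
  (Nat.lt_or_ge k 1024).elim (step_ok_upto1024 k) fun h =>
    allFrom_spec _ _ _ stepOK_1024 k h hk

theorem step_ok_upto3072 : ∀ k < 3072, stepOK CfsgLib.CosetEnum.Fi23.subTable pts par pos CfsgLib.CosetEnum.Fi23.subTable.length k = true := fun k hk =>
  (Nat.lt_or_ge k 2048).elim (step_ok_upto2048 k) fun h =>
    allFrom_spec _ _ _ stepOK_2048 k h hk

theorem step_ok_upto4096 : ∀ k < 4096, stepOK CfsgLib.CosetEnum.Fi23.subTable pts par pos CfsgLib.CosetEnum.Fi23.subTable.length k = true := fun k hk =>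
  (Nat.lt_or_ge k 3072).elim (step_ok_upto3072 k) fun h =>
    allFrom_spec _ _ _ stepOK_3072 k h hk

theorem step_ok_upto5120 : ∀ k < 5120, stepOK CfsgLib.CosetEnum.Fi23.subTable pts par pos CfsgLib.CosetEnum.Fi23.subTable.length k = true := fun k hk =>
  (Nat.lt_or_ge k 4096).elim (step_ok_upto4096 k) fun h =>
    allFrom_spec _ _ _ stepOK_4096 k h hk

theorem step_ok_upto6144 : ∀ k < 6144, stepOK CfsgLib.CosetEnum.Fi23.subTable pts par pos CfsgLib.CosetEnum.Fi23.subTable.length k = true := fun k hk =>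
  (Nat.lt_or_ge k 5120).elim (step_ok_upto5120 k) fun h =>
    allFrom_spec _ _ _ stepOK_5120 k h hk

theorem step_ok_upto7168 : ∀ k < 7168, stepOK CfsgLib.CosetEnum.Fi23.subTable pts par pos CfsgLib.CosetEnum.Fi23.subTable.length k = true := fun k hk =>
  (Nat.lt_or_ge k 6144).elim (step_ok_upto6144 k) fun h =>
    allFrom_spec _ _ _ stepOK_6144 k h hk

theorem step_ok_upto8192 : ∀ k < 8192, stepOK CfsgLib.CosetEnum.Fi23.subTable pts par pos CfsgLib.CosetEnum.Fi23.subTable.length k = true := fun k hk =>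
  (Nat.lt_or_ge k 7168).elim (step_ok_upto7168 k) fun h =>
    allFrom_spec _ _ _ stepOK_7168 k h hk

theorem step_ok_upto9216 : ∀ k < 9216, stepOK CfsgLib.CosetEnum.Fi23.subTable pts par pos CfsgLib.CosetEnum.Fi23.subTable.length k = true := fun k hk =>
  (Nat.lt_or_ge k 8192).elim (step_ok_upto8192 k) fun h =>
    allFrom_spec _ _ _ stepOK_8192 k h hk

theorem step_ok_upto10240 : ∀ k < 10240, stepOK CfsgLib.CosetEnum.Fi23.subTable pts par pos CfsgLib.CosetEnum.Fi23.subTable.length k = true := fun k hk =>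
  (Nat.lt_or_ge k 9216).elim (step_ok_upto9216 k) fun h =>
    allFrom_spec _ _ _ stepOK_9216 k h hk

theorem step_ok_upto11264 : ∀ k < 11264, stepOK CfsgLib.CosetEnum.Fi23.subTable pts par pos CfsgLib.CosetEnum.Fi23.subTable.length k = true := fun k hk =>
  (Nat.lt_or_ge k 10240).elim (step_ok_upto10240 k) fun h =>
    allFrom_spec _ _ _ stepOK_10240 k h hk

theorem step_ok_upto12288 : ∀ k < 12288, stepOK CfsgLib.CosetEnum.Fi23.subTable pts par pos CfsgLib.CosetEnum.Fi23.subTable.length k = true := fun k hk =>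
  (Nat.lt_or_ge k 11264).elim (step_ok_upto11264 k) fun h =>
    allFrom_spec _ _ _ stepOK_11264 k h hk

theorem step_ok_upto13312 : ∀ k < 13312, stepOK CfsgLib.CosetEnum.Fi23.subTable pts par pos CfsgLib.CosetEnum.Fi23.subTable.length k = true := fun k hk =>
  (Nat.lt_or_ge k 12288).elim (step_ok_upto12288 k) fun h =>
    allFrom_spec _ _ _ stepOK_12288 k h hk

theorem step_ok_upto14336 : ∀ k < 14336, stepOK CfsgLib.CosetEnum.Fi23.subTable pts par pos CfsgLib.CosetEnum.Fi23.subTable.length k = true := fun k hk =>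
  (Nat.lt_or_ge k 13312).elim (step_ok_upto13312 k) fun h =>
    allFrom_spec _ _ _ stepOK_13312 k h hk

theorem step_ok_upto15360 : ∀ k < 15360, stepOK CfsgLib.CosetEnum.Fi23.subTable pts par pos CfsgLib.CosetEnum.Fi23.subTable.length k = true := fun k hk =>
  (Nat.lt_or_ge k 14336).elim (step_ok_upto14336 k) fun h =>
    allFrom_spec _ _ _ stepOK_14336 k h hk

theorem step_ok_upto16384 : ∀ k < 16384, stepOK CfsgLib.CosetEnum.Fi23.subTable pts par pos CfsgLib.CosetEnum.Fi23.subTable.length k = true := fun k hk =>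
  (Nat.lt_or_ge k 15360).elim (step_ok_upto15360 k) fun h =>
    allFrom_spec _ _ _ stepOK_15360 k h hk

theorem step_ok_upto17408 : ∀ k < 17408, stepOK CfsgLib.CosetEnum.Fi23.subTable pts par pos CfsgLib.CosetEnum.Fi23.subTable.length k = true := fun k hk =>
  (Nat.lt_or_ge k 16384).elim (step_ok_upto16384 k) fun h =>
    allFrom_spec _ _ _ stepOK_16384 k h hk

theorem step_ok_upto18432 : ∀ k < 18432, stepOK CfsgLib.CosetEnum.Fi23.subTable pts par pos CfsgLib.CosetEnum.Fi23.subTable.length k = true := fun k hk =>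
  (Nat.lt_or_ge k 17408).elim (step_ok_upto17408 k) fun h =>
    allFrom_spec _ _ _ stepOK_17408 k h hk

theorem step_ok_upto19456 : ∀ k < 19456, stepOK CfsgLib.CosetEnum.Fi23.subTable pts par pos CfsgLib.CosetEnum.Fi23.subTable.length k = true := fun k hk =>
  (Nat.lt_or_ge k 18432).elim (step_ok_upto18432 k) fun h =>
    allFrom_spec _ _ _ stepOK_18432 k h hk

theorem step_ok_upto20480 : ∀ k < 20480, stepOK CfsgLib.CosetEnum.Fi23.subTable pts par pos CfsgLib.CosetEnum.Fi23.subTable.length k = true := fun k hk =>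
  (Nat.lt_or_ge k 19456).elim (step_ok_upto19456 k) fun h =>
    allFrom_spec _ _ _ stepOK_19456 k h hk

theorem step_ok_upto21504 : ∀ k < 21504, stepOK CfsgLib.CosetEnum.Fi23.subTable pts par pos CfsgLib.CosetEnum.Fi23.subTable.length k = true := fun k hk =>
  (Nat.lt_or_ge k 20480).elim (step_ok_upto20480 k) fun h =>
    allFrom_spec _ _ _ stepOK_20480 k h hk

theorem step_ok_upto22528 : ∀ k < 22528, stepOK CfsgLib.CosetEnum.Fi23.subTable pts par pos CfsgLib.CosetEnum.Fi23.subTable.length k = true := fun k hk =>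
  (Nat.lt_or_ge k 21504).elim (step_ok_upto21504 k) fun h =>
    allFrom_spec _ _ _ stepOK_21504 k h hk

theorem step_ok_upto23552 : ∀ k < 23552, stepOK CfsgLib.CosetEnum.Fi23.subTable pts par pos CfsgLib.CosetEnum.Fi23.subTable.length k = true := fun k hk =>
  (Nat.lt_or_ge k 22528).elim (step_ok_upto22528 k) fun h =>
    allFrom_spec _ _ _ stepOK_22528 k h hk

theorem step_ok_upto24576 : ∀ k < 24576, stepOK CfsgLib.CosetEnum.Fi23.subTable pts par pos CfsgLib.CosetEnum.Fi23.subTable.length k = true := fun k hk =>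
  (Nat.lt_or_ge k 23552).elim (step_ok_upto23552 k) fun h =>
    allFrom_spec _ _ _ stepOK_23552 k h hk

theorem step_ok_upto25600 : ∀ k < 25600, stepOK CfsgLib.CosetEnum.Fi23.subTable pts par pos CfsgLib.CosetEnum.Fi23.subTable.length k = true := fun k hk =>
  (Nat.lt_or_ge k 24576).elim (step_ok_upto24576 k) fun h =>
    allFrom_spec _ _ _ stepOK_24576 k h hk

theorem step_ok_upto26624 : ∀ k < 26624, stepOK CfsgLib.CosetEnum.Fi23.subTable pts par pos CfsgLib.CosetEnum.Fi23.subTable.length k = true := fun k hk =>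
  (Nat.lt_or_ge k 25600).elim (step_ok_upto25600 k) fun h =>
    allFrom_spec _ _ _ stepOK_25600 k h hk

theorem step_ok_upto27648 : ∀ k < 27648, stepOK CfsgLib.CosetEnum.Fi23.subTable pts par pos CfsgLib.CosetEnum.Fi23.subTable.length k = true := fun k hk =>
  (Nat.lt_or_ge k 26624).elim (step_ok_upto26624 k) fun h =>
    allFrom_spec _ _ _ stepOK_26624 k h hk

theorem step_ok_upto28160 : ∀ k < 28160, stepOK CfsgLib.CosetEnum.Fi23.subTable pts par pos CfsgLib.CosetEnum.Fi23.subTable.length k = true := fun k hk =>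
  (Nat.lt_or_ge k 27648).elim (step_ok_upto27648 k) fun h =>
    allFrom_spec _ _ _ stepOK_27648 k h hk

theorem step_ok : ∀ k < 28160, stepOK CfsgLib.CosetEnum.Fi23.subTable pts par pos CfsgLib.CosetEnum.Fi23.subTable.length k = true := step_ok_upto28160

theorem comp_ok_upto512 : ∀ k < 512, compOK CfsgLib.CosetEnum.Fi23.subTable B0.table ws k = true := fun k hk =>
  have h : 0 ≤ k := Nat.zero_le k
  allFrom_spec _ _ _ compOK_0 k h hk

theorem comp_ok_upto1024 : ∀ k < 1024, compOK CfsgLib.CosetEnum.Fi23.subTable B0.table ws k = true := fun k hk =>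
  (Nat.lt_or_ge k 512).elim (comp_ok_upto512 k) fun h =>
    allFrom_spec _ _ _ compOK_512 k h hk

theorem comp_ok_upto1536 : ∀ k < 1536, compOK CfsgLib.CosetEnum.Fi23.subTable B0.table ws k = true := fun k hk =>
  (Nat.lt_or_ge k 1024).elim (comp_ok_upto1024 k) fun h =>
    allFrom_spec _ _ _ compOK_1024 k h hk

theorem comp_ok_upto2048 : ∀ k < 2048, compOK CfsgLib.CosetEnum.Fi23.subTable B0.table ws k = true := fun k hk =>
  (Nat.lt_or_ge k 1536).elim (comp_ok_upto1536 k) fun h =>
    allFrom_spec _ _ _ compOK_1536 k h hk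

theorem comp_ok_upto2560 : ∀ k < 2560, compOK CfsgLib.CosetEnum.Fi23.subTable B0.table ws k = true := fun k hk =>
  (Nat.lt_or_ge k 2048).elim (comp_ok_upto2048 k) fun h =>
    allFrom_spec _ _ _ compOK_2048 k h hk

theorem comp_ok_upto3072 : ∀ k < 3072, compOK CfsgLib.CosetEnum.Fi23.subTable B0.table ws k = true := fun k hk =>
  (Nat.lt_or_ge k 2560).elim (comp_ok_upto2560 k) fun h =>
    allFrom_spec _ _ _ compOK_2560 k h hk

theorem comp_ok_upto3584 : ∀ k < 3584, compOK CfsgLib.CosetEnum.Fi23.subTable B0.table ws k = true := fun k hk =>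
  (Nat.lt_or_ge k 3072).elim (comp_ok_upto3072 k) fun h =>
    allFrom_spec _ _ _ compOK_3072 k h hk

theorem comp_ok_upto4096 : ∀ k < 4096, compOK CfsgLib.CosetEnum.Fi23.subTable B0.table ws k = true := fun k hk =>
  (Nat.lt_or_ge k 3584).elim (comp_ok_upto3584 k) fun h =>
    allFrom_spec _ _ _ compOK_3584 k h hk

theorem comp_ok_upto4608 : ∀ k < 4608, compOK CfsgLib.CosetEnum.Fi23.subTable B0.table ws k = true := fun k hk =>
  (Nat.lt_or_ge k 4096).elim (comp_ok_upto4096 k) fun h =>
    allFrom_spec _ _ _ compOK_4096 k h hk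

theorem comp_ok_upto5120 : ∀ k < 5120, compOK CfsgLib.CosetEnum.Fi23.subTable B0.table ws k = true := fun k hk =>
  (Nat.lt_or_ge k 4608).elim (comp_ok_upto4608 k) fun h =>
    allFrom_spec _ _ _ compOK_4608 k h hk

theorem comp_ok_upto5632 : ∀ k < 5632, compOK CfsgLib.CosetEnum.Fi23.subTable B0.table ws k = true := fun k hk =>
  (Nat.lt_or_ge k 5120).elim (comp_ok_upto5120 k) fun h =>
    allFrom_spec _ _ _ compOK_5120 k h hk

theorem comp_ok_upto6144 : ∀ k < 6144, compOK CfsgLib.CosetEnum.Fi23.subTable B0.table ws k = true := fun k hk =>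
  (Nat.lt_or_ge k 5632).elim (comp_ok_upto5632 k) fun h =>
    allFrom_spec _ _ _ compOK_5632 k h hk

theorem comp_ok_upto6656 : ∀ k < 6656, compOK CfsgLib.CosetEnum.Fi23.subTable B0.table ws k = true := fun k hk =>
  (Nat.lt_or_ge k 6144).elim (comp_ok_upto6144 k) fun h =>
    allFrom_spec _ _ _ compOK_6144 k h hk

theorem comp_ok_upto7168 : ∀ k < 7168, compOK CfsgLib.CosetEnum.Fi23.subTable B0.table ws k = true := fun k hk =>
  (Nat.lt_or_ge k 6656).elim (comp_ok_upto6656 k) fun h =>
    allFrom_spec _ _ _ compOK_6656 k h hk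

theorem comp_ok_upto7680 : ∀ k < 7680, compOK CfsgLib.CosetEnum.Fi23.subTable B0.table ws k = true := fun k hk =>
  (Nat.lt_or_ge k 7168).elim (comp_ok_upto7168 k) fun h =>
    allFrom_spec _ _ _ compOK_7168 k h hk

theorem comp_ok_upto8192 : ∀ k < 8192, compOK CfsgLib.CosetEnum.Fi23.subTable B0.table ws k = true := fun k hk =>
  (Nat.lt_or_ge k 7680).elim (comp_ok_upto7680 k) fun h =>
    allFrom_spec _ _ _ compOK_7680 k h hk

theorem comp_ok_upto8704 : ∀ k < 8704, compOK CfsgLib.CosetEnum.Fi23.subTable B0.table ws k = true := fun k hk =>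
  (Nat.lt_or_ge k 8192).elim (comp_ok_upto8192 k) fun h =>
    allFrom_spec _ _ _ compOK_8192 k h hk

theorem comp_ok_upto9216 : ∀ k < 9216, compOK CfsgLib.CosetEnum.Fi23.subTable B0.table ws k = true := fun k hk =>
  (Nat.lt_or_ge k 8704).elim (comp_ok_upto8704 k) fun h =>
    allFrom_spec _ _ _ compOK_8704 k h hk

theorem comp_ok_upto9728 : ∀ k < 9728, compOK CfsgLib.CosetEnum.Fi23.subTable B0.table ws k = true := fun k hk =>
  (Nat.lt_or_ge k 9216).elim (comp_ok_upto9216 k) fun h =>
    allFrom_spec _ _ _ compOK_9216 k h hk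

theorem comp_ok_upto10240 : ∀ k < 10240, compOK CfsgLib.CosetEnum.Fi23.subTable B0.table ws k = true := fun k hk =>
  (Nat.lt_or_ge k 9728).elim (comp_ok_upto9728 k) fun h =>
    allFrom_spec _ _ _ compOK_9728 k h hk

theorem comp_ok_upto10752 : ∀ k < 10752, compOK CfsgLib.CosetEnum.Fi23.subTable B0.table ws k = true := fun k hk =>
  (Nat.lt_or_ge k 10240).elim (comp_ok_upto10240 k) fun h =>
    allFrom_spec _ _ _ compOK_10240 k h hk

theorem comp_ok_upto11264 : ∀ k < 11264, compOK CfsgLib.CosetEnum.Fi23.subTable B0.table ws k = true := fun k hk =>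
  (Nat.lt_or_ge k 10752).elim (comp_ok_upto10752 k) fun h =>
    allFrom_spec _ _ _ compOK_10752 k h hk

theorem comp_ok_upto11776 : ∀ k < 11776, compOK CfsgLib.CosetEnum.Fi23.subTable B0.table ws k = true := fun k hk =>
  (Nat.lt_or_ge k 11264).elim (comp_ok_upto11264 k) fun h =>
    allFrom_spec _ _ _ compOK_11264 k h hk

theorem comp_ok_upto12288 : ∀ k < 12288, compOK CfsgLib.CosetEnum.Fi23.subTable B0.table ws k = true := fun k hk =>
  (Nat.lt_or_ge k 11776).elim (comp_ok_upto11776 k) fun h =>
    allFrom_spec _ _ _ compOK_11776 k h hk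

theorem comp_ok_upto12800 : ∀ k < 12800, compOK CfsgLib.CosetEnum.Fi23.subTable B0.table ws k = true := fun k hk =>
  (Nat.lt_or_ge k 12288).elim (comp_ok_upto12288 k) fun h =>
    allFrom_spec _ _ _ compOK_12288 k h hk

theorem comp_ok_upto13312 : ∀ k < 13312, compOK CfsgLib.CosetEnum.Fi23.subTable B0.table ws k = true := fun k hk =>
  (Nat.lt_or_ge k 12800).elim (comp_ok_upto12800 k) fun h =>
    allFrom_spec _ _ _ compOK_12800 k h hk

theorem comp_ok_upto13824 : ∀ k < 13824, compOK CfsgLib.CosetEnum.Fi23.subTable B0.table ws k = true := fun k hk =>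
  (Nat.lt_or_ge k 13312).elim (comp_ok_upto13312 k) fun h =>
    allFrom_spec _ _ _ compOK_13312 k h hk

theorem comp_ok_upto14336 : ∀ k < 14336, compOK CfsgLib.CosetEnum.Fi23.subTable B0.table ws k = true := fun k hk =>
  (Nat.lt_or_ge k 13824).elim (comp_ok_upto13824 k) fun h =>
    allFrom_spec _ _ _ compOK_13824 k h hk

theorem comp_ok_upto14848 : ∀ k < 14848, compOK CfsgLib.CosetEnum.Fi23.subTable B0.table ws k = true := fun k hk =>
  (Nat.lt_or_ge k 14336).elim (comp_ok_upto14336 k) fun h =>
    allFrom_spec _ _ _ compOK_14336 k h hk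

theorem comp_ok_upto15360 : ∀ k < 15360, compOK CfsgLib.CosetEnum.Fi23.subTable B0.table ws k = true := fun k hk =>
  (Nat.lt_or_ge k 14848).elim (comp_ok_upto14848 k) fun h =>
    allFrom_spec _ _ _ compOK_14848 k h hk

theorem comp_ok_upto15872 : ∀ k < 15872, compOK CfsgLib.CosetEnum.Fi23.subTable B0.table ws k = true := fun k hk =>
  (Nat.lt_or_ge k 15360).elim (comp_ok_upto15360 k) fun h =>
    allFrom_spec _ _ _ compOK_15360 k h hk

theorem comp_ok_upto16384 : ∀ k < 16384, compOK CfsgLib.CosetEnum.Fi23.subTable B0.table ws k = true := fun k hk =>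
  (Nat.lt_or_ge k 15872).elim (comp_ok_upto15872 k) fun h =>
    allFrom_spec _ _ _ compOK_15872 k h hk

theorem comp_ok_upto16896 : ∀ k < 16896, compOK CfsgLib.CosetEnum.Fi23.subTable B0.table ws k = true := fun k hk =>
  (Nat.lt_or_ge k 16384).elim (comp_ok_upto16384 k) fun h =>
    allFrom_spec _ _ _ compOK_16384 k h hk

theorem comp_ok_upto17408 : ∀ k < 17408, compOK CfsgLib.CosetEnum.Fi23.subTable B0.table ws k = true := fun k hk =>
  (Nat.lt_or_ge k 16896).elim (comp_ok_upto16896 k) fun h =>
    allFrom_spec _ _ _ compOK_16896 k h hk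

theorem comp_ok_upto17920 : ∀ k < 17920, compOK CfsgLib.CosetEnum.Fi23.subTable B0.table ws k = true := fun k hk =>
  (Nat.lt_or_ge k 17408).elim (comp_ok_upto17408 k) fun h =>
    allFrom_spec _ _ _ compOK_17408 k h hk

theorem comp_ok_upto18432 : ∀ k < 18432, compOK CfsgLib.CosetEnum.Fi23.subTable B0.table ws k = true := fun k hk =>
  (Nat.lt_or_ge k 17920).elim (comp_ok_upto17920 k) fun h =>
    allFrom_spec _ _ _ compOK_17920 k h hk

theorem comp_ok_upto18944 : ∀ k < 18944, compOK CfsgLib.CosetEnum.Fi23.subTable B0.table ws k = true := fun k hk =>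
  (Nat.lt_or_ge k 18432).elim (comp_ok_upto18432 k) fun h =>
    allFrom_spec _ _ _ compOK_18432 k h hk

theorem comp_ok_upto19456 : ∀ k < 19456, compOK CfsgLib.CosetEnum.Fi23.subTable B0.table ws k = true := fun k hk =>
  (Nat.lt_or_ge k 18944).elim (comp_ok_upto18944 k) fun h =>
    allFrom_spec _ _ _ compOK_18944 k h hk

theorem comp_ok_upto19968 : ∀ k < 19968, compOK CfsgLib.CosetEnum.Fi23.subTable B0.table ws k = true := fun k hk =>
  (Nat.lt_or_ge k 19456).elim (comp_ok_upto19456 k) fun h =>
    allFrom_spec _ _ _ compOK_19456 k h hk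

theorem comp_ok_upto20480 : ∀ k < 20480, compOK CfsgLib.CosetEnum.Fi23.subTable B0.table ws k = true := fun k hk =>
  (Nat.lt_or_ge k 19968).elim (comp_ok_upto19968 k) fun h =>
    allFrom_spec _ _ _ compOK_19968 k h hk

theorem comp_ok_upto20992 : ∀ k < 20992, compOK CfsgLib.CosetEnum.Fi23.subTable B0.table ws k = true := fun k hk =>
  (Nat.lt_or_ge k 20480).elim (comp_ok_upto20480 k) fun h =>
    allFrom_spec _ _ _ compOK_20480 k h hk

theorem comp_ok_upto21504 : ∀ k < 21504, compOK CfsgLib.CosetEnum.Fi23.subTable B0.table ws k = true := fun k hk =>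
  (Nat.lt_or_ge k 20992).elim (comp_ok_upto20992 k) fun h =>
    allFrom_spec _ _ _ compOK_20992 k h hk

theorem comp_ok_upto22016 : ∀ k < 22016, compOK CfsgLib.CosetEnum.Fi23.subTable B0.table ws k = true := fun k hk =>
  (Nat.lt_or_ge k 21504).elim (comp_ok_upto21504 k) fun h =>
    allFrom_spec _ _ _ compOK_21504 k h hk

theorem comp_ok_upto22528 : ∀ k < 22528, compOK CfsgLib.CosetEnum.Fi23.subTable B0.table ws k = true := fun k hk =>
  (Nat.lt_or_ge k 22016).elim (comp_ok_upto22016 k) fun h =>
    allFrom_spec _ _ _ compOK_22016 k h hk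

theorem comp_ok_upto23040 : ∀ k < 23040, compOK CfsgLib.CosetEnum.Fi23.subTable B0.table ws k = true := fun k hk =>
  (Nat.lt_or_ge k 22528).elim (comp_ok_upto22528 k) fun h =>
    allFrom_spec _ _ _ compOK_22528 k h hk

theorem comp_ok_upto23552 : ∀ k < 23552, compOK CfsgLib.CosetEnum.Fi23.subTable B0.table ws k = true := fun k hk =>
  (Nat.lt_or_ge k 23040).elim (comp_ok_upto23040 k) fun h =>
    allFrom_spec _ _ _ compOK_23040 k h hk

theorem comp_ok_upto24064 : ∀ k < 24064, compOK CfsgLib.CosetEnum.Fi23.subTable B0.table ws k = true := fun k hk =>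
  (Nat.lt_or_ge k 23552).elim (comp_ok_upto23552 k) fun h =>
    allFrom_spec _ _ _ compOK_23552 k h hk

theorem comp_ok_upto24576 : ∀ k < 24576, compOK CfsgLib.CosetEnum.Fi23.subTable B0.table ws k = true := fun k hk =>
  (Nat.lt_or_ge k 24064).elim (comp_ok_upto24064 k) fun h =>
    allFrom_spec _ _ _ compOK_24064 k h hk

theorem comp_ok_upto25088 : ∀ k < 25088, compOK CfsgLib.CosetEnum.Fi23.subTable B0.table ws k = true := fun k hk =>
  (Nat.lt_or_ge k 24576).elim (comp_ok_upto24576 k) fun h =>
    allFrom_spec _ _ _ compOK_24576 k h hk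

theorem comp_ok_upto25600 : ∀ k < 25600, compOK CfsgLib.CosetEnum.Fi23.subTable B0.table ws k = true := fun k hk =>
  (Nat.lt_or_ge k 25088).elim (comp_ok_upto25088 k) fun h =>
    allFrom_spec _ _ _ compOK_25088 k h hk

theorem comp_ok_upto26112 : ∀ k < 26112, compOK CfsgLib.CosetEnum.Fi23.subTable B0.table ws k = true := fun k hk =>
  (Nat.lt_or_ge k 25600).elim (comp_ok_upto25600 k) fun h =>
    allFrom_spec _ _ _ compOK_25600 k h hk

theorem comp_ok_upto26624 : ∀ k < 26624, compOK CfsgLib.CosetEnum.Fi23.subTable B0.table ws k = true := fun k hk =>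
  (Nat.lt_or_ge k 26112).elim (comp_ok_upto26112 k) fun h =>
    allFrom_spec _ _ _ compOK_26112 k h hk

theorem comp_ok_upto27136 : ∀ k < 27136, compOK CfsgLib.CosetEnum.Fi23.subTable B0.table ws k = true := fun k hk =>
  (Nat.lt_or_ge k 26624).elim (comp_ok_upto26624 k) fun h =>
    allFrom_spec _ _ _ compOK_26624 k h hk

theorem comp_ok_upto27648 : ∀ k < 27648, compOK CfsgLib.CosetEnum.Fi23.subTable B0.table ws k = true := fun k hk =>
  (Nat.lt_or_ge k 27136).elim (comp_ok_upto27136 k) fun h =>
    allFrom_spec _ _ _ compOK_27136 k h hk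

theorem comp_ok_upto28160 : ∀ k < 28160, compOK CfsgLib.CosetEnum.Fi23.subTable B0.table ws k = true := fun k hk =>
  (Nat.lt_or_ge k 27648).elim (comp_ok_upto27648 k) fun h =>
    allFrom_spec _ _ _ compOK_27648 k h hk

theorem comp_ok_upto28672 : ∀ k < 28672, compOK CfsgLib.CosetEnum.Fi23.subTable B0.table ws k = true := fun k hk =>
  (Nat.lt_or_ge k 28160).elim (comp_ok_upto28160 k) fun h =>
    allFrom_spec _ _ _ compOK_28160 k h hk

theorem comp_ok_upto29184 : ∀ k < 29184, compOK CfsgLib.CosetEnum.Fi23.subTable B0.table ws k = true := fun k hk =>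
  (Nat.lt_or_ge k 28672).elim (comp_ok_upto28672 k) fun h =>
    allFrom_spec _ _ _ compOK_28672 k h hk

theorem comp_ok_upto29696 : ∀ k < 29696, compOK CfsgLib.CosetEnum.Fi23.subTable B0.table ws k = true := fun k hk =>
  (Nat.lt_or_ge k 29184).elim (comp_ok_upto29184 k) fun h =>
    allFrom_spec _ _ _ compOK_29184 k h hk

theorem comp_ok_upto30208 : ∀ k < 30208, compOK CfsgLib.CosetEnum.Fi23.subTable B0.table ws k = true := fun k hk =>
  (Nat.lt_or_ge k 29696).elim (comp_ok_upto29696 k) fun h =>
    allFrom_spec _ _ _ compOK_29696 k h hk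

theorem comp_ok_upto30720 : ∀ k < 30720, compOK CfsgLib.CosetEnum.Fi23.subTable B0.table ws k = true := fun k hk =>
  (Nat.lt_or_ge k 30208).elim (comp_ok_upto30208 k) fun h =>
    allFrom_spec _ _ _ compOK_30208 k h hk

theorem comp_ok_upto31232 : ∀ k < 31232, compOK CfsgLib.CosetEnum.Fi23.subTable B0.table ws k = true := fun k hk =>
  (Nat.lt_or_ge k 30720).elim (comp_ok_upto30720 k) fun h =>
    allFrom_spec _ _ _ compOK_30720 k h hk

theorem comp_ok_upto31671 : ∀ k < 31671, compOK CfsgLib.CosetEnum.Fi23.subTable B0.table ws k = true := fun k hk =>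
  (Nat.lt_or_ge k 31232).elim (comp_ok_upto31232 k) fun h =>
    allFrom_spec _ _ _ compOK_31232 k h hk

theorem comp_ok : ∀ k < 31671, compOK CfsgLib.CosetEnum.Fi23.subTable B0.table ws k = true := comp_ok_upto31671

theorem step {G : Type} [Group G] (π : G →* Equiv.Perm (Fin 31671)) {K : Subgroup G} [Finite K] (hT : Realised π K CfsgLib.CosetEnum.Fi23.subTable) :
    ∃ H : Subgroup G, Finite H ∧ Realised π H B0.table ∧ 28160 * Nat.card H ≤ Nat.card K :=
  base_step π hT B0.table ws pts par pos 1 28160 (by omega) (by decide +kernel) step_ok (by decide +kernel) rfl comp_ok (by decide +kernel)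

end B0

namespace B1

theorem step_ok_upto1024 : ∀ k < 1024, stepOK B0.table pts par pos B0.table.length k = true := fun k hk =>
  have h : 0 ≤ k := Nat.zero_le k
  allFrom_spec _ _ _ stepOK_0 k h hk

theorem step_ok_upto2048 : ∀ k < 2048, stepOK B0.table pts par pos B0.table.length k = true := fun k hk =>
  (Nat.lt_or_ge k 1024).elim (step_ok_upto1024 k) fun h =>
    allFrom_spec _ _ _ stepOK_1024 k h hk

theorem step_ok_upto3072 : ∀ k < 3072, stepOK B0.table pts par pos B0.table.length k = true := fun k hk =>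
  (Nat.lt_or_ge k 2048).elim (step_ok_upto2048 k) fun h =>
    allFrom_spec _ _ _ stepOK_2048 k h hk

theorem step_ok_upto3159 : ∀ k < 3159, stepOK B0.table pts par pos B0.table.length k = true := fun k hk =>
  (Nat.lt_or_ge k 3072).elim (step_ok_upto3072 k) fun h =>
    allFrom_spec _ _ _ stepOK_3072 k h hk

theorem step_ok : ∀ k < 3159, stepOK B0.table pts par pos B0.table.length k = true := step_ok_upto3159

theorem comp_ok_upto512 : ∀ k < 512, compOK B0.table B1.table ws k = true := fun k hk =>
  have h : 0 ≤ k := Nat.zero_le k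
  allFrom_spec _ _ _ compOK_0 k h hk

theorem comp_ok_upto1024 : ∀ k < 1024, compOK B0.table B1.table ws k = true := fun k hk =>
  (Nat.lt_or_ge k 512).elim (comp_ok_upto512 k) fun h =>
    allFrom_spec _ _ _ compOK_512 k h hk

theorem comp_ok_upto1536 : ∀ k < 1536, compOK B0.table B1.table ws k = true := fun k hk =>
  (Nat.lt_or_ge k 1024).elim (comp_ok_upto1024 k) fun h =>
    allFrom_spec _ _ _ compOK_1024 k h hk

theorem comp_ok_upto2048 : ∀ k < 2048, compOK B0.table B1.table ws k = true := fun k hk =>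
  (Nat.lt_or_ge k 1536).elim (comp_ok_upto1536 k) fun h =>
    allFrom_spec _ _ _ compOK_1536 k h hk

theorem comp_ok_upto2560 : ∀ k < 2560, compOK B0.table B1.table ws k = true := fun k hk =>
  (Nat.lt_or_ge k 2048).elim (comp_ok_upto2048 k) fun h =>
    allFrom_spec _ _ _ compOK_2048 k h hk

theorem comp_ok_upto3072 : ∀ k < 3072, compOK B0.table B1.table ws k = true := fun k hk =>
  (Nat.lt_or_ge k 2560).elim (comp_ok_upto2560 k) fun h =>
    allFrom_spec _ _ _ compOK_2560 k h hk

theorem comp_ok_upto3584 : ∀ k < 3584, compOK B0.table B1.table ws k = true := fun k hk =>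
  (Nat.lt_or_ge k 3072).elim (comp_ok_upto3072 k) fun h =>
    allFrom_spec _ _ _ compOK_3072 k h hk

theorem comp_ok_upto4096 : ∀ k < 4096, compOK B0.table B1.table ws k = true := fun k hk =>
  (Nat.lt_or_ge k 3584).elim (comp_ok_upto3584 k) fun h =>
    allFrom_spec _ _ _ compOK_3584 k h hk

theorem comp_ok_upto4608 : ∀ k < 4608, compOK B0.table B1.table ws k = true := fun k hk =>
  (Nat.lt_or_ge k 4096).elim (comp_ok_upto4096 k) fun h =>
    allFrom_spec _ _ _ compOK_4096 k h hk

theorem comp_ok_upto5120 : ∀ k < 5120, compOK B0.table B1.table ws k = true := fun k hk =>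
  (Nat.lt_or_ge k 4608).elim (comp_ok_upto4608 k) fun h =>
    allFrom_spec _ _ _ compOK_4608 k h hk

theorem comp_ok_upto5632 : ∀ k < 5632, compOK B0.table B1.table ws k = true := fun k hk =>
  (Nat.lt_or_ge k 5120).elim (comp_ok_upto5120 k) fun h =>
    allFrom_spec _ _ _ compOK_5120 k h hk

theorem comp_ok_upto6144 : ∀ k < 6144, compOK B0.table B1.table ws k = true := fun k hk =>
  (Nat.lt_or_ge k 5632).elim (comp_ok_upto5632 k) fun h =>
    allFrom_spec _ _ _ compOK_5632 k h hk

theorem comp_ok_upto6656 : ∀ k < 6656, compOK B0.table B1.table ws k = true := fun k hk =>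
  (Nat.lt_or_ge k 6144).elim (comp_ok_upto6144 k) fun h =>
    allFrom_spec _ _ _ compOK_6144 k h hk

theorem comp_ok_upto7168 : ∀ k < 7168, compOK B0.table B1.table ws k = true := fun k hk =>
  (Nat.lt_or_ge k 6656).elim (comp_ok_upto6656 k) fun h =>
    allFrom_spec _ _ _ compOK_6656 k h hk

theorem comp_ok_upto7680 : ∀ k < 7680, compOK B0.table B1.table ws k = true := fun k hk =>
  (Nat.lt_or_ge k 7168).elim (comp_ok_upto7168 k) fun h =>
    allFrom_spec _ _ _ compOK_7168 k h hk

theorem comp_ok_upto8192 : ∀ k < 8192, compOK B0.table B1.table ws k = true := fun k hk =>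
  (Nat.lt_or_ge k 7680).elim (comp_ok_upto7680 k) fun h =>
    allFrom_spec _ _ _ compOK_7680 k h hk

theorem comp_ok_upto8704 : ∀ k < 8704, compOK B0.table B1.table ws k = true := fun k hk =>
  (Nat.lt_or_ge k 8192).elim (comp_ok_upto8192 k) fun h =>
    allFrom_spec _ _ _ compOK_8192 k h hk

theorem comp_ok_upto9216 : ∀ k < 9216, compOK B0.table B1.table ws k = true := fun k hk =>
  (Nat.lt_or_ge k 8704).elim (comp_ok_upto8704 k) fun h =>
    allFrom_spec _ _ _ compOK_8704 k h hk

theorem comp_ok_upto9728 : ∀ k < 9728, compOK B0.table B1.table ws k = true := fun k hk =>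
  (Nat.lt_or_ge k 9216).elim (comp_ok_upto9216 k) fun h =>
    allFrom_spec _ _ _ compOK_9216 k h hk

theorem comp_ok_upto10240 : ∀ k < 10240, compOK B0.table B1.table ws k = true := fun k hk =>
  (Nat.lt_or_ge k 9728).elim (comp_ok_upto9728 k) fun h =>
    allFrom_spec _ _ _ compOK_9728 k h hk

theorem comp_ok_upto10752 : ∀ k < 10752, compOK B0.table B1.table ws k = true := fun k hk =>
  (Nat.lt_or_ge k 10240).elim (comp_ok_upto10240 k) fun h =>
    allFrom_spec _ _ _ compOK_10240 k h hk

theorem comp_ok_upto11264 : ∀ k < 11264, compOK B0.table B1.table ws k = true := fun k hk =>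
  (Nat.lt_or_ge k 10752).elim (comp_ok_upto10752 k) fun h =>
    allFrom_spec _ _ _ compOK_10752 k h hk

theorem comp_ok_upto11776 : ∀ k < 11776, compOK B0.table B1.table ws k = true := fun k hk =>
  (Nat.lt_or_ge k 11264).elim (comp_ok_upto11264 k) fun h =>
    allFrom_spec _ _ _ compOK_11264 k h hk

theorem comp_ok_upto12288 : ∀ k < 12288, compOK B0.table B1.table ws k = true := fun k hk =>
  (Nat.lt_or_ge k 11776).elim (comp_ok_upto11776 k) fun h =>
    allFrom_spec _ _ _ compOK_11776 k h hk

theorem comp_ok_upto12800 : ∀ k < 12800, compOK B0.table B1.table ws k = true := fun k hk =>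
  (Nat.lt_or_ge k 12288).elim (comp_ok_upto12288 k) fun h =>
    allFrom_spec _ _ _ compOK_12288 k h hk

theorem comp_ok_upto13312 : ∀ k < 13312, compOK B0.table B1.table ws k = true := fun k hk =>
  (Nat.lt_or_ge k 12800).elim (comp_ok_upto12800 k) fun h =>
    allFrom_spec _ _ _ compOK_12800 k h hk

theorem comp_ok_upto13824 : ∀ k < 13824, compOK B0.table B1.table ws k = true := fun k hk =>
  (Nat.lt_or_ge k 13312).elim (comp_ok_upto13312 k) fun h =>
    allFrom_spec _ _ _ compOK_13312 k h hk

theorem comp_ok_upto14336 : ∀ k < 14336, compOK B0.table B1.table ws k = true := fun k hk =>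
  (Nat.lt_or_ge k 13824).elim (comp_ok_upto13824 k) fun h =>
    allFrom_spec _ _ _ compOK_13824 k h hk

theorem comp_ok_upto14848 : ∀ k < 14848, compOK B0.table B1.table ws k = true := fun k hk =>
  (Nat.lt_or_ge k 14336).elim (comp_ok_upto14336 k) fun h =>
    allFrom_spec _ _ _ compOK_14336 k h hk

theorem comp_ok_upto15360 : ∀ k < 15360, compOK B0.table B1.table ws k = true := fun k hk =>
  (Nat.lt_or_ge k 14848).elim (comp_ok_upto14848 k) fun h =>
    allFrom_spec _ _ _ compOK_14848 k h hk

theorem comp_ok_upto15872 : ∀ k < 15872, compOK B0.table B1.table ws k = true := fun k hk =>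
  (Nat.lt_or_ge k 15360).elim (comp_ok_upto15360 k) fun h =>
    allFrom_spec _ _ _ compOK_15360 k h hk

theorem comp_ok_upto16384 : ∀ k < 16384, compOK B0.table B1.table ws k = true := fun k hk =>
  (Nat.lt_or_ge k 15872).elim (comp_ok_upto15872 k) fun h =>
    allFrom_spec _ _ _ compOK_15872 k h hk

theorem comp_ok_upto16896 : ∀ k < 16896, compOK B0.table B1.table ws k = true := fun k hk =>
  (Nat.lt_or_ge k 16384).elim (comp_ok_upto16384 k) fun h =>
    allFrom_spec _ _ _ compOK_16384 k h hk

theorem comp_ok_upto17408 : ∀ k < 17408, compOK B0.table B1.table ws k = true := fun k hk =>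
  (Nat.lt_or_ge k 16896).elim (comp_ok_upto16896 k) fun h =>
    allFrom_spec _ _ _ compOK_16896 k h hk

theorem comp_ok_upto17920 : ∀ k < 17920, compOK B0.table B1.table ws k = true := fun k hk =>
  (Nat.lt_or_ge k 17408).elim (comp_ok_upto17408 k) fun h =>
    allFrom_spec _ _ _ compOK_17408 k h hk

theorem comp_ok_upto18432 : ∀ k < 18432, compOK B0.table B1.table ws k = true := fun k hk =>
  (Nat.lt_or_ge k 17920).elim (comp_ok_upto17920 k) fun h =>
    allFrom_spec _ _ _ compOK_17920 k h hk

theorem comp_ok_upto18944 : ∀ k < 18944, compOK B0.table B1.table ws k = true := fun k hk =>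
  (Nat.lt_or_ge k 18432).elim (comp_ok_upto18432 k) fun h =>
    allFrom_spec _ _ _ compOK_18432 k h hk

theorem comp_ok_upto19456 : ∀ k < 19456, compOK B0.table B1.table ws k = true := fun k hk =>
  (Nat.lt_or_ge k 18944).elim (comp_ok_upto18944 k) fun h =>
    allFrom_spec _ _ _ compOK_18944 k h hk

theorem comp_ok_upto19968 : ∀ k < 19968, compOK B0.table B1.table ws k = true := fun k hk =>
  (Nat.lt_or_ge k 19456).elim (comp_ok_upto19456 k) fun h =>
    allFrom_spec _ _ _ compOK_19456 k h hk

theorem comp_ok_upto20480 : ∀ k < 20480, compOK B0.table B1.table ws k = true := fun k hk =>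
  (Nat.lt_or_ge k 19968).elim (comp_ok_upto19968 k) fun h =>
    allFrom_spec _ _ _ compOK_19968 k h hk

theorem comp_ok_upto20992 : ∀ k < 20992, compOK B0.table B1.table ws k = true := fun k hk =>
  (Nat.lt_or_ge k 20480).elim (comp_ok_upto20480 k) fun h =>
    allFrom_spec _ _ _ compOK_20480 k h hk

theorem comp_ok_upto21504 : ∀ k < 21504, compOK B0.table B1.table ws k = true := fun k hk =>
  (Nat.lt_or_ge k 20992).elim (comp_ok_upto20992 k) fun h =>
    allFrom_spec _ _ _ compOK_20992 k h hk

theorem comp_ok_upto22016 : ∀ k < 22016, compOK B0.table B1.table ws k = true := fun k hk =>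
  (Nat.lt_or_ge k 21504).elim (comp_ok_upto21504 k) fun h =>
    allFrom_spec _ _ _ compOK_21504 k h hk

theorem comp_ok_upto22528 : ∀ k < 22528, compOK B0.table B1.table ws k = true := fun k hk =>
  (Nat.lt_or_ge k 22016).elim (comp_ok_upto22016 k) fun h =>
    allFrom_spec _ _ _ compOK_22016 k h hk

theorem comp_ok_upto23040 : ∀ k < 23040, compOK B0.table B1.table ws k = true := fun k hk =>
  (Nat.lt_or_ge k 22528).elim (comp_ok_upto22528 k) fun h =>
    allFrom_spec _ _ _ compOK_22528 k h hk

theorem comp_ok_upto23552 : ∀ k < 23552, compOK B0.table B1.table ws k = true := fun k hk =>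
  (Nat.lt_or_ge k 23040).elim (comp_ok_upto23040 k) fun h =>
    allFrom_spec _ _ _ compOK_23040 k h hk

theorem comp_ok_upto24064 : ∀ k < 24064, compOK B0.table B1.table ws k = true := fun k hk =>
  (Nat.lt_or_ge k 23552).elim (comp_ok_upto23552 k) fun h =>
    allFrom_spec _ _ _ compOK_23552 k h hk

theorem comp_ok_upto24576 : ∀ k < 24576, compOK B0.table B1.table ws k = true := fun k hk =>
  (Nat.lt_or_ge k 24064).elim (comp_ok_upto24064 k) fun h =>
    allFrom_spec _ _ _ compOK_24064 k h hk

theorem comp_ok_upto25088 : ∀ k < 25088, compOK B0.table B1.table ws k = true := fun k hk =>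
  (Nat.lt_or_ge k 24576).elim (comp_ok_upto24576 k) fun h =>
    allFrom_spec _ _ _ compOK_24576 k h hk

theorem comp_ok_upto25600 : ∀ k < 25600, compOK B0.table B1.table ws k = true := fun k hk =>
  (Nat.lt_or_ge k 25088).elim (comp_ok_upto25088 k) fun h =>
    allFrom_spec _ _ _ compOK_25088 k h hk

theorem comp_ok_upto26112 : ∀ k < 26112, compOK B0.table B1.table ws k = true := fun k hk =>
  (Nat.lt_or_ge k 25600).elim (comp_ok_upto25600 k) fun h =>
    allFrom_spec _ _ _ compOK_25600 k h hk

theorem comp_ok_upto26624 : ∀ k < 26624, compOK B0.table B1.table ws k = true := fun k hk =>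
  (Nat.lt_or_ge k 26112).elim (comp_ok_upto26112 k) fun h =>
    allFrom_spec _ _ _ compOK_26112 k h hk

theorem comp_ok_upto27136 : ∀ k < 27136, compOK B0.table B1.table ws k = true := fun k hk =>
  (Nat.lt_or_ge k 26624).elim (comp_ok_upto26624 k) fun h =>
    allFrom_spec _ _ _ compOK_26624 k h hk

theorem comp_ok_upto27648 : ∀ k < 27648, compOK B0.table B1.table ws k = true := fun k hk =>
  (Nat.lt_or_ge k 27136).elim (comp_ok_upto27136 k) fun h =>
    allFrom_spec _ _ _ compOK_27136 k h hk

theorem comp_ok_upto28160 : ∀ k < 28160, compOK B0.table B1.table ws k = true := fun k hk =>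
  (Nat.lt_or_ge k 27648).elim (comp_ok_upto27648 k) fun h =>
    allFrom_spec _ _ _ compOK_27648 k h hk

theorem comp_ok_upto28672 : ∀ k < 28672, compOK B0.table B1.table ws k = true := fun k hk =>
  (Nat.lt_or_ge k 28160).elim (comp_ok_upto28160 k) fun h =>
    allFrom_spec _ _ _ compOK_28160 k h hk

theorem comp_ok_upto29184 : ∀ k < 29184, compOK B0.table B1.table ws k = true := fun k hk =>
  (Nat.lt_or_ge k 28672).elim (comp_ok_upto28672 k) fun h =>
    allFrom_spec _ _ _ compOK_28672 k h hk

theorem comp_ok_upto29696 : ∀ k < 29696, compOK B0.table B1.table ws k = true := fun k hk =>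
  (Nat.lt_or_ge k 29184).elim (comp_ok_upto29184 k) fun h =>
    allFrom_spec _ _ _ compOK_29184 k h hk

theorem comp_ok_upto30208 : ∀ k < 30208, compOK B0.table B1.table ws k = true := fun k hk =>
  (Nat.lt_or_ge k 29696).elim (comp_ok_upto29696 k) fun h =>
    allFrom_spec _ _ _ compOK_29696 k h hk

theorem comp_ok_upto30720 : ∀ k < 30720, compOK B0.table B1.table ws k = true := fun k hk =>
  (Nat.lt_or_ge k 30208).elim (comp_ok_upto30208 k) fun h =>
    allFrom_spec _ _ _ compOK_30208 k h hk

theorem comp_ok_upto31232 : ∀ k < 31232, compOK B0.table B1.table ws k = true := fun k hk =>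
  (Nat.lt_or_ge k 30720).elim (comp_ok_upto30720 k) fun h =>
    allFrom_spec _ _ _ compOK_30720 k h hk

theorem comp_ok_upto31671 : ∀ k < 31671, compOK B0.table B1.table ws k = true := fun k hk =>
  (Nat.lt_or_ge k 31232).elim (comp_ok_upto31232 k) fun h =>
    allFrom_spec _ _ _ compOK_31232 k h hk

theorem comp_ok : ∀ k < 31671, compOK B0.table B1.table ws k = true := comp_ok_upto31671

theorem step {G : Type} [Group G] (π : G →* Equiv.Perm (Fin 31671)) {K : Subgroup G} [Finite K] (hT : Realised π K B0.table) :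
    ∃ H : Subgroup G, Finite H ∧ Realised π H B1.table ∧ 3159 * Nat.card H ≤ Nat.card K :=
  base_step π hT B1.table ws pts par pos 2 3159 (by omega) (by decide +kernel) step_ok (by decide +kernel) rfl comp_ok (by decide +kernel)

end B1

namespace B2

theorem step_ok_upto1024 : ∀ k < 1024, stepOK B1.table pts par pos B1.table.length k = true := fun k hk =>
  have h : 0 ≤ k := Nat.zero_le k
  allFrom_spec _ _ _ stepOK_0 k h hk

theorem step_ok_upto2048 : ∀ k < 2048, stepOK B1.table pts par pos B1.table.length k = true := fun k hk =>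
  (Nat.lt_or_ge k 1024).elim (step_ok_upto1024 k) fun h =>
    allFrom_spec _ _ _ stepOK_1024 k h hk

theorem step_ok_upto3072 : ∀ k < 3072, stepOK B1.table pts par pos B1.table.length k = true := fun k hk =>
  (Nat.lt_or_ge k 2048).elim (step_ok_upto2048 k) fun h =>
    allFrom_spec _ _ _ stepOK_2048 k h hk

theorem step_ok_upto4096 : ∀ k < 4096, stepOK B1.table pts par pos B1.table.length k = true := fun k hk =>
  (Nat.lt_or_ge k 3072).elim (step_ok_upto3072 k) fun h =>
    allFrom_spec _ _ _ stepOK_3072 k h hk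

theorem step_ok_upto5120 : ∀ k < 5120, stepOK B1.table pts par pos B1.table.length k = true := fun k hk =>
  (Nat.lt_or_ge k 4096).elim (step_ok_upto4096 k) fun h =>
    allFrom_spec _ _ _ stepOK_4096 k h hk

theorem step_ok_upto6144 : ∀ k < 6144, stepOK B1.table pts par pos B1.table.length k = true := fun k hk =>
  (Nat.lt_or_ge k 5120).elim (step_ok_upto5120 k) fun h =>
    allFrom_spec _ _ _ stepOK_5120 k h hk

theorem step_ok_upto7168 : ∀ k < 7168, stepOK B1.table pts par pos B1.table.length k = true := fun k hk =>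
  (Nat.lt_or_ge k 6144).elim (step_ok_upto6144 k) fun h =>
    allFrom_spec _ _ _ stepOK_6144 k h hk

theorem step_ok_upto8192 : ∀ k < 8192, stepOK B1.table pts par pos B1.table.length k = true := fun k hk =>
  (Nat.lt_or_ge k 7168).elim (step_ok_upto7168 k) fun h =>
    allFrom_spec _ _ _ stepOK_7168 k h hk

theorem step_ok_upto9216 : ∀ k < 9216, stepOK B1.table pts par pos B1.table.length k = true := fun k hk =>
  (Nat.lt_or_ge k 8192).elim (step_ok_upto8192 k) fun h =>
    allFrom_spec _ _ _ stepOK_8192 k h hk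

theorem step_ok_upto10240 : ∀ k < 10240, stepOK B1.table pts par pos B1.table.length k = true := fun k hk =>
  (Nat.lt_or_ge k 9216).elim (step_ok_upto9216 k) fun h =>
    allFrom_spec _ _ _ stepOK_9216 k h hk

theorem step_ok_upto11264 : ∀ k < 11264, stepOK B1.table pts par pos B1.table.length k = true := fun k hk =>
  (Nat.lt_or_ge k 10240).elim (step_ok_upto10240 k) fun h =>
    allFrom_spec _ _ _ stepOK_10240 k h hk

theorem step_ok_upto12288 : ∀ k < 12288, stepOK B1.table pts par pos B1.table.length k = true := fun k hk =>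
  (Nat.lt_or_ge k 11264).elim (step_ok_upto11264 k) fun h =>
    allFrom_spec _ _ _ stepOK_11264 k h hk

theorem step_ok_upto13312 : ∀ k < 13312, stepOK B1.table pts par pos B1.table.length k = true := fun k hk =>
  (Nat.lt_or_ge k 12288).elim (step_ok_upto12288 k) fun h =>
    allFrom_spec _ _ _ stepOK_12288 k h hk

theorem step_ok_upto14336 : ∀ k < 14336, stepOK B1.table pts par pos B1.table.length k = true := fun k hk =>
  (Nat.lt_or_ge k 13312).elim (step_ok_upto13312 k) fun h =>
    allFrom_spec _ _ _ stepOK_13312 k h hk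

theorem step_ok_upto15120 : ∀ k < 15120, stepOK B1.table pts par pos B1.table.length k = true := fun k hk =>
  (Nat.lt_or_ge k 14336).elim (step_ok_upto14336 k) fun h =>
    allFrom_spec _ _ _ stepOK_14336 k h hk

theorem step_ok : ∀ k < 15120, stepOK B1.table pts par pos B1.table.length k = true := step_ok_upto15120

theorem comp_ok_upto512 : ∀ k < 512, compOK B1.table B2.table ws k = true := fun k hk =>
  have h : 0 ≤ k := Nat.zero_le k
  allFrom_spec _ _ _ compOK_0 k h hk

theorem comp_ok_upto1024 : ∀ k < 1024, compOK B1.table B2.table ws k = true := fun k hk =>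
  (Nat.lt_or_ge k 512).elim (comp_ok_upto512 k) fun h =>
    allFrom_spec _ _ _ compOK_512 k h hk

theorem comp_ok_upto1536 : ∀ k < 1536, compOK B1.table B2.table ws k = true := fun k hk =>
  (Nat.lt_or_ge k 1024).elim (comp_ok_upto1024 k) fun h =>
    allFrom_spec _ _ _ compOK_1024 k h hk

theorem comp_ok_upto2048 : ∀ k < 2048, compOK B1.table B2.table ws k = true := fun k hk =>
  (Nat.lt_or_ge k 1536).elim (comp_ok_upto1536 k) fun h =>
    allFrom_spec _ _ _ compOK_1536 k h hk

theorem comp_ok_upto2560 : ∀ k < 2560, compOK B1.table B2.table ws k = true := fun k hk =>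
  (Nat.lt_or_ge k 2048).elim (comp_ok_upto2048 k) fun h =>
    allFrom_spec _ _ _ compOK_2048 k h hk

theorem comp_ok_upto3072 : ∀ k < 3072, compOK B1.table B2.table ws k = true := fun k hk =>
  (Nat.lt_or_ge k 2560).elim (comp_ok_upto2560 k) fun h =>
    allFrom_spec _ _ _ compOK_2560 k h hk

theorem comp_ok_upto3584 : ∀ k < 3584, compOK B1.table B2.table ws k = true := fun k hk =>
  (Nat.lt_or_ge k 3072).elim (comp_ok_upto3072 k) fun h =>
    allFrom_spec _ _ _ compOK_3072 k h hk

theorem comp_ok_upto4096 : ∀ k < 4096, compOK B1.table B2.table ws k = true := fun k hk =>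
  (Nat.lt_or_ge k 3584).elim (comp_ok_upto3584 k) fun h =>
    allFrom_spec _ _ _ compOK_3584 k h hk

theorem comp_ok_upto4608 : ∀ k < 4608, compOK B1.table B2.table ws k = true := fun k hk =>
  (Nat.lt_or_ge k 4096).elim (comp_ok_upto4096 k) fun h =>
    allFrom_spec _ _ _ compOK_4096 k h hk

theorem comp_ok_upto5120 : ∀ k < 5120, compOK B1.table B2.table ws k = true := fun k hk =>
  (Nat.lt_or_ge k 4608).elim (comp_ok_upto4608 k) fun h =>
    allFrom_spec _ _ _ compOK_4608 k h hk

theorem comp_ok_upto5632 : ∀ k < 5632, compOK B1.table B2.table ws k = true := fun k hk =>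
  (Nat.lt_or_ge k 5120).elim (comp_ok_upto5120 k) fun h =>
    allFrom_spec _ _ _ compOK_5120 k h hk

theorem comp_ok_upto6144 : ∀ k < 6144, compOK B1.table B2.table ws k = true := fun k hk =>
  (Nat.lt_or_ge k 5632).elim (comp_ok_upto5632 k) fun h =>
    allFrom_spec _ _ _ compOK_5632 k h hk

theorem comp_ok_upto6656 : ∀ k < 6656, compOK B1.table B2.table ws k = true := fun k hk =>
  (Nat.lt_or_ge k 6144).elim (comp_ok_upto6144 k) fun h =>
    allFrom_spec _ _ _ compOK_6144 k h hk

theorem comp_ok_upto7168 : ∀ k < 7168, compOK B1.table B2.table ws k = true := fun k hk =>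
  (Nat.lt_or_ge k 6656).elim (comp_ok_upto6656 k) fun h =>
    allFrom_spec _ _ _ compOK_6656 k h hk

theorem comp_ok_upto7680 : ∀ k < 7680, compOK B1.table B2.table ws k = true := fun k hk =>
  (Nat.lt_or_ge k 7168).elim (comp_ok_upto7168 k) fun h =>
    allFrom_spec _ _ _ compOK_7168 k h hk

theorem comp_ok_upto8192 : ∀ k < 8192, compOK B1.table B2.table ws k = true := fun k hk =>
  (Nat.lt_or_ge k 7680).elim (comp_ok_upto7680 k) fun h =>
    allFrom_spec _ _ _ compOK_7680 k h hk

theorem comp_ok_upto8704 : ∀ k < 8704, compOK B1.table B2.table ws k = true := fun k hk =>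
  (Nat.lt_or_ge k 8192).elim (comp_ok_upto8192 k) fun h =>
    allFrom_spec _ _ _ compOK_8192 k h hk

theorem comp_ok_upto9216 : ∀ k < 9216, compOK B1.table B2.table ws k = true := fun k hk =>
  (Nat.lt_or_ge k 8704).elim (comp_ok_upto8704 k) fun h =>
    allFrom_spec _ _ _ compOK_8704 k h hk

theorem comp_ok_upto9728 : ∀ k < 9728, compOK B1.table B2.table ws k = true := fun k hk =>
  (Nat.lt_or_ge k 9216).elim (comp_ok_upto9216 k) fun h =>
    allFrom_spec _ _ _ compOK_9216 k h hk

theorem comp_ok_upto10240 : ∀ k < 10240, compOK B1.table B2.table ws k = true := fun k hk =>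
  (Nat.lt_or_ge k 9728).elim (comp_ok_upto9728 k) fun h =>
    allFrom_spec _ _ _ compOK_9728 k h hk

theorem comp_ok_upto10752 : ∀ k < 10752, compOK B1.table B2.table ws k = true := fun k hk =>
  (Nat.lt_or_ge k 10240).elim (comp_ok_upto10240 k) fun h =>
    allFrom_spec _ _ _ compOK_10240 k h hk

theorem comp_ok_upto11264 : ∀ k < 11264, compOK B1.table B2.table ws k = true := fun k hk =>
  (Nat.lt_or_ge k 10752).elim (comp_ok_upto10752 k) fun h =>
    allFrom_spec _ _ _ compOK_10752 k h hk

theorem comp_ok_upto11776 : ∀ k < 11776, compOK B1.table B2.table ws k = true := fun k hk =>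
  (Nat.lt_or_ge k 11264).elim (comp_ok_upto11264 k) fun h =>
    allFrom_spec _ _ _ compOK_11264 k h hk

theorem comp_ok_upto12288 : ∀ k < 12288, compOK B1.table B2.table ws k = true := fun k hk =>
  (Nat.lt_or_ge k 11776).elim (comp_ok_upto11776 k) fun h =>
    allFrom_spec _ _ _ compOK_11776 k h hk

theorem comp_ok_upto12800 : ∀ k < 12800, compOK B1.table B2.table ws k = true := fun k hk =>
  (Nat.lt_or_ge k 12288).elim (comp_ok_upto12288 k) fun h =>
    allFrom_spec _ _ _ compOK_12288 k h hk

theorem comp_ok_upto13312 : ∀ k < 13312, compOK B1.table B2.table ws k = true := fun k hk =>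
  (Nat.lt_or_ge k 12800).elim (comp_ok_upto12800 k) fun h =>
    allFrom_spec _ _ _ compOK_12800 k h hk

theorem comp_ok_upto13824 : ∀ k < 13824, compOK B1.table B2.table ws k = true := fun k hk =>
  (Nat.lt_or_ge k 13312).elim (comp_ok_upto13312 k) fun h =>
    allFrom_spec _ _ _ compOK_13312 k h hk

theorem comp_ok_upto14336 : ∀ k < 14336, compOK B1.table B2.table ws k = true := fun k hk =>
  (Nat.lt_or_ge k 13824).elim (comp_ok_upto13824 k) fun h =>
    allFrom_spec _ _ _ compOK_13824 k h hk

theorem comp_ok_upto14848 : ∀ k < 14848, compOK B1.table B2.table ws k = true := fun k hk =>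
  (Nat.lt_or_ge k 14336).elim (comp_ok_upto14336 k) fun h =>
    allFrom_spec _ _ _ compOK_14336 k h hk

theorem comp_ok_upto15360 : ∀ k < 15360, compOK B1.table B2.table ws k = true := fun k hk =>
  (Nat.lt_or_ge k 14848).elim (comp_ok_upto14848 k) fun h =>
    allFrom_spec _ _ _ compOK_14848 k h hk

theorem comp_ok_upto15872 : ∀ k < 15872, compOK B1.table B2.table ws k = true := fun k hk =>
  (Nat.lt_or_ge k 15360).elim (comp_ok_upto15360 k) fun h =>
    allFrom_spec _ _ _ compOK_15360 k h hk

theorem comp_ok_upto16384 : ∀ k < 16384, compOK B1.table B2.table ws k = true := fun k hk =>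
  (Nat.lt_or_ge k 15872).elim (comp_ok_upto15872 k) fun h =>
    allFrom_spec _ _ _ compOK_15872 k h hk

theorem comp_ok_upto16896 : ∀ k < 16896, compOK B1.table B2.table ws k = true := fun k hk =>
  (Nat.lt_or_ge k 16384).elim (comp_ok_upto16384 k) fun h =>
    allFrom_spec _ _ _ compOK_16384 k h hk

theorem comp_ok_upto17408 : ∀ k < 17408, compOK B1.table B2.table ws k = true := fun k hk =>
  (Nat.lt_or_ge k 16896).elim (comp_ok_upto16896 k) fun h =>
    allFrom_spec _ _ _ compOK_16896 k h hk

theorem comp_ok_upto17920 : ∀ k < 17920, compOK B1.table B2.table ws k = true := fun k hk =>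
  (Nat.lt_or_ge k 17408).elim (comp_ok_upto17408 k) fun h =>
    allFrom_spec _ _ _ compOK_17408 k h hk

theorem comp_ok_upto18432 : ∀ k < 18432, compOK B1.table B2.table ws k = true := fun k hk =>
  (Nat.lt_or_ge k 17920).elim (comp_ok_upto17920 k) fun h =>
    allFrom_spec _ _ _ compOK_17920 k h hk

theorem comp_ok_upto18944 : ∀ k < 18944, compOK B1.table B2.table ws k = true := fun k hk =>
  (Nat.lt_or_ge k 18432).elim (comp_ok_upto18432 k) fun h =>
    allFrom_spec _ _ _ compOK_18432 k h hk

theorem comp_ok_upto19456 : ∀ k < 19456, compOK B1.table B2.table ws k = true := fun k hk =>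
  (Nat.lt_or_ge k 18944).elim (comp_ok_upto18944 k) fun h =>
    allFrom_spec _ _ _ compOK_18944 k h hk

theorem comp_ok_upto19968 : ∀ k < 19968, compOK B1.table B2.table ws k = true := fun k hk =>
  (Nat.lt_or_ge k 19456).elim (comp_ok_upto19456 k) fun h =>
    allFrom_spec _ _ _ compOK_19456 k h hk

theorem comp_ok_upto20480 : ∀ k < 20480, compOK B1.table B2.table ws k = true := fun k hk =>
  (Nat.lt_or_ge k 19968).elim (comp_ok_upto19968 k) fun h =>
    allFrom_spec _ _ _ compOK_19968 k h hk

theorem comp_ok_upto20992 : ∀ k < 20992, compOK B1.table B2.table ws k = true := fun k hk =>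
  (Nat.lt_or_ge k 20480).elim (comp_ok_upto20480 k) fun h =>
    allFrom_spec _ _ _ compOK_20480 k h hk

theorem comp_ok_upto21504 : ∀ k < 21504, compOK B1.table B2.table ws k = true := fun k hk =>
  (Nat.lt_or_ge k 20992).elim (comp_ok_upto20992 k) fun h =>
    allFrom_spec _ _ _ compOK_20992 k h hk

theorem comp_ok_upto22016 : ∀ k < 22016, compOK B1.table B2.table ws k = true := fun k hk =>
  (Nat.lt_or_ge k 21504).elim (comp_ok_upto21504 k) fun h =>
    allFrom_spec _ _ _ compOK_21504 k h hk

theorem comp_ok_upto22528 : ∀ k < 22528, compOK B1.table B2.table ws k = true := fun k hk =>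
  (Nat.lt_or_ge k 22016).elim (comp_ok_upto22016 k) fun h =>
    allFrom_spec _ _ _ compOK_22016 k h hk

theorem comp_ok_upto23040 : ∀ k < 23040, compOK B1.table B2.table ws k = true := fun k hk =>
  (Nat.lt_or_ge k 22528).elim (comp_ok_upto22528 k) fun h =>
    allFrom_spec _ _ _ compOK_22528 k h hk

theorem comp_ok_upto23552 : ∀ k < 23552, compOK B1.table B2.table ws k = true := fun k hk =>
  (Nat.lt_or_ge k 23040).elim (comp_ok_upto23040 k) fun h =>
    allFrom_spec _ _ _ compOK_23040 k h hk

theorem comp_ok_upto24064 : ∀ k < 24064, compOK B1.table B2.table ws k = true := fun k hk =>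
  (Nat.lt_or_ge k 23552).elim (comp_ok_upto23552 k) fun h =>
    allFrom_spec _ _ _ compOK_23552 k h hk

theorem comp_ok_upto24576 : ∀ k < 24576, compOK B1.table B2.table ws k = true := fun k hk =>
  (Nat.lt_or_ge k 24064).elim (comp_ok_upto24064 k) fun h =>
    allFrom_spec _ _ _ compOK_24064 k h hk

theorem comp_ok_upto25088 : ∀ k < 25088, compOK B1.table B2.table ws k = true := fun k hk =>
  (Nat.lt_or_ge k 24576).elim (comp_ok_upto24576 k) fun h =>
    allFrom_spec _ _ _ compOK_24576 k h hk

theorem comp_ok_upto25600 : ∀ k < 25600, compOK B1.table B2.table ws k = true := fun k hk =>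
  (Nat.lt_or_ge k 25088).elim (comp_ok_upto25088 k) fun h =>
    allFrom_spec _ _ _ compOK_25088 k h hk

theorem comp_ok_upto26112 : ∀ k < 26112, compOK B1.table B2.table ws k = true := fun k hk =>
  (Nat.lt_or_ge k 25600).elim (comp_ok_upto25600 k) fun h =>
    allFrom_spec _ _ _ compOK_25600 k h hk

theorem comp_ok_upto26624 : ∀ k < 26624, compOK B1.table B2.table ws k = true := fun k hk =>
  (Nat.lt_or_ge k 26112).elim (comp_ok_upto26112 k) fun h =>
    allFrom_spec _ _ _ compOK_26112 k h hk

theorem comp_ok_upto27136 : ∀ k < 27136, compOK B1.table B2.table ws k = true := fun k hk =>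
  (Nat.lt_or_ge k 26624).elim (comp_ok_upto26624 k) fun h =>
    allFrom_spec _ _ _ compOK_26624 k h hk

theorem comp_ok_upto27648 : ∀ k < 27648, compOK B1.table B2.table ws k = true := fun k hk =>
  (Nat.lt_or_ge k 27136).elim (comp_ok_upto27136 k) fun h =>
    allFrom_spec _ _ _ compOK_27136 k h hk

theorem comp_ok_upto28160 : ∀ k < 28160, compOK B1.table B2.table ws k = true := fun k hk =>
  (Nat.lt_or_ge k 27648).elim (comp_ok_upto27648 k) fun h =>
    allFrom_spec _ _ _ compOK_27648 k h hk

theorem comp_ok_upto28672 : ∀ k < 28672, compOK B1.table B2.table ws k = true := fun k hk =>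
  (Nat.lt_or_ge k 28160).elim (comp_ok_upto28160 k) fun h =>
    allFrom_spec _ _ _ compOK_28160 k h hk

theorem comp_ok_upto29184 : ∀ k < 29184, compOK B1.table B2.table ws k = true := fun k hk =>
  (Nat.lt_or_ge k 28672).elim (comp_ok_upto28672 k) fun h =>
    allFrom_spec _ _ _ compOK_28672 k h hk

theorem comp_ok_upto29696 : ∀ k < 29696, compOK B1.table B2.table ws k = true := fun k hk =>
  (Nat.lt_or_ge k 29184).elim (comp_ok_upto29184 k) fun h =>
    allFrom_spec _ _ _ compOK_29184 k h hk

theorem comp_ok_upto30208 : ∀ k < 30208, compOK B1.table B2.table ws k = true := fun k hk =>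
  (Nat.lt_or_ge k 29696).elim (comp_ok_upto29696 k) fun h =>
    allFrom_spec _ _ _ compOK_29696 k h hk

theorem comp_ok_upto30720 : ∀ k < 30720, compOK B1.table B2.table ws k = true := fun k hk =>
  (Nat.lt_or_ge k 30208).elim (comp_ok_upto30208 k) fun h =>
    allFrom_spec _ _ _ compOK_30208 k h hk

theorem comp_ok_upto31232 : ∀ k < 31232, compOK B1.table B2.table ws k = true := fun k hk =>
  (Nat.lt_or_ge k 30720).elim (comp_ok_upto30720 k) fun h =>
    allFrom_spec _ _ _ compOK_30720 k h hk

theorem comp_ok_upto31671 : ∀ k < 31671, compOK B1.table B2.table ws k = true := fun k hk =>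
  (Nat.lt_or_ge k 31232).elim (comp_ok_upto31232 k) fun h =>
    allFrom_spec _ _ _ compOK_31232 k h hk

theorem comp_ok : ∀ k < 31671, compOK B1.table B2.table ws k = true := comp_ok_upto31671

theorem step {G : Type} [Group G] (π : G →* Equiv.Perm (Fin 31671)) {K : Subgroup G} [Finite K] (hT : Realised π K B1.table) :
    ∃ H : Subgroup G, Finite H ∧ Realised π H B2.table ∧ 15120 * Nat.card H ≤ Nat.card K :=
  base_step π hT B2.table ws pts par pos 2812 15120 (by omega) (by decide +kernel) step_ok (by decide +kernel) rfl comp_ok (by decide +kernel)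

end B2

namespace B3

theorem step_ok_upto96 : ∀ k < 96, stepOK B2.table pts par pos B2.table.length k = true := fun k hk =>
  have h : 0 ≤ k := Nat.zero_le k
  allFrom_spec _ _ _ stepOK_0 k h hk

theorem step_ok : ∀ k < 96, stepOK B2.table pts par pos B2.table.length k = true := step_ok_upto96

theorem comp_ok_upto512 : ∀ k < 512, compOK B2.table B3.table ws k = true := fun k hk =>
  have h : 0 ≤ k := Nat.zero_le k
  allFrom_spec _ _ _ compOK_0 k h hk

theorem comp_ok_upto1024 : ∀ k < 1024, compOK B2.table B3.table ws k = true := fun k hk =>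
  (Nat.lt_or_ge k 512).elim (comp_ok_upto512 k) fun h =>
    allFrom_spec _ _ _ compOK_512 k h hk

theorem comp_ok_upto1536 : ∀ k < 1536, compOK B2.table B3.table ws k = true := fun k hk =>
  (Nat.lt_or_ge k 1024).elim (comp_ok_upto1024 k) fun h =>
    allFrom_spec _ _ _ compOK_1024 k h hk

theorem comp_ok_upto2048 : ∀ k < 2048, compOK B2.table B3.table ws k = true := fun k hk =>
  (Nat.lt_or_ge k 1536).elim (comp_ok_upto1536 k) fun h =>
    allFrom_spec _ _ _ compOK_1536 k h hk

theorem comp_ok_upto2560 : ∀ k < 2560, compOK B2.table B3.table ws k = true := fun k hk =>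
  (Nat.lt_or_ge k 2048).elim (comp_ok_upto2048 k) fun h =>
    allFrom_spec _ _ _ compOK_2048 k h hk

theorem comp_ok_upto3072 : ∀ k < 3072, compOK B2.table B3.table ws k = true := fun k hk =>
  (Nat.lt_or_ge k 2560).elim (comp_ok_upto2560 k) fun h =>
    allFrom_spec _ _ _ compOK_2560 k h hk

theorem comp_ok_upto3584 : ∀ k < 3584, compOK B2.table B3.table ws k = true := fun k hk =>
  (Nat.lt_or_ge k 3072).elim (comp_ok_upto3072 k) fun h =>
    allFrom_spec _ _ _ compOK_3072 k h hk

theorem comp_ok_upto4096 : ∀ k < 4096, compOK B2.table B3.table ws k = true := fun k hk =>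
  (Nat.lt_or_ge k 3584).elim (comp_ok_upto3584 k) fun h =>
    allFrom_spec _ _ _ compOK_3584 k h hk

theorem comp_ok_upto4608 : ∀ k < 4608, compOK B2.table B3.table ws k = true := fun k hk =>
  (Nat.lt_or_ge k 4096).elim (comp_ok_upto4096 k) fun h =>
    allFrom_spec _ _ _ compOK_4096 k h hk

theorem comp_ok_upto5120 : ∀ k < 5120, compOK B2.table B3.table ws k = true := fun k hk =>
  (Nat.lt_or_ge k 4608).elim (comp_ok_upto4608 k) fun h =>
    allFrom_spec _ _ _ compOK_4608 k h hk

theorem comp_ok_upto5632 : ∀ k < 5632, compOK B2.table B3.table ws k = true := fun k hk =>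
  (Nat.lt_or_ge k 5120).elim (comp_ok_upto5120 k) fun h =>
    allFrom_spec _ _ _ compOK_5120 k h hk

theorem comp_ok_upto6144 : ∀ k < 6144, compOK B2.table B3.table ws k = true := fun k hk =>
  (Nat.lt_or_ge k 5632).elim (comp_ok_upto5632 k) fun h =>
    allFrom_spec _ _ _ compOK_5632 k h hk

theorem comp_ok_upto6656 : ∀ k < 6656, compOK B2.table B3.table ws k = true := fun k hk =>
  (Nat.lt_or_ge k 6144).elim (comp_ok_upto6144 k) fun h =>
    allFrom_spec _ _ _ compOK_6144 k h hk

theorem comp_ok_upto7168 : ∀ k < 7168, compOK B2.table B3.table ws k = true := fun k hk =>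
  (Nat.lt_or_ge k 6656).elim (comp_ok_upto6656 k) fun h =>
    allFrom_spec _ _ _ compOK_6656 k h hk

theorem comp_ok_upto7680 : ∀ k < 7680, compOK B2.table B3.table ws k = true := fun k hk =>
  (Nat.lt_or_ge k 7168).elim (comp_ok_upto7168 k) fun h =>
    allFrom_spec _ _ _ compOK_7168 k h hk

theorem comp_ok_upto8192 : ∀ k < 8192, compOK B2.table B3.table ws k = true := fun k hk =>
  (Nat.lt_or_ge k 7680).elim (comp_ok_upto7680 k) fun h =>
    allFrom_spec _ _ _ compOK_7680 k h hk

theorem comp_ok_upto8704 : ∀ k < 8704, compOK B2.table B3.table ws k = true := fun k hk =>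
  (Nat.lt_or_ge k 8192).elim (comp_ok_upto8192 k) fun h =>
    allFrom_spec _ _ _ compOK_8192 k h hk

theorem comp_ok_upto9216 : ∀ k < 9216, compOK B2.table B3.table ws k = true := fun k hk =>
  (Nat.lt_or_ge k 8704).elim (comp_ok_upto8704 k) fun h =>
    allFrom_spec _ _ _ compOK_8704 k h hk

theorem comp_ok_upto9728 : ∀ k < 9728, compOK B2.table B3.table ws k = true := fun k hk =>
  (Nat.lt_or_ge k 9216).elim (comp_ok_upto9216 k) fun h =>
    allFrom_spec _ _ _ compOK_9216 k h hk

theorem comp_ok_upto10240 : ∀ k < 10240, compOK B2.table B3.table ws k = true := fun k hk =>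
  (Nat.lt_or_ge k 9728).elim (comp_ok_upto9728 k) fun h =>
    allFrom_spec _ _ _ compOK_9728 k h hk

theorem comp_ok_upto10752 : ∀ k < 10752, compOK B2.table B3.table ws k = true := fun k hk =>
  (Nat.lt_or_ge k 10240).elim (comp_ok_upto10240 k) fun h =>
    allFrom_spec _ _ _ compOK_10240 k h hk

theorem comp_ok_upto11264 : ∀ k < 11264, compOK B2.table B3.table ws k = true := fun k hk =>
  (Nat.lt_or_ge k 10752).elim (comp_ok_upto10752 k) fun h =>
    allFrom_spec _ _ _ compOK_10752 k h hk

theorem comp_ok_upto11776 : ∀ k < 11776, compOK B2.table B3.table ws k = true := fun k hk =>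
  (Nat.lt_or_ge k 11264).elim (comp_ok_upto11264 k) fun h =>
    allFrom_spec _ _ _ compOK_11264 k h hk

theorem comp_ok_upto12288 : ∀ k < 12288, compOK B2.table B3.table ws k = true := fun k hk =>
  (Nat.lt_or_ge k 11776).elim (comp_ok_upto11776 k) fun h =>
    allFrom_spec _ _ _ compOK_11776 k h hk

theorem comp_ok_upto12800 : ∀ k < 12800, compOK B2.table B3.table ws k = true := fun k hk =>
  (Nat.lt_or_ge k 12288).elim (comp_ok_upto12288 k) fun h =>
    allFrom_spec _ _ _ compOK_12288 k h hk

theorem comp_ok_upto13312 : ∀ k < 13312, compOK B2.table B3.table ws k = true := fun k hk =>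
  (Nat.lt_or_ge k 12800).elim (comp_ok_upto12800 k) fun h =>
    allFrom_spec _ _ _ compOK_12800 k h hk

theorem comp_ok_upto13824 : ∀ k < 13824, compOK B2.table B3.table ws k = true := fun k hk =>
  (Nat.lt_or_ge k 13312).elim (comp_ok_upto13312 k) fun h =>
    allFrom_spec _ _ _ compOK_13312 k h hk

theorem comp_ok_upto14336 : ∀ k < 14336, compOK B2.table B3.table ws k = true := fun k hk =>
  (Nat.lt_or_ge k 13824).elim (comp_ok_upto13824 k) fun h =>
    allFrom_spec _ _ _ compOK_13824 k h hk

theorem comp_ok_upto14848 : ∀ k < 14848, compOK B2.table B3.table ws k = true := fun k hk =>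
  (Nat.lt_or_ge k 14336).elim (comp_ok_upto14336 k) fun h =>
    allFrom_spec _ _ _ compOK_14336 k h hk

theorem comp_ok_upto15360 : ∀ k < 15360, compOK B2.table B3.table ws k = true := fun k hk =>
  (Nat.lt_or_ge k 14848).elim (comp_ok_upto14848 k) fun h =>
    allFrom_spec _ _ _ compOK_14848 k h hk

theorem comp_ok_upto15872 : ∀ k < 15872, compOK B2.table B3.table ws k = true := fun k hk =>
  (Nat.lt_or_ge k 15360).elim (comp_ok_upto15360 k) fun h =>
    allFrom_spec _ _ _ compOK_15360 k h hk

theorem comp_ok_upto16384 : ∀ k < 16384, compOK B2.table B3.table ws k = true := fun k hk =>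
  (Nat.lt_or_ge k 15872).elim (comp_ok_upto15872 k) fun h =>
    allFrom_spec _ _ _ compOK_15872 k h hk

theorem comp_ok_upto16896 : ∀ k < 16896, compOK B2.table B3.table ws k = true := fun k hk =>
  (Nat.lt_or_ge k 16384).elim (comp_ok_upto16384 k) fun h =>
    allFrom_spec _ _ _ compOK_16384 k h hk

theorem comp_ok_upto17408 : ∀ k < 17408, compOK B2.table B3.table ws k = true := fun k hk =>
  (Nat.lt_or_ge k 16896).elim (comp_ok_upto16896 k) fun h =>
    allFrom_spec _ _ _ compOK_16896 k h hk

theorem comp_ok_upto17920 : ∀ k < 17920, compOK B2.table B3.table ws k = true := fun k hk =>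
  (Nat.lt_or_ge k 17408).elim (comp_ok_upto17408 k) fun h =>
    allFrom_spec _ _ _ compOK_17408 k h hk

theorem comp_ok_upto18432 : ∀ k < 18432, compOK B2.table B3.table ws k = true := fun k hk =>
  (Nat.lt_or_ge k 17920).elim (comp_ok_upto17920 k) fun h =>
    allFrom_spec _ _ _ compOK_17920 k h hk

theorem comp_ok_upto18944 : ∀ k < 18944, compOK B2.table B3.table ws k = true := fun k hk =>
  (Nat.lt_or_ge k 18432).elim (comp_ok_upto18432 k) fun h =>
    allFrom_spec _ _ _ compOK_18432 k h hk

theorem comp_ok_upto19456 : ∀ k < 19456, compOK B2.table B3.table ws k = true := fun k hk =>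
  (Nat.lt_or_ge k 18944).elim (comp_ok_upto18944 k) fun h =>
    allFrom_spec _ _ _ compOK_18944 k h hk

theorem comp_ok_upto19968 : ∀ k < 19968, compOK B2.table B3.table ws k = true := fun k hk =>
  (Nat.lt_or_ge k 19456).elim (comp_ok_upto19456 k) fun h =>
    allFrom_spec _ _ _ compOK_19456 k h hk

theorem comp_ok_upto20480 : ∀ k < 20480, compOK B2.table B3.table ws k = true := fun k hk =>
  (Nat.lt_or_ge k 19968).elim (comp_ok_upto19968 k) fun h =>
    allFrom_spec _ _ _ compOK_19968 k h hk

theorem comp_ok_upto20992 : ∀ k < 20992, compOK B2.table B3.table ws k = true := fun k hk =>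
  (Nat.lt_or_ge k 20480).elim (comp_ok_upto20480 k) fun h =>
    allFrom_spec _ _ _ compOK_20480 k h hk

theorem comp_ok_upto21504 : ∀ k < 21504, compOK B2.table B3.table ws k = true := fun k hk =>
  (Nat.lt_or_ge k 20992).elim (comp_ok_upto20992 k) fun h =>
    allFrom_spec _ _ _ compOK_20992 k h hk

theorem comp_ok_upto22016 : ∀ k < 22016, compOK B2.table B3.table ws k = true := fun k hk =>
  (Nat.lt_or_ge k 21504).elim (comp_ok_upto21504 k) fun h =>
    allFrom_spec _ _ _ compOK_21504 k h hk

theorem comp_ok_upto22528 : ∀ k < 22528, compOK B2.table B3.table ws k = true := fun k hk =>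
  (Nat.lt_or_ge k 22016).elim (comp_ok_upto22016 k) fun h =>
    allFrom_spec _ _ _ compOK_22016 k h hk

theorem comp_ok_upto23040 : ∀ k < 23040, compOK B2.table B3.table ws k = true := fun k hk =>
  (Nat.lt_or_ge k 22528).elim (comp_ok_upto22528 k) fun h =>
    allFrom_spec _ _ _ compOK_22528 k h hk

theorem comp_ok_upto23552 : ∀ k < 23552, compOK B2.table B3.table ws k = true := fun k hk =>
  (Nat.lt_or_ge k 23040).elim (comp_ok_upto23040 k) fun h =>
    allFrom_spec _ _ _ compOK_23040 k h hk

theorem comp_ok_upto24064 : ∀ k < 24064, compOK B2.table B3.table ws k = true := fun k hk =>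
  (Nat.lt_or_ge k 23552).elim (comp_ok_upto23552 k) fun h =>
    allFrom_spec _ _ _ compOK_23552 k h hk

theorem comp_ok_upto24576 : ∀ k < 24576, compOK B2.table B3.table ws k = true := fun k hk =>
  (Nat.lt_or_ge k 24064).elim (comp_ok_upto24064 k) fun h =>
    allFrom_spec _ _ _ compOK_24064 k h hk

theorem comp_ok_upto25088 : ∀ k < 25088, compOK B2.table B3.table ws k = true := fun k hk =>
  (Nat.lt_or_ge k 24576).elim (comp_ok_upto24576 k) fun h =>
    allFrom_spec _ _ _ compOK_24576 k h hk

theorem comp_ok_upto25600 : ∀ k < 25600, compOK B2.table B3.table ws k = true := fun k hk =>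
  (Nat.lt_or_ge k 25088).elim (comp_ok_upto25088 k) fun h =>
    allFrom_spec _ _ _ compOK_25088 k h hk

theorem comp_ok_upto26112 : ∀ k < 26112, compOK B2.table B3.table ws k = true := fun k hk =>
  (Nat.lt_or_ge k 25600).elim (comp_ok_upto25600 k) fun h =>
    allFrom_spec _ _ _ compOK_25600 k h hk

theorem comp_ok_upto26624 : ∀ k < 26624, compOK B2.table B3.table ws k = true := fun k hk =>
  (Nat.lt_or_ge k 26112).elim (comp_ok_upto26112 k) fun h =>
    allFrom_spec _ _ _ compOK_26112 k h hk

theorem comp_ok_upto27136 : ∀ k < 27136, compOK B2.table B3.table ws k = true := fun k hk =>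
  (Nat.lt_or_ge k 26624).elim (comp_ok_upto26624 k) fun h =>
    allFrom_spec _ _ _ compOK_26624 k h hk

theorem comp_ok_upto27648 : ∀ k < 27648, compOK B2.table B3.table ws k = true := fun k hk =>
  (Nat.lt_or_ge k 27136).elim (comp_ok_upto27136 k) fun h =>
    allFrom_spec _ _ _ compOK_27136 k h hk

theorem comp_ok_upto28160 : ∀ k < 28160, compOK B2.table B3.table ws k = true := fun k hk =>
  (Nat.lt_or_ge k 27648).elim (comp_ok_upto27648 k) fun h =>
    allFrom_spec _ _ _ compOK_27648 k h hk

theorem comp_ok_upto28672 : ∀ k < 28672, compOK B2.table B3.table ws k = true := fun k hk =>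
  (Nat.lt_or_ge k 28160).elim (comp_ok_upto28160 k) fun h =>
    allFrom_spec _ _ _ compOK_28160 k h hk

theorem comp_ok_upto29184 : ∀ k < 29184, compOK B2.table B3.table ws k = true := fun k hk =>
  (Nat.lt_or_ge k 28672).elim (comp_ok_upto28672 k) fun h =>
    allFrom_spec _ _ _ compOK_28672 k h hk

theorem comp_ok_upto29696 : ∀ k < 29696, compOK B2.table B3.table ws k = true := fun k hk =>
  (Nat.lt_or_ge k 29184).elim (comp_ok_upto29184 k) fun h =>
    allFrom_spec _ _ _ compOK_29184 k h hk

theorem comp_ok_upto30208 : ∀ k < 30208, compOK B2.table B3.table ws k = true := fun k hk =>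
  (Nat.lt_or_ge k 29696).elim (comp_ok_upto29696 k) fun h =>
    allFrom_spec _ _ _ compOK_29696 k h hk

theorem comp_ok_upto30720 : ∀ k < 30720, compOK B2.table B3.table ws k = true := fun k hk =>
  (Nat.lt_or_ge k 30208).elim (comp_ok_upto30208 k) fun h =>
    allFrom_spec _ _ _ compOK_30208 k h hk

theorem comp_ok_upto31232 : ∀ k < 31232, compOK B2.table B3.table ws k = true := fun k hk =>
  (Nat.lt_or_ge k 30720).elim (comp_ok_upto30720 k) fun h =>
    allFrom_spec _ _ _ compOK_30720 k h hk

theorem comp_ok_upto31671 : ∀ k < 31671, compOK B2.table B3.table ws k = true := fun k hk =>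
  (Nat.lt_or_ge k 31232).elim (comp_ok_upto31232 k) fun h =>
    allFrom_spec _ _ _ compOK_31232 k h hk

theorem comp_ok : ∀ k < 31671, compOK B2.table B3.table ws k = true := comp_ok_upto31671

theorem step {G : Type} [Group G] (π : G →* Equiv.Perm (Fin 31671)) {K : Subgroup G} [Finite K] (hT : Realised π K B2.table) :
    ∃ H : Subgroup G, Finite H ∧ Realised π H B3.table ∧ 96 * Nat.card H ≤ Nat.card K :=
  base_step π hT B3.table ws pts par pos 16 96 (by omega) (by decide +kernel) step_ok (by decide +kernel) rfl comp_ok (by decide +kernel)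

end B3

theorem lower (M : Type) (_ : Group M) (π : M →* Equiv.Perm (Fin 31671)) (K : Subgroup M) (_ : Finite K)
    (h : Realised π K CfsgLib.CosetEnum.Fi23.subTable) : 129123503308800 ≤ Nat.card K := by
  refine le_trans (le_of_eq ?_) (le_of_step π (B0.step π h) (fun H hfin hr => le_of_step π (B1.step π (K := H) hr) (fun H hfin hr => le_of_step π (B2.step π (K := H) hr) (fun H hfin hr => le_of_step π (B3.step π (K := H) hr) (fun H _ _ => one_le_card H)))))
  norm_num

end Base

end CfsgLib.CosetEnum.Fi23
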