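import Cfsg.Agent.Lib.CosetEnum.Fi23.BaseD

set_option autoImplicit false

set_option linter.all false

namespace CfsgLib.CosetEnum.Fi23

namespace Base

open CfsgLib.CosetEnum

namespace B0

end B0

namespace B1

end B1

namespace B2

theorem compOK_3072 : allFrom (fun i => compOK B1.table B2.table ws i) 512 3072 = true := by decide +kernel

theorem compOK_3584 : allFrom (fun i => compOK B1.table B2.table ws i) 512 3584 = true := by decide +kernel

theorem compOK_4096 : allFrom (fun i => compOK B1.table B2.table ws i) 512 4096 = true := by decide +kernel

theorem compOK_4608 : allFrom (fun i => compOK B1.table B2.table ws i) 512 4608 = true := by decide +kernel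

theorem compOK_5120 : allFrom (fun i => compOK B1.table B2.table ws i) 512 5120 = true := by decide +kernel

theorem compOK_5632 : allFrom (fun i => compOK B1.table B2.table ws i) 512 5632 = true := by decide +kernel

theorem compOK_6144 : allFrom (fun i => compOK B1.table B2.table ws i) 512 6144 = true := by decide +kernel

theorem compOK_6656 : allFrom (fun i => compOK B1.table B2.table ws i) 512 6656 = true := by decide +kernel

theorem compOK_7168 : allFrom (fun i => compOK B1.table B2.table ws i) 512 7168 = true := by decide +kernel

theorem compOK_7680 : allFrom (fun i => compOK B1.table B2.table ws i) 512 7680 = true := by decide +kernel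

theorem compOK_8192 : allFrom (fun i => compOK B1.table B2.table ws i) 512 8192 = true := by decide +kernel

theorem compOK_8704 : allFrom (fun i => compOK B1.table B2.table ws i) 512 8704 = true := by decide +kernel

theorem compOK_9216 : allFrom (fun i => compOK B1.table B2.table ws i) 512 9216 = true := by decide +kernel

theorem compOK_9728 : allFrom (fun i => compOK B1.table B2.table ws i) 512 9728 = true := by decide +kernel

theorem compOK_10240 : allFrom (fun i => compOK B1.table B2.table ws i) 512 10240 = true := by decide +kernel

theorem compOK_10752 : allFrom (fun i => compOK B1.table B2.table ws i) 512 10752 = true := by decide +kernel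

theorem compOK_11264 : allFrom (fun i => compOK B1.table B2.table ws i) 512 11264 = true := by decide +kernel

theorem compOK_11776 : allFrom (fun i => compOK B1.table B2.table ws i) 512 11776 = true := by decide +kernel

theorem compOK_12288 : allFrom (fun i => compOK B1.table B2.table ws i) 512 12288 = true := by decide +kernel

theorem compOK_12800 : allFrom (fun i => compOK B1.table B2.table ws i) 512 12800 = true := by decide +kernel

end B2

namespace B3

end B3

end Base

end CfsgLib.CosetEnum.Fi23
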