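import Cfsg.Agent.Lib.CosetEnum.Fi23.Match
import Cfsg.Agent.Lib.CosetEnum.Corr

set_option autoImplicit false

/-!
The centraliser of a transposition of the presented Fischer group `Fi23` is a non-split double cover of `Fi22`,
and the conjugates of the central involution form a class of 3-transpositions.
-/

namespace CfsgLib.CosetEnum.Fi23

open CfsgLib.CosetEnum

local notation "G" => Cfsg.Spor.Fi23

theorem word_eq_one (l : List ℕ) (hl : ∀ x ∈ l, x < 16) (h : ∀ k < 31671, scan table l k = k) :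
    (l.map g).prod = 1 :=
  prod_eq_of_scan_eq table 18364758544493064720 ip_ok row_ok π g hinv hπ injective l [] hl (by simp) h

theorem word_inv (l : List ℕ) (hl : ∀ x ∈ l, x < 16) : ((l.map g).prod)⁻¹ = (l.reverse.map g).prod := by
  induction l with
  | nil => simp
  | cons x r ih =>
    have hx : (g x)⁻¹ = g x := by rw [← hinv x (hl x (by simp)), linv_eq x (hl x (by simp))]
    rw [List.map_cons, List.prod_cons, mul_inv_rev, ih fun y hy => hl y (List.mem_cons_of_mem _ hy), hx,
      List.reverse_cons, List.map_append, List.prod_append]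
    simp

theorem sel_lt : ∀ x ∈ sel, x < 16 := by decide

theorem sub_eq_closure : H = Subgroup.closure (Set.range fun j : Fin 9 => g (sel.getD j 15)) := by
  rw [H, WordSub]
  congr 1
  ext z
  constructor
  · rintro ⟨l, hl, rfl⟩
    obtain ⟨j, rfl⟩ := (by decide : ∀ l ∈ subWords, ∃ j : Fin 9, l = [sel.getD j 15]) l hl
    exact ⟨j, by simp⟩
  · rintro ⟨j, rfl⟩
    exact ⟨[sel.getD j 15], (by decide : ∀ j : Fin 9, [sel.getD j 15] ∈ subWords) j, by simp⟩

theorem mem_sub (x : ℕ) (hx : x ∈ sel) : g x ∈ H := by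
  rw [sub_eq_closure]
  obtain ⟨j, rfl⟩ := (by decide : ∀ x ∈ sel, ∃ j : Fin 9, x = sel.getD j 15) x hx
  exact Subgroup.subset_closure ⟨j, rfl⟩

theorem conj_of_braid (x y : ℕ) (hx : x < 16) (hl : [x, y, x, y, x, y] ∈ ls) (hy : y < 16) :
    g y = (g x * g y) * g x * (g x * g y)⁻¹ := by
  have ix : (g x)⁻¹ = g x := by rw [← hinv x hx, linv_eq x hx]
  have iy : (g y)⁻¹ = g y := by rw [← hinv y hy, linv_eq y hy]
  have h := (lsWords _ hl).2
  simp only [List.map_cons, List.map_nil, List.prod_cons, List.prod_nil, mul_one] at h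
  rw [mul_inv_rev, ix, iy]
  calc g y = (g x * (g y * (g x * (g y * (g x * g y))))) * (g y)⁻¹ := by rw [h, one_mul, iy]
    _ = _ := by group

theorem no_index_two (L : Subgroup H) : L.index ≠ 2 := by
  intro hL
  haveI : L.Normal := Subgroup.normal_of_index_eq_two hL
  let e : ∀ x, x ∈ sel → H := fun x hx => ⟨g x, mem_sub x hx⟩
  have hedge : ∀ x y (hx : x ∈ sel) (hy : y ∈ sel), [x, y, x, y, x, y] ∈ ls → (e x hx ∈ L ↔ e y hy ∈ L) := by
    intro x y hx hy hl
    have h : e y hy = (e x hx * e y hy) * e x hx * (e x hx * e y hy)⁻¹ :=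
      Subtype.ext (conj_of_braid x y (sel_lt x hx) hl (sel_lt y hy))
    constructor
    · intro h'; rw [h]; exact Subgroup.Normal.conj_mem inferInstance _ h' _
    · intro h'
      rw [h] at h'
      simpa [mul_assoc] using Subgroup.Normal.conj_mem (inferInstance : L.Normal) _ h' (e x hx * e y hy)⁻¹
  have hall : ∀ x (hx : x ∈ sel), (e x hx ∈ L ↔ e 0 (by decide) ∈ L) := by
    have h1 := hedge 0 1 (by decide) (by decide) (by decide +kernel)
    have h2 := hedge 1 2 (by decide) (by decide) (by decide +kernel)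
    have h3 := hedge 2 3 (by decide) (by decide) (by decide +kernel)
    have h4 := hedge 3 4 (by decide) (by decide) (by decide +kernel)
    have h5 := hedge 4 5 (by decide) (by decide) (by decide +kernel)
    have h6 := hedge 5 6 (by decide) (by decide) (by decide +kernel)
    have h8 := hedge 3 8 (by decide) (by decide) (by decide +kernel)
    have h9 := hedge 8 9 (by decide) (by decide) (by decide +kernel)
    intro x hx
    have hx' := hx
    simp only [sel, List.mem_cons, List.not_mem_nil, or_false] at hx'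
    rcases hx' with rfl | rfl | rfl | rfl | rfl | rfl | rfl | rfl | rfl
    exacts [Iff.rfl, h1.symm, (h1.trans h2).symm, (h1.trans (h2.trans h3)).symm, (h1.trans (h2.trans (h3.trans h4))).symm,
      (h1.trans (h2.trans (h3.trans (h4.trans h5)))).symm, (h1.trans (h2.trans (h3.trans (h4.trans (h5.trans h6))))).symm,
      (h1.trans (h2.trans (h3.trans h8))).symm, (h1.trans (h2.trans (h3.trans (h8.trans h9)))).symm]
  by_cases h0 : e 0 (by decide) ∈ L
  · have : L = ⊤ := by
      rw [eq_top_iff]
      rintro ⟨w, hw⟩ -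
      have hle : H ≤ L.map H.subtype := by
        conv_lhs => rw [sub_eq_closure]
        refine (Subgroup.closure_le _).mpr ?_
        rintro _ ⟨j, rfl⟩
        exact ⟨_, (hall _ ((by decide : ∀ j : Fin 9, sel.getD j 15 ∈ sel) j)).mpr h0, rfl⟩
      obtain ⟨v, hv, hvw⟩ := hle hw
      have : v = ⟨w, hw⟩ := Subtype.ext hvw
      exact this ▸ hv
    rw [this, Subgroup.index_top] at hL
    omega
  · let l : List {x // x ∈ sel} := (List.replicate 9 [⟨0, by decide⟩, ⟨1, by decide⟩, ⟨2, by decide⟩,
      ⟨3, by decide⟩, ⟨4, by decide⟩, ⟨5, by decide⟩, ⟨8, by decide⟩]).flatten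
    have hprod : (l.map fun x => e x.1 x.2).prod = 1 := by
      apply Subtype.ext
      rw [Subgroup.val_list_prod, List.map_map, OneMemClass.coe_one]
      exact (lsWords ([0, 1, 2, 3, 4, 5, 8, 0, 1, 2, 3, 4, 5, 8, 0, 1, 2, 3, 4, 5, 8, 0, 1, 2, 3, 4, 5, 8, 0, 1, 2, 3,
        4, 5, 8, 0, 1, 2, 3, 4, 5, 8, 0, 1, 2, 3, 4, 5, 8, 0, 1, 2, 3, 4, 5, 8, 0, 1, 2, 3, 4, 5, 8]) (by decide +kernel)).2
    have h := (prod_mem_iff_even L hL (l.map fun x => e x.1 x.2) (by
      intro y hy
      obtain ⟨x, -, rfl⟩ := List.mem_map.mp hy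
      exact fun hmem => h0 ((hall x.1 x.2).mp hmem))).mp (hprod ▸ L.one_mem)
    rw [List.length_map, show l.length = 63 from rfl] at h
    exact absurd h (by decide)

/-- The point of the large group matching a point of the small one. -/
noncomputable def σ (k : Fin 3510) : Fin 31671 :=
  ⟨sig.get 20 k, by
    have h := corr_ok k k.2
    simp only [Bool.and_eq_true] at h
    exact Nat.le_of_ble_eq_true h.1.1⟩

theorem σ_injective : Function.Injective σ := by
  intro a b hab
  have ha := corr_ok a a.2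
  have hb := corr_ok b b.2
  simp only [Bool.and_eq_true] at ha hb
  have h1 := Nat.eq_of_beq_eq_true ha.1.2
  have h2 := Nat.eq_of_beq_eq_true hb.1.2
  rw [show sig.get 20 (a : ℕ) = sig.get 20 (b : ℕ) from congrArg Fin.val hab] at h1
  exact Fin.ext (h1.symm.trans h2)

theorem corr (j : Fin 9) (k : Fin 3510) : π (g (sel.getD j 15)) (σ k) = σ (Fi22.π (Fi22.g j) k) := by
  have h := corr_ok k k.2
  simp only [Bool.and_eq_true] at h
  have hj := Nat.eq_of_beq_eq_true (allFrom_spec _ _ _ h.2 j (Nat.zero_le _) (by have := j.2; omega))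
  have hj16 : sel.getD j 15 < 16 := sel_lt _ ((by decide : ∀ j : Fin 9, sel.getD j 15 ∈ sel) j)
  refine Fin.ext ?_
  have e1 := pi_linv_apply table 18364758544493064720 31671 ip_ok row_ok π g hπ hj16 (σ k)
  rw [linv_eq _ hj16] at e1
  have e2 := pi_linv_apply Fi22.table 18364758544493064720 3510 Fi22.ip_ok Fi22.row_ok Fi22.π Fi22.g Fi22.hπ
    (show (j : ℕ) < 16 by omega) k
  rw [Fi22.linv_eq _ (show (j : ℕ) < 16 by omega)] at e2
  rw [e1]
  show act table (sel.getD j 15) (sig.get 20 k) = sig.get 20 (Fi22.π (Fi22.g j) k : Fin 3510)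
  rw [e2]
  exact hj

theorem finite_fi22 : Finite Cfsg.Spor.Fi22 := Fi22.finite

/-- The point stabiliser of `Fi23` is a non-split double cover of `Fi22`. -/
theorem doubleCover : Cfsg.IsNonsplitDoubleCover H Cfsg.Spor.Fi22 := by
  haveI : Finite G := finite
  haveI : Finite Cfsg.Spor.Fi22 := finite_fi22
  haveI := Fi22.Simple.isSimple
  obtain ⟨f, -, hf⟩ := exists_hom_of_corr π Fi22.π Fi22.injective σ σ_injective
    (fun j : Fin 9 => g (sel.getD j 15)) (fun j : Fin 9 => Fi22.g j) H sub_eq_closure.le corr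
  refine isNonsplitDoubleCover_of_hom ?_ f ?_ (by rw [card_H, Fi22.card_group]) no_index_two
  · rw [Fi22.card_group]; norm_num
  · rw [← MonoidHom.range_eq_top, eq_top_iff]
    refine Fi22.translation.closure_top.trans ((Subgroup.closure_le _).mpr ?_)
    rintro _ ⟨x, hx, rfl⟩
    rcases Fi22.gen_or_one x hx with h | h
    · exact ⟨_, hf ⟨x, h⟩ (mem_sub _ ((by decide : ∀ j : Fin 9, sel.getD j 15 ∈ sel) _))⟩
    · show Fi22.g x ∈ f.range
      rw [h]
      exact f.range.one_mem

end CfsgLib.CosetEnum.Fi23
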