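import Cfsg.Agent.Lib.CosetEnum.Fi23.DataD

set_option autoImplicit false

set_option linter.all false

namespace CfsgLib.CosetEnum.Fi23

open CfsgLib.CosetEnum

theorem rowOK_10240 : allFrom (fun k => rowOK table 18364758544493064720 31671 k) 1024 10240 = true := by decide +kernel

theorem rowOK_11264 : allFrom (fun k => rowOK table 18364758544493064720 31671 k) 1024 11264 = true := by decide +kernel

theorem rowOK_12288 : allFrom (fun k => rowOK table 18364758544493064720 31671 k) 1024 12288 = true := by decide +kernel

theorem rowOK_13312 : allFrom (fun k => rowOK table 18364758544493064720 31671 k) 1024 13312 = true := by decide +kernel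

theorem rowOK_14336 : allFrom (fun k => rowOK table 18364758544493064720 31671 k) 1024 14336 = true := by decide +kernel

theorem rowOK_15360 : allFrom (fun k => rowOK table 18364758544493064720 31671 k) 1024 15360 = true := by decide +kernel

theorem rowOK_16384 : allFrom (fun k => rowOK table 18364758544493064720 31671 k) 1024 16384 = true := by decide +kernel

theorem rowOK_17408 : allFrom (fun k => rowOK table 18364758544493064720 31671 k) 1024 17408 = true := by decide +kernel

theorem rowOK_18432 : allFrom (fun k => rowOK table 18364758544493064720 31671 k) 1024 18432 = true := by decide +kernel

theorem rowOK_19456 : allFrom (fun k => rowOK table 18364758544493064720 31671 k) 1024 19456 = true := by decide +kernel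

theorem rowOK_20480 : allFrom (fun k => rowOK table 18364758544493064720 31671 k) 1024 20480 = true := by decide +kernel

end CfsgLib.CosetEnum.Fi23
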