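import Cfsg.Agent.Lib.CosetEnum.Fi23.DataD

set_option autoImplicit false

set_option linter.all false

namespace CfsgLib.CosetEnum.Fi23

open CfsgLib.CosetEnum

theorem relOK_27648 : allFrom (fun k => fixesAll table k ls) 512 27648 = true := by decide +kernel

theorem relOK_28160 : allFrom (fun k => fixesAll table k ls) 512 28160 = true := by decide +kernel

theorem relOK_28672 : allFrom (fun k => fixesAll table k ls) 512 28672 = true := by decide +kernel

theorem relOK_29184 : allFrom (fun k => fixesAll table k ls) 512 29184 = true := by decide +kernel

theorem relOK_29696 : allFrom (fun k => fixesAll table k ls) 512 29696 = true := by decide +kernel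

theorem relOK_30208 : allFrom (fun k => fixesAll table k ls) 512 30208 = true := by decide +kernel

end CfsgLib.CosetEnum.Fi23
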