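import Cfsg.Agent.Lib.CosetEnum.Fi23.DataD

set_option autoImplicit false

set_option linter.all false

namespace CfsgLib.CosetEnum.Fi23

open CfsgLib.CosetEnum

theorem treeOK_26624 : allFrom (fun k => Nat.beq k 0 || treeOK table par [0, 1, 2, 3, 4, 5, 6, 7, 8, 9] k) 2048 26624 = true := by decide +kernel

theorem treeOK_28672 : allFrom (fun k => Nat.beq k 0 || treeOK table par [0, 1, 2, 3, 4, 5, 6, 7, 8, 9] k) 2048 28672 = true := by decide +kernel

theorem treeOK_30720 : allFrom (fun k => Nat.beq k 0 || treeOK table par [0, 1, 2, 3, 4, 5, 6, 7, 8, 9] k) 951 30720 = true := by decide +kernel

theorem subComp_0 : allFrom (fun k => compOK table subTable subWords k) 1024 0 = true := by decide +kernel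

theorem subComp_1024 : allFrom (fun k => compOK table subTable subWords k) 1024 1024 = true := by decide +kernel

theorem subComp_2048 : allFrom (fun k => compOK table subTable subWords k) 1024 2048 = true := by decide +kernel

theorem subComp_3072 : allFrom (fun k => compOK table subTable subWords k) 1024 3072 = true := by decide +kernel

theorem subComp_4096 : allFrom (fun k => compOK table subTable subWords k) 1024 4096 = true := by decide +kernel

theorem subComp_5120 : allFrom (fun k => compOK table subTable subWords k) 1024 5120 = true := by decide +kernel

theorem subComp_6144 : allFrom (fun k => compOK table subTable subWords k) 1024 6144 = true := by decide +kernel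

theorem subComp_7168 : allFrom (fun k => compOK table subTable subWords k) 1024 7168 = true := by decide +kernel

theorem subComp_8192 : allFrom (fun k => compOK table subTable subWords k) 1024 8192 = true := by decide +kernel

theorem subComp_9216 : allFrom (fun k => compOK table subTable subWords k) 1024 9216 = true := by decide +kernel

theorem subComp_10240 : allFrom (fun k => compOK table subTable subWords k) 1024 10240 = true := by decide +kernel

theorem subComp_11264 : allFrom (fun k => compOK table subTable subWords k) 1024 11264 = true := by decide +kernel

theorem subComp_12288 : allFrom (fun k => compOK table subTable subWords k) 1024 12288 = true := by decide +kernel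

theorem subComp_13312 : allFrom (fun k => compOK table subTable subWords k) 1024 13312 = true := by decide +kernel

theorem subComp_14336 : allFrom (fun k => compOK table subTable subWords k) 1024 14336 = true := by decide +kernel

theorem subComp_15360 : allFrom (fun k => compOK table subTable subWords k) 1024 15360 = true := by decide +kernel

theorem subComp_16384 : allFrom (fun k => compOK table subTable subWords k) 1024 16384 = true := by decide +kernel

theorem subComp_17408 : allFrom (fun k => compOK table subTable subWords k) 1024 17408 = true := by decide +kernel

theorem subComp_18432 : allFrom (fun k => compOK table subTable subWords k) 1024 18432 = true := by decide +kernel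

theorem subComp_19456 : allFrom (fun k => compOK table subTable subWords k) 1024 19456 = true := by decide +kernel

theorem subComp_20480 : allFrom (fun k => compOK table subTable subWords k) 1024 20480 = true := by decide +kernel

theorem subComp_21504 : allFrom (fun k => compOK table subTable subWords k) 1024 21504 = true := by decide +kernel

theorem subComp_22528 : allFrom (fun k => compOK table subTable subWords k) 1024 22528 = true := by decide +kernel

theorem subComp_23552 : allFrom (fun k => compOK table subTable subWords k) 1024 23552 = true := by decide +kernel

theorem subComp_24576 : allFrom (fun k => compOK table subTable subWords k) 1024 24576 = true := by decide +kernel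

theorem subComp_25600 : allFrom (fun k => compOK table subTable subWords k) 1024 25600 = true := by decide +kernel

theorem subComp_26624 : allFrom (fun k => compOK table subTable subWords k) 1024 26624 = true := by decide +kernel

theorem subComp_27648 : allFrom (fun k => compOK table subTable subWords k) 1024 27648 = true := by decide +kernel

theorem subComp_28672 : allFrom (fun k => compOK table subTable subWords k) 1024 28672 = true := by decide +kernel

theorem subComp_29696 : allFrom (fun k => compOK table subTable subWords k) 1024 29696 = true := by decide +kernel

theorem subComp_30720 : allFrom (fun k => compOK table subTable subWords k) 951 30720 = true := by decide +kernel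

end CfsgLib.CosetEnum.Fi23
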