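import Cfsg.Agent.Lib.CosetEnum.Fi23.DataD

set_option autoImplicit false

set_option linter.all false

namespace CfsgLib.CosetEnum.Fi23

open CfsgLib.CosetEnum

theorem relOK_0 : allFrom (fun k => fixesAll table k ls) 512 0 = true := by decide +kernel

theorem relOK_512 : allFrom (fun k => fixesAll table k ls) 512 512 = true := by decide +kernel

theorem relOK_1024 : allFrom (fun k => fixesAll table k ls) 512 1024 = true := by decide +kernel

theorem relOK_1536 : allFrom (fun k => fixesAll table k ls) 512 1536 = true := by decide +kernel

theorem relOK_2048 : allFrom (fun k => fixesAll table k ls) 512 2048 = true := by decide +kernel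

theorem relOK_2560 : allFrom (fun k => fixesAll table k ls) 512 2560 = true := by decide +kernel

end CfsgLib.CosetEnum.Fi23
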