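import Cfsg.Agent.Lib.CosetEnum.Fi23.DataD

set_option autoImplicit false

set_option linter.all false

namespace CfsgLib.CosetEnum.Fi23

open CfsgLib.CosetEnum

theorem relOK_3072 : allFrom (fun k => fixesAll table k ls) 512 3072 = true := by decide +kernel

theorem relOK_3584 : allFrom (fun k => fixesAll table k ls) 512 3584 = true := by decide +kernel

theorem relOK_4096 : allFrom (fun k => fixesAll table k ls) 512 4096 = true := by decide +kernel

theorem relOK_4608 : allFrom (fun k => fixesAll table k ls) 512 4608 = true := by decide +kernel

theorem relOK_5120 : allFrom (fun k => fixesAll table k ls) 512 5120 = true := by decide +kernel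

end CfsgLib.CosetEnum.Fi23
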