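import Cfsg.Agent.Lib.CosetEnum.Fi23.DataD

set_option autoImplicit false

set_option linter.all false

namespace CfsgLib.CosetEnum.Fi23

open CfsgLib.CosetEnum

theorem relOK_8192 : allFrom (fun k => fixesAll table k ls) 512 8192 = true := by decide +kernel

theorem relOK_8704 : allFrom (fun k => fixesAll table k ls) 512 8704 = true := by decide +kernel

theorem relOK_9216 : allFrom (fun k => fixesAll table k ls) 512 9216 = true := by decide +kernel

theorem relOK_9728 : allFrom (fun k => fixesAll table k ls) 512 9728 = true := by decide +kernel

theorem relOK_10240 : allFrom (fun k => fixesAll table k ls) 512 10240 = true := by decide +kernel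

theorem relOK_10752 : allFrom (fun k => fixesAll table k ls) 512 10752 = true := by decide +kernel

end CfsgLib.CosetEnum.Fi23
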