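import Cfsg.Agent.Lib.CosetEnum.Fi23.DataD

set_option autoImplicit false

set_option linter.all false

namespace CfsgLib.CosetEnum.Fi23

open CfsgLib.CosetEnum

theorem relOK_11264 : allFrom (fun k => fixesAll table k ls) 512 11264 = true := by decide +kernel

theorem relOK_11776 : allFrom (fun k => fixesAll table k ls) 512 11776 = true := by decide +kernel

theorem relOK_12288 : allFrom (fun k => fixesAll table k ls) 512 12288 = true := by decide +kernel

theorem relOK_12800 : allFrom (fun k => fixesAll table k ls) 512 12800 = true := by decide +kernel

theorem relOK_13312 : allFrom (fun k => fixesAll table k ls) 512 13312 = true := by decide +kernel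

end CfsgLib.CosetEnum.Fi23
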