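import Cfsg.Agent.Lib.CosetEnum.Fi23.DataD

set_option autoImplicit false

set_option linter.all false

namespace CfsgLib.CosetEnum.Fi23

open CfsgLib.CosetEnum

theorem relOK_13824 : allFrom (fun k => fixesAll table k ls) 512 13824 = true := by decide +kernel

theorem relOK_14336 : allFrom (fun k => fixesAll table k ls) 512 14336 = true := by decide +kernel

theorem relOK_14848 : allFrom (fun k => fixesAll table k ls) 512 14848 = true := by decide +kernel

theorem relOK_15360 : allFrom (fun k => fixesAll table k ls) 512 15360 = true := by decide +kernel

theorem relOK_15872 : allFrom (fun k => fixesAll table k ls) 512 15872 = true := by decide +kernel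

theorem relOK_16384 : allFrom (fun k => fixesAll table k ls) 512 16384 = true := by decide +kernel

end CfsgLib.CosetEnum.Fi23
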