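import Cfsg.Agent.Lib.CosetEnum.Fi23.DataD

set_option autoImplicit false

set_option linter.all false

namespace CfsgLib.CosetEnum.Fi23

open CfsgLib.CosetEnum

theorem relOK_16896 : allFrom (fun k => fixesAll table k ls) 512 16896 = true := by decide +kernel

theorem relOK_17408 : allFrom (fun k => fixesAll table k ls) 512 17408 = true := by decide +kernel

theorem relOK_17920 : allFrom (fun k => fixesAll table k ls) 512 17920 = true := by decide +kernel

theorem relOK_18432 : allFrom (fun k => fixesAll table k ls) 512 18432 = true := by decide +kernel

theorem relOK_18944 : allFrom (fun k => fixesAll table k ls) 512 18944 = true := by decide +kernel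

end CfsgLib.CosetEnum.Fi23
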