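import Cfsg.Agent.Lib.CosetEnum.Fi23.DataQ0
import Cfsg.Agent.Lib.CosetEnum.Fi23.DataQ1
import Cfsg.Agent.Lib.CosetEnum.Fi23.DataQ2
import Cfsg.Agent.Lib.CosetEnum.Fi23.DataQ3
import Cfsg.Agent.Lib.CosetEnum.Fi23.DataQ4
import Cfsg.Agent.Lib.CosetEnum.Fi23.DataQ5
import Cfsg.Agent.Lib.CosetEnum.Fi23.DataQ6
import Cfsg.Agent.Lib.CosetEnum.Fi23.DataQ7
import Cfsg.Agent.Lib.CosetEnum.Fi23.DataQ8
import Cfsg.Agent.Lib.CosetEnum.Fi23.DataQ9
import Cfsg.Agent.Lib.CosetEnum.Fi23.DataQ10
import Cfsg.Agent.Lib.CosetEnum.Fi23.DataQ11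
import Cfsg.Agent.Lib.CosetEnum.Fi23.DataQ12
import Cfsg.Agent.Lib.CosetEnum.Fi23.DataQ13
import Cfsg.Agent.Lib.CosetEnum.Fi23.DataQ14
import Cfsg.Agent.Lib.CosetEnum.Fi23.DataQ15

set_option autoImplicit false

set_option linter.all false

namespace CfsgLib.CosetEnum.Fi23

open CfsgLib.CosetEnum

theorem row_ok_upto1024 : ∀ k < 1024, rowOK table 18364758544493064720 31671 k = true := fun k hk =>
  have h : 0 ≤ k := Nat.zero_le k
  allFrom_spec _ _ _ rowOK_0 k h hk

theorem row_ok_upto2048 : ∀ k < 2048, rowOK table 18364758544493064720 31671 k = true := fun k hk =>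
  (Nat.lt_or_ge k 1024).elim (row_ok_upto1024 k) fun h =>
    allFrom_spec _ _ _ rowOK_1024 k h hk

theorem row_ok_upto3072 : ∀ k < 3072, rowOK table 18364758544493064720 31671 k = true := fun k hk =>
  (Nat.lt_or_ge k 2048).elim (row_ok_upto2048 k) fun h =>
    allFrom_spec _ _ _ rowOK_2048 k h hk

theorem row_ok_upto4096 : ∀ k < 4096, rowOK table 18364758544493064720 31671 k = true := fun k hk =>
  (Nat.lt_or_ge k 3072).elim (row_ok_upto3072 k) fun h =>
    allFrom_spec _ _ _ rowOK_3072 k h hk

theorem row_ok_upto5120 : ∀ k < 5120, rowOK table 18364758544493064720 31671 k = true := fun k hk =>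
  (Nat.lt_or_ge k 4096).elim (row_ok_upto4096 k) fun h =>
    allFrom_spec _ _ _ rowOK_4096 k h hk

theorem row_ok_upto6144 : ∀ k < 6144, rowOK table 18364758544493064720 31671 k = true := fun k hk =>
  (Nat.lt_or_ge k 5120).elim (row_ok_upto5120 k) fun h =>
    allFrom_spec _ _ _ rowOK_5120 k h hk

theorem row_ok_upto7168 : ∀ k < 7168, rowOK table 18364758544493064720 31671 k = true := fun k hk =>
  (Nat.lt_or_ge k 6144).elim (row_ok_upto6144 k) fun h =>
    allFrom_spec _ _ _ rowOK_6144 k h hk

theorem row_ok_upto8192 : ∀ k < 8192, rowOK table 18364758544493064720 31671 k = true := fun k hk =>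
  (Nat.lt_or_ge k 7168).elim (row_ok_upto7168 k) fun h =>
    allFrom_spec _ _ _ rowOK_7168 k h hk

theorem row_ok_upto9216 : ∀ k < 9216, rowOK table 18364758544493064720 31671 k = true := fun k hk =>
  (Nat.lt_or_ge k 8192).elim (row_ok_upto8192 k) fun h =>
    allFrom_spec _ _ _ rowOK_8192 k h hk

theorem row_ok_upto10240 : ∀ k < 10240, rowOK table 18364758544493064720 31671 k = true := fun k hk =>
  (Nat.lt_or_ge k 9216).elim (row_ok_upto9216 k) fun h =>
    allFrom_spec _ _ _ rowOK_9216 k h hk

theorem row_ok_upto11264 : ∀ k < 11264, rowOK table 18364758544493064720 31671 k = true := fun k hk =>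
  (Nat.lt_or_ge k 10240).elim (row_ok_upto10240 k) fun h =>
    allFrom_spec _ _ _ rowOK_10240 k h hk

theorem row_ok_upto12288 : ∀ k < 12288, rowOK table 18364758544493064720 31671 k = true := fun k hk =>
  (Nat.lt_or_ge k 11264).elim (row_ok_upto11264 k) fun h =>
    allFrom_spec _ _ _ rowOK_11264 k h hk

theorem row_ok_upto13312 : ∀ k < 13312, rowOK table 18364758544493064720 31671 k = true := fun k hk =>
  (Nat.lt_or_ge k 12288).elim (row_ok_upto12288 k) fun h =>
    allFrom_spec _ _ _ rowOK_12288 k h hk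

theorem row_ok_upto14336 : ∀ k < 14336, rowOK table 18364758544493064720 31671 k = true := fun k hk =>
  (Nat.lt_or_ge k 13312).elim (row_ok_upto13312 k) fun h =>
    allFrom_spec _ _ _ rowOK_13312 k h hk

theorem row_ok_upto15360 : ∀ k < 15360, rowOK table 18364758544493064720 31671 k = true := fun k hk =>
  (Nat.lt_or_ge k 14336).elim (row_ok_upto14336 k) fun h =>
    allFrom_spec _ _ _ rowOK_14336 k h hk

theorem row_ok_upto16384 : ∀ k < 16384, rowOK table 18364758544493064720 31671 k = true := fun k hk =>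
  (Nat.lt_or_ge k 15360).elim (row_ok_upto15360 k) fun h =>
    allFrom_spec _ _ _ rowOK_15360 k h hk

theorem row_ok_upto17408 : ∀ k < 17408, rowOK table 18364758544493064720 31671 k = true := fun k hk =>
  (Nat.lt_or_ge k 16384).elim (row_ok_upto16384 k) fun h =>
    allFrom_spec _ _ _ rowOK_16384 k h hk

theorem row_ok_upto18432 : ∀ k < 18432, rowOK table 18364758544493064720 31671 k = true := fun k hk =>
  (Nat.lt_or_ge k 17408).elim (row_ok_upto17408 k) fun h =>
    allFrom_spec _ _ _ rowOK_17408 k h hk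

theorem row_ok_upto19456 : ∀ k < 19456, rowOK table 18364758544493064720 31671 k = true := fun k hk =>
  (Nat.lt_or_ge k 18432).elim (row_ok_upto18432 k) fun h =>
    allFrom_spec _ _ _ rowOK_18432 k h hk

theorem row_ok_upto20480 : ∀ k < 20480, rowOK table 18364758544493064720 31671 k = true := fun k hk =>
  (Nat.lt_or_ge k 19456).elim (row_ok_upto19456 k) fun h =>
    allFrom_spec _ _ _ rowOK_19456 k h hk

theorem row_ok_upto21504 : ∀ k < 21504, rowOK table 18364758544493064720 31671 k = true := fun k hk =>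
  (Nat.lt_or_ge k 20480).elim (row_ok_upto20480 k) fun h =>
    allFrom_spec _ _ _ rowOK_20480 k h hk

theorem row_ok_upto22528 : ∀ k < 22528, rowOK table 18364758544493064720 31671 k = true := fun k hk =>
  (Nat.lt_or_ge k 21504).elim (row_ok_upto21504 k) fun h =>
    allFrom_spec _ _ _ rowOK_21504 k h hk

theorem row_ok_upto23552 : ∀ k < 23552, rowOK table 18364758544493064720 31671 k = true := fun k hk =>
  (Nat.lt_or_ge k 22528).elim (row_ok_upto22528 k) fun h =>
    allFrom_spec _ _ _ rowOK_22528 k h hk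

theorem row_ok_upto24576 : ∀ k < 24576, rowOK table 18364758544493064720 31671 k = true := fun k hk =>
  (Nat.lt_or_ge k 23552).elim (row_ok_upto23552 k) fun h =>
    allFrom_spec _ _ _ rowOK_23552 k h hk

theorem row_ok_upto25600 : ∀ k < 25600, rowOK table 18364758544493064720 31671 k = true := fun k hk =>
  (Nat.lt_or_ge k 24576).elim (row_ok_upto24576 k) fun h =>
    allFrom_spec _ _ _ rowOK_24576 k h hk

theorem row_ok_upto26624 : ∀ k < 26624, rowOK table 18364758544493064720 31671 k = true := fun k hk =>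
  (Nat.lt_or_ge k 25600).elim (row_ok_upto25600 k) fun h =>
    allFrom_spec _ _ _ rowOK_25600 k h hk

theorem row_ok_upto27648 : ∀ k < 27648, rowOK table 18364758544493064720 31671 k = true := fun k hk =>
  (Nat.lt_or_ge k 26624).elim (row_ok_upto26624 k) fun h =>
    allFrom_spec _ _ _ rowOK_26624 k h hk

theorem row_ok_upto28672 : ∀ k < 28672, rowOK table 18364758544493064720 31671 k = true := fun k hk =>
  (Nat.lt_or_ge k 27648).elim (row_ok_upto27648 k) fun h =>
    allFrom_spec _ _ _ rowOK_27648 k h hk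

theorem row_ok_upto29696 : ∀ k < 29696, rowOK table 18364758544493064720 31671 k = true := fun k hk =>
  (Nat.lt_or_ge k 28672).elim (row_ok_upto28672 k) fun h =>
    allFrom_spec _ _ _ rowOK_28672 k h hk

theorem row_ok_upto30720 : ∀ k < 30720, rowOK table 18364758544493064720 31671 k = true := fun k hk =>
  (Nat.lt_or_ge k 29696).elim (row_ok_upto29696 k) fun h =>
    allFrom_spec _ _ _ rowOK_29696 k h hk

theorem row_ok_upto31671 : ∀ k < 31671, rowOK table 18364758544493064720 31671 k = true := fun k hk =>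
  (Nat.lt_or_ge k 30720).elim (row_ok_upto30720 k) fun h =>
    allFrom_spec _ _ _ rowOK_30720 k h hk

theorem row_ok : ∀ k < 31671, rowOK table 18364758544493064720 31671 k = true := row_ok_upto31671

theorem rel_ok_upto512 : ∀ k < 512, fixesAll table k ls = true := fun k hk =>
  have h : 0 ≤ k := Nat.zero_le k
  allFrom_spec _ _ _ relOK_0 k h hk

theorem rel_ok_upto1024 : ∀ k < 1024, fixesAll table k ls = true := fun k hk =>
  (Nat.lt_or_ge k 512).elim (rel_ok_upto512 k) fun h =>
    allFrom_spec _ _ _ relOK_512 k h hk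

theorem rel_ok_upto1536 : ∀ k < 1536, fixesAll table k ls = true := fun k hk =>
  (Nat.lt_or_ge k 1024).elim (rel_ok_upto1024 k) fun h =>
    allFrom_spec _ _ _ relOK_1024 k h hk

theorem rel_ok_upto2048 : ∀ k < 2048, fixesAll table k ls = true := fun k hk =>
  (Nat.lt_or_ge k 1536).elim (rel_ok_upto1536 k) fun h =>
    allFrom_spec _ _ _ relOK_1536 k h hk

theorem rel_ok_upto2560 : ∀ k < 2560, fixesAll table k ls = true := fun k hk =>
  (Nat.lt_or_ge k 2048).elim (rel_ok_upto2048 k) fun h =>
    allFrom_spec _ _ _ relOK_2048 k h hk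

theorem rel_ok_upto3072 : ∀ k < 3072, fixesAll table k ls = true := fun k hk =>
  (Nat.lt_or_ge k 2560).elim (rel_ok_upto2560 k) fun h =>
    allFrom_spec _ _ _ relOK_2560 k h hk

theorem rel_ok_upto3584 : ∀ k < 3584, fixesAll table k ls = true := fun k hk =>
  (Nat.lt_or_ge k 3072).elim (rel_ok_upto3072 k) fun h =>
    allFrom_spec _ _ _ relOK_3072 k h hk

theorem rel_ok_upto4096 : ∀ k < 4096, fixesAll table k ls = true := fun k hk =>
  (Nat.lt_or_ge k 3584).elim (rel_ok_upto3584 k) fun h =>
    allFrom_spec _ _ _ relOK_3584 k h hk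

theorem rel_ok_upto4608 : ∀ k < 4608, fixesAll table k ls = true := fun k hk =>
  (Nat.lt_or_ge k 4096).elim (rel_ok_upto4096 k) fun h =>
    allFrom_spec _ _ _ relOK_4096 k h hk

theorem rel_ok_upto5120 : ∀ k < 5120, fixesAll table k ls = true := fun k hk =>
  (Nat.lt_or_ge k 4608).elim (rel_ok_upto4608 k) fun h =>
    allFrom_spec _ _ _ relOK_4608 k h hk

theorem rel_ok_upto5632 : ∀ k < 5632, fixesAll table k ls = true := fun k hk =>
  (Nat.lt_or_ge k 5120).elim (rel_ok_upto5120 k) fun h =>
    allFrom_spec _ _ _ relOK_5120 k h hk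

theorem rel_ok_upto6144 : ∀ k < 6144, fixesAll table k ls = true := fun k hk =>
  (Nat.lt_or_ge k 5632).elim (rel_ok_upto5632 k) fun h =>
    allFrom_spec _ _ _ relOK_5632 k h hk

theorem rel_ok_upto6656 : ∀ k < 6656, fixesAll table k ls = true := fun k hk =>
  (Nat.lt_or_ge k 6144).elim (rel_ok_upto6144 k) fun h =>
    allFrom_spec _ _ _ relOK_6144 k h hk

theorem rel_ok_upto7168 : ∀ k < 7168, fixesAll table k ls = true := fun k hk =>
  (Nat.lt_or_ge k 6656).elim (rel_ok_upto6656 k) fun h =>
    allFrom_spec _ _ _ relOK_6656 k h hk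

theorem rel_ok_upto7680 : ∀ k < 7680, fixesAll table k ls = true := fun k hk =>
  (Nat.lt_or_ge k 7168).elim (rel_ok_upto7168 k) fun h =>
    allFrom_spec _ _ _ relOK_7168 k h hk

theorem rel_ok_upto8192 : ∀ k < 8192, fixesAll table k ls = true := fun k hk =>
  (Nat.lt_or_ge k 7680).elim (rel_ok_upto7680 k) fun h =>
    allFrom_spec _ _ _ relOK_7680 k h hk

theorem rel_ok_upto8704 : ∀ k < 8704, fixesAll table k ls = true := fun k hk =>
  (Nat.lt_or_ge k 8192).elim (rel_ok_upto8192 k) fun h =>
    allFrom_spec _ _ _ relOK_8192 k h hk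

theorem rel_ok_upto9216 : ∀ k < 9216, fixesAll table k ls = true := fun k hk =>
  (Nat.lt_or_ge k 8704).elim (rel_ok_upto8704 k) fun h =>
    allFrom_spec _ _ _ relOK_8704 k h hk

theorem rel_ok_upto9728 : ∀ k < 9728, fixesAll table k ls = true := fun k hk =>
  (Nat.lt_or_ge k 9216).elim (rel_ok_upto9216 k) fun h =>
    allFrom_spec _ _ _ relOK_9216 k h hk

theorem rel_ok_upto10240 : ∀ k < 10240, fixesAll table k ls = true := fun k hk =>
  (Nat.lt_or_ge k 9728).elim (rel_ok_upto9728 k) fun h =>
    allFrom_spec _ _ _ relOK_9728 k h hk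

theorem rel_ok_upto10752 : ∀ k < 10752, fixesAll table k ls = true := fun k hk =>
  (Nat.lt_or_ge k 10240).elim (rel_ok_upto10240 k) fun h =>
    allFrom_spec _ _ _ relOK_10240 k h hk

theorem rel_ok_upto11264 : ∀ k < 11264, fixesAll table k ls = true := fun k hk =>
  (Nat.lt_or_ge k 10752).elim (rel_ok_upto10752 k) fun h =>
    allFrom_spec _ _ _ relOK_10752 k h hk

theorem rel_ok_upto11776 : ∀ k < 11776, fixesAll table k ls = true := fun k hk =>
  (Nat.lt_or_ge k 11264).elim (rel_ok_upto11264 k) fun h =>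
    allFrom_spec _ _ _ relOK_11264 k h hk

theorem rel_ok_upto12288 : ∀ k < 12288, fixesAll table k ls = true := fun k hk =>
  (Nat.lt_or_ge k 11776).elim (rel_ok_upto11776 k) fun h =>
    allFrom_spec _ _ _ relOK_11776 k h hk

theorem rel_ok_upto12800 : ∀ k < 12800, fixesAll table k ls = true := fun k hk =>
  (Nat.lt_or_ge k 12288).elim (rel_ok_upto12288 k) fun h =>
    allFrom_spec _ _ _ relOK_12288 k h hk

theorem rel_ok_upto13312 : ∀ k < 13312, fixesAll table k ls = true := fun k hk =>
  (Nat.lt_or_ge k 12800).elim (rel_ok_upto12800 k) fun h =>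
    allFrom_spec _ _ _ relOK_12800 k h hk

theorem rel_ok_upto13824 : ∀ k < 13824, fixesAll table k ls = true := fun k hk =>
  (Nat.lt_or_ge k 13312).elim (rel_ok_upto13312 k) fun h =>
    allFrom_spec _ _ _ relOK_13312 k h hk

theorem rel_ok_upto14336 : ∀ k < 14336, fixesAll table k ls = true := fun k hk =>
  (Nat.lt_or_ge k 13824).elim (rel_ok_upto13824 k) fun h =>
    allFrom_spec _ _ _ relOK_13824 k h hk

theorem rel_ok_upto14848 : ∀ k < 14848, fixesAll table k ls = true := fun k hk =>
  (Nat.lt_or_ge k 14336).elim (rel_ok_upto14336 k) fun h =>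
    allFrom_spec _ _ _ relOK_14336 k h hk

theorem rel_ok_upto15360 : ∀ k < 15360, fixesAll table k ls = true := fun k hk =>
  (Nat.lt_or_ge k 14848).elim (rel_ok_upto14848 k) fun h =>
    allFrom_spec _ _ _ relOK_14848 k h hk

theorem rel_ok_upto15872 : ∀ k < 15872, fixesAll table k ls = true := fun k hk =>
  (Nat.lt_or_ge k 15360).elim (rel_ok_upto15360 k) fun h =>
    allFrom_spec _ _ _ relOK_15360 k h hk

theorem rel_ok_upto16384 : ∀ k < 16384, fixesAll table k ls = true := fun k hk =>
  (Nat.lt_or_ge k 15872).elim (rel_ok_upto15872 k) fun h =>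
    allFrom_spec _ _ _ relOK_15872 k h hk

theorem rel_ok_upto16896 : ∀ k < 16896, fixesAll table k ls = true := fun k hk =>
  (Nat.lt_or_ge k 16384).elim (rel_ok_upto16384 k) fun h =>
    allFrom_spec _ _ _ relOK_16384 k h hk

theorem rel_ok_upto17408 : ∀ k < 17408, fixesAll table k ls = true := fun k hk =>
  (Nat.lt_or_ge k 16896).elim (rel_ok_upto16896 k) fun h =>
    allFrom_spec _ _ _ relOK_16896 k h hk

theorem rel_ok_upto17920 : ∀ k < 17920, fixesAll table k ls = true := fun k hk =>
  (Nat.lt_or_ge k 17408).elim (rel_ok_upto17408 k) fun h =>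
    allFrom_spec _ _ _ relOK_17408 k h hk

theorem rel_ok_upto18432 : ∀ k < 18432, fixesAll table k ls = true := fun k hk =>
  (Nat.lt_or_ge k 17920).elim (rel_ok_upto17920 k) fun h =>
    allFrom_spec _ _ _ relOK_17920 k h hk

theorem rel_ok_upto18944 : ∀ k < 18944, fixesAll table k ls = true := fun k hk =>
  (Nat.lt_or_ge k 18432).elim (rel_ok_upto18432 k) fun h =>
    allFrom_spec _ _ _ relOK_18432 k h hk

theorem rel_ok_upto19456 : ∀ k < 19456, fixesAll table k ls = true := fun k hk =>
  (Nat.lt_or_ge k 18944).elim (rel_ok_upto18944 k) fun h =>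
    allFrom_spec _ _ _ relOK_18944 k h hk

theorem rel_ok_upto19968 : ∀ k < 19968, fixesAll table k ls = true := fun k hk =>
  (Nat.lt_or_ge k 19456).elim (rel_ok_upto19456 k) fun h =>
    allFrom_spec _ _ _ relOK_19456 k h hk

theorem rel_ok_upto20480 : ∀ k < 20480, fixesAll table k ls = true := fun k hk =>
  (Nat.lt_or_ge k 19968).elim (rel_ok_upto19968 k) fun h =>
    allFrom_spec _ _ _ relOK_19968 k h hk

theorem rel_ok_upto20992 : ∀ k < 20992, fixesAll table k ls = true := fun k hk =>
  (Nat.lt_or_ge k 20480).elim (rel_ok_upto20480 k) fun h =>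
    allFrom_spec _ _ _ relOK_20480 k h hk

theorem rel_ok_upto21504 : ∀ k < 21504, fixesAll table k ls = true := fun k hk =>
  (Nat.lt_or_ge k 20992).elim (rel_ok_upto20992 k) fun h =>
    allFrom_spec _ _ _ relOK_20992 k h hk

theorem rel_ok_upto22016 : ∀ k < 22016, fixesAll table k ls = true := fun k hk =>
  (Nat.lt_or_ge k 21504).elim (rel_ok_upto21504 k) fun h =>
    allFrom_spec _ _ _ relOK_21504 k h hk

theorem rel_ok_upto22528 : ∀ k < 22528, fixesAll table k ls = true := fun k hk =>
  (Nat.lt_or_ge k 22016).elim (rel_ok_upto22016 k) fun h =>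
    allFrom_spec _ _ _ relOK_22016 k h hk

theorem rel_ok_upto23040 : ∀ k < 23040, fixesAll table k ls = true := fun k hk =>
  (Nat.lt_or_ge k 22528).elim (rel_ok_upto22528 k) fun h =>
    allFrom_spec _ _ _ relOK_22528 k h hk

theorem rel_ok_upto23552 : ∀ k < 23552, fixesAll table k ls = true := fun k hk =>
  (Nat.lt_or_ge k 23040).elim (rel_ok_upto23040 k) fun h =>
    allFrom_spec _ _ _ relOK_23040 k h hk

theorem rel_ok_upto24064 : ∀ k < 24064, fixesAll table k ls = true := fun k hk =>
  (Nat.lt_or_ge k 23552).elim (rel_ok_upto23552 k) fun h =>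
    allFrom_spec _ _ _ relOK_23552 k h hk

theorem rel_ok_upto24576 : ∀ k < 24576, fixesAll table k ls = true := fun k hk =>
  (Nat.lt_or_ge k 24064).elim (rel_ok_upto24064 k) fun h =>
    allFrom_spec _ _ _ relOK_24064 k h hk

theorem rel_ok_upto25088 : ∀ k < 25088, fixesAll table k ls = true := fun k hk =>
  (Nat.lt_or_ge k 24576).elim (rel_ok_upto24576 k) fun h =>
    allFrom_spec _ _ _ relOK_24576 k h hk

theorem rel_ok_upto25600 : ∀ k < 25600, fixesAll table k ls = true := fun k hk =>
  (Nat.lt_or_ge k 25088).elim (rel_ok_upto25088 k) fun h =>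
    allFrom_spec _ _ _ relOK_25088 k h hk

theorem rel_ok_upto26112 : ∀ k < 26112, fixesAll table k ls = true := fun k hk =>
  (Nat.lt_or_ge k 25600).elim (rel_ok_upto25600 k) fun h =>
    allFrom_spec _ _ _ relOK_25600 k h hk

theorem rel_ok_upto26624 : ∀ k < 26624, fixesAll table k ls = true := fun k hk =>
  (Nat.lt_or_ge k 26112).elim (rel_ok_upto26112 k) fun h =>
    allFrom_spec _ _ _ relOK_26112 k h hk

theorem rel_ok_upto27136 : ∀ k < 27136, fixesAll table k ls = true := fun k hk =>
  (Nat.lt_or_ge k 26624).elim (rel_ok_upto26624 k) fun h =>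
    allFrom_spec _ _ _ relOK_26624 k h hk

theorem rel_ok_upto27648 : ∀ k < 27648, fixesAll table k ls = true := fun k hk =>
  (Nat.lt_or_ge k 27136).elim (rel_ok_upto27136 k) fun h =>
    allFrom_spec _ _ _ relOK_27136 k h hk

theorem rel_ok_upto28160 : ∀ k < 28160, fixesAll table k ls = true := fun k hk =>
  (Nat.lt_or_ge k 27648).elim (rel_ok_upto27648 k) fun h =>
    allFrom_spec _ _ _ relOK_27648 k h hk

theorem rel_ok_upto28672 : ∀ k < 28672, fixesAll table k ls = true := fun k hk =>
  (Nat.lt_or_ge k 28160).elim (rel_ok_upto28160 k) fun h =>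
    allFrom_spec _ _ _ relOK_28160 k h hk

theorem rel_ok_upto29184 : ∀ k < 29184, fixesAll table k ls = true := fun k hk =>
  (Nat.lt_or_ge k 28672).elim (rel_ok_upto28672 k) fun h =>
    allFrom_spec _ _ _ relOK_28672 k h hk

theorem rel_ok_upto29696 : ∀ k < 29696, fixesAll table k ls = true := fun k hk =>
  (Nat.lt_or_ge k 29184).elim (rel_ok_upto29184 k) fun h =>
    allFrom_spec _ _ _ relOK_29184 k h hk

theorem rel_ok_upto30208 : ∀ k < 30208, fixesAll table k ls = true := fun k hk =>
  (Nat.lt_or_ge k 29696).elim (rel_ok_upto29696 k) fun h =>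
    allFrom_spec _ _ _ relOK_29696 k h hk

theorem rel_ok_upto30720 : ∀ k < 30720, fixesAll table k ls = true := fun k hk =>
  (Nat.lt_or_ge k 30208).elim (rel_ok_upto30208 k) fun h =>
    allFrom_spec _ _ _ relOK_30208 k h hk

theorem rel_ok_upto31232 : ∀ k < 31232, fixesAll table k ls = true := fun k hk =>
  (Nat.lt_or_ge k 30720).elim (rel_ok_upto30720 k) fun h =>
    allFrom_spec _ _ _ relOK_30720 k h hk

theorem rel_ok_upto31671 : ∀ k < 31671, fixesAll table k ls = true := fun k hk =>
  (Nat.lt_or_ge k 31232).elim (rel_ok_upto31232 k) fun h =>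
    allFrom_spec _ _ _ relOK_31232 k h hk

theorem rel_ok : ∀ k < 31671, fixesAll table k ls = true := rel_ok_upto31671

theorem ip_ok : ipOK 18364758544493064720 = true := by decide +kernel

theorem lift_ok : ∀ x < 16, FreeGroup.lift (fun a => permOf table 18364758544493064720 31671 ip_ok row_ok (idx a)) (gF x) =
    permOf table 18364758544493064720 31671 ip_ok row_ok x := by
  intro x hx
  interval_cases x
  all_goals first
    | exact FreeGroup.lift_apply_of
    | exact (map_one _).trans (permOf_out table 18364758544493064720 31671 ip_ok row_ok (by decide) (by decide +kernel)).symm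

/-- The action on the cosets. -/
noncomputable def π : Cfsg.Spor.Fi23 →* Equiv.Perm (Fin 31671) :=
  (translation.exists_rep table 31671 ip_ok row_ok rel_ok lift_ok).choose

theorem hπ : ∀ x < 16, π (g x) = permOf table 18364758544493064720 31671 ip_ok row_ok x :=
  (translation.exists_rep table 31671 ip_ok row_ok rel_ok lift_ok).choose_spec

theorem tree_ok_upto2048 : ∀ k < 2048, (Nat.beq k 0 || treeOK table par [0, 1, 2, 3, 4, 5, 6, 7, 8, 9] k) = true := fun k hk =>
  have h : 0 ≤ k := Nat.zero_le k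
  allFrom_spec _ _ _ treeOK_0 k h hk

theorem tree_ok_upto4096 : ∀ k < 4096, (Nat.beq k 0 || treeOK table par [0, 1, 2, 3, 4, 5, 6, 7, 8, 9] k) = true := fun k hk =>
  (Nat.lt_or_ge k 2048).elim (tree_ok_upto2048 k) fun h =>
    allFrom_spec _ _ _ treeOK_2048 k h hk

theorem tree_ok_upto6144 : ∀ k < 6144, (Nat.beq k 0 || treeOK table par [0, 1, 2, 3, 4, 5, 6, 7, 8, 9] k) = true := fun k hk =>
  (Nat.lt_or_ge k 4096).elim (tree_ok_upto4096 k) fun h =>
    allFrom_spec _ _ _ treeOK_4096 k h hk

theorem tree_ok_upto8192 : ∀ k < 8192, (Nat.beq k 0 || treeOK table par [0, 1, 2, 3, 4, 5, 6, 7, 8, 9] k) = true := fun k hk =>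
  (Nat.lt_or_ge k 6144).elim (tree_ok_upto6144 k) fun h =>
    allFrom_spec _ _ _ treeOK_6144 k h hk

theorem tree_ok_upto10240 : ∀ k < 10240, (Nat.beq k 0 || treeOK table par [0, 1, 2, 3, 4, 5, 6, 7, 8, 9] k) = true := fun k hk =>
  (Nat.lt_or_ge k 8192).elim (tree_ok_upto8192 k) fun h =>
    allFrom_spec _ _ _ treeOK_8192 k h hk

theorem tree_ok_upto12288 : ∀ k < 12288, (Nat.beq k 0 || treeOK table par [0, 1, 2, 3, 4, 5, 6, 7, 8, 9] k) = true := fun k hk =>
  (Nat.lt_or_ge k 10240).elim (tree_ok_upto10240 k) fun h =>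
    allFrom_spec _ _ _ treeOK_10240 k h hk

theorem tree_ok_upto14336 : ∀ k < 14336, (Nat.beq k 0 || treeOK table par [0, 1, 2, 3, 4, 5, 6, 7, 8, 9] k) = true := fun k hk =>
  (Nat.lt_or_ge k 12288).elim (tree_ok_upto12288 k) fun h =>
    allFrom_spec _ _ _ treeOK_12288 k h hk

theorem tree_ok_upto16384 : ∀ k < 16384, (Nat.beq k 0 || treeOK table par [0, 1, 2, 3, 4, 5, 6, 7, 8, 9] k) = true := fun k hk =>
  (Nat.lt_or_ge k 14336).elim (tree_ok_upto14336 k) fun h =>
    allFrom_spec _ _ _ treeOK_14336 k h hk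

theorem tree_ok_upto18432 : ∀ k < 18432, (Nat.beq k 0 || treeOK table par [0, 1, 2, 3, 4, 5, 6, 7, 8, 9] k) = true := fun k hk =>
  (Nat.lt_or_ge k 16384).elim (tree_ok_upto16384 k) fun h =>
    allFrom_spec _ _ _ treeOK_16384 k h hk

theorem tree_ok_upto20480 : ∀ k < 20480, (Nat.beq k 0 || treeOK table par [0, 1, 2, 3, 4, 5, 6, 7, 8, 9] k) = true := fun k hk =>
  (Nat.lt_or_ge k 18432).elim (tree_ok_upto18432 k) fun h =>
    allFrom_spec _ _ _ treeOK_18432 k h hk

theorem tree_ok_upto22528 : ∀ k < 22528, (Nat.beq k 0 || treeOK table par [0, 1, 2, 3, 4, 5, 6, 7, 8, 9] k) = true := fun k hk =>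
  (Nat.lt_or_ge k 20480).elim (tree_ok_upto20480 k) fun h =>
    allFrom_spec _ _ _ treeOK_20480 k h hk

theorem tree_ok_upto24576 : ∀ k < 24576, (Nat.beq k 0 || treeOK table par [0, 1, 2, 3, 4, 5, 6, 7, 8, 9] k) = true := fun k hk =>
  (Nat.lt_or_ge k 22528).elim (tree_ok_upto22528 k) fun h =>
    allFrom_spec _ _ _ treeOK_22528 k h hk

theorem tree_ok_upto26624 : ∀ k < 26624, (Nat.beq k 0 || treeOK table par [0, 1, 2, 3, 4, 5, 6, 7, 8, 9] k) = true := fun k hk =>
  (Nat.lt_or_ge k 24576).elim (tree_ok_upto24576 k) fun h =>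
    allFrom_spec _ _ _ treeOK_24576 k h hk

theorem tree_ok_upto28672 : ∀ k < 28672, (Nat.beq k 0 || treeOK table par [0, 1, 2, 3, 4, 5, 6, 7, 8, 9] k) = true := fun k hk =>
  (Nat.lt_or_ge k 26624).elim (tree_ok_upto26624 k) fun h =>
    allFrom_spec _ _ _ treeOK_26624 k h hk

theorem tree_ok_upto30720 : ∀ k < 30720, (Nat.beq k 0 || treeOK table par [0, 1, 2, 3, 4, 5, 6, 7, 8, 9] k) = true := fun k hk =>
  (Nat.lt_or_ge k 28672).elim (tree_ok_upto28672 k) fun h =>
    allFrom_spec _ _ _ treeOK_28672 k h hk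

theorem tree_ok_upto31671 : ∀ k < 31671, (Nat.beq k 0 || treeOK table par [0, 1, 2, 3, 4, 5, 6, 7, 8, 9] k) = true := fun k hk =>
  (Nat.lt_or_ge k 30720).elim (tree_ok_upto30720 k) fun h =>
    allFrom_spec _ _ _ treeOK_30720 k h hk

theorem tree_ok : ∀ k < 31671, (Nat.beq k 0 || treeOK table par [0, 1, 2, 3, 4, 5, 6, 7, 8, 9] k) = true := tree_ok_upto31671

theorem transitive (hn : 0 < 31671) : ∀ k : Fin 31671, ∃ z : Cfsg.Spor.Fi23, π z ⟨0, hn⟩ = k :=
  transitive_of_tree table 18364758544493064720 31671 ip_ok row_ok π g hπ hn par [0, 1, 2, 3, 4, 5, 6, 7, 8, 9] (getD_lt (ip := 18364758544493064720) (ip' := 18364758544493064720) (by decide +kernel)) tree_ok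

theorem sub_comp_upto1024 : ∀ k < 1024, compOK table subTable subWords k = true := fun k hk =>
  have h : 0 ≤ k := Nat.zero_le k
  allFrom_spec _ _ _ subComp_0 k h hk

theorem sub_comp_upto2048 : ∀ k < 2048, compOK table subTable subWords k = true := fun k hk =>
  (Nat.lt_or_ge k 1024).elim (sub_comp_upto1024 k) fun h =>
    allFrom_spec _ _ _ subComp_1024 k h hk

theorem sub_comp_upto3072 : ∀ k < 3072, compOK table subTable subWords k = true := fun k hk =>
  (Nat.lt_or_ge k 2048).elim (sub_comp_upto2048 k) fun h =>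
    allFrom_spec _ _ _ subComp_2048 k h hk

theorem sub_comp_upto4096 : ∀ k < 4096, compOK table subTable subWords k = true := fun k hk =>
  (Nat.lt_or_ge k 3072).elim (sub_comp_upto3072 k) fun h =>
    allFrom_spec _ _ _ subComp_3072 k h hk

theorem sub_comp_upto5120 : ∀ k < 5120, compOK table subTable subWords k = true := fun k hk =>
  (Nat.lt_or_ge k 4096).elim (sub_comp_upto4096 k) fun h =>
    allFrom_spec _ _ _ subComp_4096 k h hk

theorem sub_comp_upto6144 : ∀ k < 6144, compOK table subTable subWords k = true := fun k hk =>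
  (Nat.lt_or_ge k 5120).elim (sub_comp_upto5120 k) fun h =>
    allFrom_spec _ _ _ subComp_5120 k h hk

theorem sub_comp_upto7168 : ∀ k < 7168, compOK table subTable subWords k = true := fun k hk =>
  (Nat.lt_or_ge k 6144).elim (sub_comp_upto6144 k) fun h =>
    allFrom_spec _ _ _ subComp_6144 k h hk

theorem sub_comp_upto8192 : ∀ k < 8192, compOK table subTable subWords k = true := fun k hk =>
  (Nat.lt_or_ge k 7168).elim (sub_comp_upto7168 k) fun h =>
    allFrom_spec _ _ _ subComp_7168 k h hk

theorem sub_comp_upto9216 : ∀ k < 9216, compOK table subTable subWords k = true := fun k hk =>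
  (Nat.lt_or_ge k 8192).elim (sub_comp_upto8192 k) fun h =>
    allFrom_spec _ _ _ subComp_8192 k h hk

theorem sub_comp_upto10240 : ∀ k < 10240, compOK table subTable subWords k = true := fun k hk =>
  (Nat.lt_or_ge k 9216).elim (sub_comp_upto9216 k) fun h =>
    allFrom_spec _ _ _ subComp_9216 k h hk

theorem sub_comp_upto11264 : ∀ k < 11264, compOK table subTable subWords k = true := fun k hk =>
  (Nat.lt_or_ge k 10240).elim (sub_comp_upto10240 k) fun h =>
    allFrom_spec _ _ _ subComp_10240 k h hk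

theorem sub_comp_upto12288 : ∀ k < 12288, compOK table subTable subWords k = true := fun k hk =>
  (Nat.lt_or_ge k 11264).elim (sub_comp_upto11264 k) fun h =>
    allFrom_spec _ _ _ subComp_11264 k h hk

theorem sub_comp_upto13312 : ∀ k < 13312, compOK table subTable subWords k = true := fun k hk =>
  (Nat.lt_or_ge k 12288).elim (sub_comp_upto12288 k) fun h =>
    allFrom_spec _ _ _ subComp_12288 k h hk

theorem sub_comp_upto14336 : ∀ k < 14336, compOK table subTable subWords k = true := fun k hk =>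
  (Nat.lt_or_ge k 13312).elim (sub_comp_upto13312 k) fun h =>
    allFrom_spec _ _ _ subComp_13312 k h hk

theorem sub_comp_upto15360 : ∀ k < 15360, compOK table subTable subWords k = true := fun k hk =>
  (Nat.lt_or_ge k 14336).elim (sub_comp_upto14336 k) fun h =>
    allFrom_spec _ _ _ subComp_14336 k h hk

theorem sub_comp_upto16384 : ∀ k < 16384, compOK table subTable subWords k = true := fun k hk =>
  (Nat.lt_or_ge k 15360).elim (sub_comp_upto15360 k) fun h =>
    allFrom_spec _ _ _ subComp_15360 k h hk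

theorem sub_comp_upto17408 : ∀ k < 17408, compOK table subTable subWords k = true := fun k hk =>
  (Nat.lt_or_ge k 16384).elim (sub_comp_upto16384 k) fun h =>
    allFrom_spec _ _ _ subComp_16384 k h hk

theorem sub_comp_upto18432 : ∀ k < 18432, compOK table subTable subWords k = true := fun k hk =>
  (Nat.lt_or_ge k 17408).elim (sub_comp_upto17408 k) fun h =>
    allFrom_spec _ _ _ subComp_17408 k h hk

theorem sub_comp_upto19456 : ∀ k < 19456, compOK table subTable subWords k = true := fun k hk =>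
  (Nat.lt_or_ge k 18432).elim (sub_comp_upto18432 k) fun h =>
    allFrom_spec _ _ _ subComp_18432 k h hk

theorem sub_comp_upto20480 : ∀ k < 20480, compOK table subTable subWords k = true := fun k hk =>
  (Nat.lt_or_ge k 19456).elim (sub_comp_upto19456 k) fun h =>
    allFrom_spec _ _ _ subComp_19456 k h hk

theorem sub_comp_upto21504 : ∀ k < 21504, compOK table subTable subWords k = true := fun k hk =>
  (Nat.lt_or_ge k 20480).elim (sub_comp_upto20480 k) fun h =>
    allFrom_spec _ _ _ subComp_20480 k h hk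

theorem sub_comp_upto22528 : ∀ k < 22528, compOK table subTable subWords k = true := fun k hk =>
  (Nat.lt_or_ge k 21504).elim (sub_comp_upto21504 k) fun h =>
    allFrom_spec _ _ _ subComp_21504 k h hk

theorem sub_comp_upto23552 : ∀ k < 23552, compOK table subTable subWords k = true := fun k hk =>
  (Nat.lt_or_ge k 22528).elim (sub_comp_upto22528 k) fun h =>
    allFrom_spec _ _ _ subComp_22528 k h hk

theorem sub_comp_upto24576 : ∀ k < 24576, compOK table subTable subWords k = true := fun k hk =>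
  (Nat.lt_or_ge k 23552).elim (sub_comp_upto23552 k) fun h =>
    allFrom_spec _ _ _ subComp_23552 k h hk

theorem sub_comp_upto25600 : ∀ k < 25600, compOK table subTable subWords k = true := fun k hk =>
  (Nat.lt_or_ge k 24576).elim (sub_comp_upto24576 k) fun h =>
    allFrom_spec _ _ _ subComp_24576 k h hk

theorem sub_comp_upto26624 : ∀ k < 26624, compOK table subTable subWords k = true := fun k hk =>
  (Nat.lt_or_ge k 25600).elim (sub_comp_upto25600 k) fun h =>
    allFrom_spec _ _ _ subComp_25600 k h hk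

theorem sub_comp_upto27648 : ∀ k < 27648, compOK table subTable subWords k = true := fun k hk =>
  (Nat.lt_or_ge k 26624).elim (sub_comp_upto26624 k) fun h =>
    allFrom_spec _ _ _ subComp_26624 k h hk

theorem sub_comp_upto28672 : ∀ k < 28672, compOK table subTable subWords k = true := fun k hk =>
  (Nat.lt_or_ge k 27648).elim (sub_comp_upto27648 k) fun h =>
    allFrom_spec _ _ _ subComp_27648 k h hk

theorem sub_comp_upto29696 : ∀ k < 29696, compOK table subTable subWords k = true := fun k hk =>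
  (Nat.lt_or_ge k 28672).elim (sub_comp_upto28672 k) fun h =>
    allFrom_spec _ _ _ subComp_28672 k h hk

theorem sub_comp_upto30720 : ∀ k < 30720, compOK table subTable subWords k = true := fun k hk =>
  (Nat.lt_or_ge k 29696).elim (sub_comp_upto29696 k) fun h =>
    allFrom_spec _ _ _ subComp_29696 k h hk

theorem sub_comp_upto31671 : ∀ k < 31671, compOK table subTable subWords k = true := fun k hk =>
  (Nat.lt_or_ge k 30720).elim (sub_comp_upto30720 k) fun h =>
    allFrom_spec _ _ _ subComp_30720 k h hk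

theorem sub_comp : ∀ k < 31671, compOK table subTable subWords k = true := sub_comp_upto31671

/-- The point stabiliser. -/
def H : Subgroup Cfsg.Spor.Fi23 := WordSub g subWords

theorem sub_spec : Realised π H subTable ∧ Generated π H subTable :=
  wordSub_spec π g hinv ip_ok row_ok hπ subWords (by decide +kernel) subTable rfl sub_comp

theorem sub_fix (hn : 0 < 31671) : ∀ w ∈ H, π w ⟨0, hn⟩ = ⟨0, hn⟩ :=
  fix_of_words table 18364758544493064720 31671 ip_ok row_ok π g hπ H hn subWords hinv (by decide +kernel) le_rfl (by decide +kernel)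

end CfsgLib.CosetEnum.Fi23
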