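import Cfsg.Agent.Lib.CosetEnum.Fi23.DataD

set_option autoImplicit false

set_option linter.all false

namespace CfsgLib.CosetEnum.Fi23

open CfsgLib.CosetEnum

theorem relOK_22016 : allFrom (fun k => fixesAll table k ls) 512 22016 = true := by decide +kernel

theorem relOK_22528 : allFrom (fun k => fixesAll table k ls) 512 22528 = true := by decide +kernel

theorem relOK_23040 : allFrom (fun k => fixesAll table k ls) 512 23040 = true := by decide +kernel

theorem relOK_23552 : allFrom (fun k => fixesAll table k ls) 512 23552 = true := by decide +kernel

theorem relOK_24064 : allFrom (fun k => fixesAll table k ls) 512 24064 = true := by decide +kernel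

theorem relOK_24576 : allFrom (fun k => fixesAll table k ls) 512 24576 = true := by decide +kernel

end CfsgLib.CosetEnum.Fi23
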