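import Cfsg.Agent.Lib.CosetEnum.Fi23.U1Q0
import Cfsg.Agent.Lib.CosetEnum.Fi23.U1Q1

set_option autoImplicit false

set_option linter.all false

namespace CfsgLib.CosetEnum.Fi23

namespace U1

open CfsgLib.CosetEnum

theorem facts_ok_upto512 : ∀ j < 512, ∃ item, checkFact facts 18364758544493064720 words 384 subs 8650 j item = true := fun j hj =>
  have h : 0 ≤ j := Nat.zero_le j
  checkFacts_spec _ _ _ _ _ _ items0 0 facts_ok0 j h (lt_of_lt_of_eq hj (by decide +kernel))

theorem facts_ok_upto1024 : ∀ j < 1024, ∃ item, checkFact facts 18364758544493064720 words 384 subs 8650 j item = true := fun j hj =>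
  (Nat.lt_or_ge j 512).elim (facts_ok_upto512 j) fun h =>
    checkFacts_spec _ _ _ _ _ _ items512 512 facts_ok512 j h (lt_of_lt_of_eq hj (by decide +kernel))

theorem facts_ok_upto1536 : ∀ j < 1536, ∃ item, checkFact facts 18364758544493064720 words 384 subs 8650 j item = true := fun j hj =>
  (Nat.lt_or_ge j 1024).elim (facts_ok_upto1024 j) fun h =>
    checkFacts_spec _ _ _ _ _ _ items1024 1024 facts_ok1024 j h (lt_of_lt_of_eq hj (by decide +kernel))

theorem facts_ok_upto2048 : ∀ j < 2048, ∃ item, checkFact facts 18364758544493064720 words 384 subs 8650 j item = true := fun j hj =>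
  (Nat.lt_or_ge j 1536).elim (facts_ok_upto1536 j) fun h =>
    checkFacts_spec _ _ _ _ _ _ items1536 1536 facts_ok1536 j h (lt_of_lt_of_eq hj (by decide +kernel))

theorem facts_ok_upto2560 : ∀ j < 2560, ∃ item, checkFact facts 18364758544493064720 words 384 subs 8650 j item = true := fun j hj =>
  (Nat.lt_or_ge j 2048).elim (facts_ok_upto2048 j) fun h =>
    checkFacts_spec _ _ _ _ _ _ items2048 2048 facts_ok2048 j h (lt_of_lt_of_eq hj (by decide +kernel))

theorem facts_ok_upto3072 : ∀ j < 3072, ∃ item, checkFact facts 18364758544493064720 words 384 subs 8650 j item = true := fun j hj =>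
  (Nat.lt_or_ge j 2560).elim (facts_ok_upto2560 j) fun h =>
    checkFacts_spec _ _ _ _ _ _ items2560 2560 facts_ok2560 j h (lt_of_lt_of_eq hj (by decide +kernel))

theorem facts_ok_upto3584 : ∀ j < 3584, ∃ item, checkFact facts 18364758544493064720 words 384 subs 8650 j item = true := fun j hj =>
  (Nat.lt_or_ge j 3072).elim (facts_ok_upto3072 j) fun h =>
    checkFacts_spec _ _ _ _ _ _ items3072 3072 facts_ok3072 j h (lt_of_lt_of_eq hj (by decide +kernel))

theorem facts_ok_upto4096 : ∀ j < 4096, ∃ item, checkFact facts 18364758544493064720 words 384 subs 8650 j item = true := fun j hj =>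
  (Nat.lt_or_ge j 3584).elim (facts_ok_upto3584 j) fun h =>
    checkFacts_spec _ _ _ _ _ _ items3584 3584 facts_ok3584 j h (lt_of_lt_of_eq hj (by decide +kernel))

theorem facts_ok_upto4608 : ∀ j < 4608, ∃ item, checkFact facts 18364758544493064720 words 384 subs 8650 j item = true := fun j hj =>
  (Nat.lt_or_ge j 4096).elim (facts_ok_upto4096 j) fun h =>
    checkFacts_spec _ _ _ _ _ _ items4096 4096 facts_ok4096 j h (lt_of_lt_of_eq hj (by decide +kernel))

theorem facts_ok_upto5120 : ∀ j < 5120, ∃ item, checkFact facts 18364758544493064720 words 384 subs 8650 j item = true := fun j hj =>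
  (Nat.lt_or_ge j 4608).elim (facts_ok_upto4608 j) fun h =>
    checkFacts_spec _ _ _ _ _ _ items4608 4608 facts_ok4608 j h (lt_of_lt_of_eq hj (by decide +kernel))

theorem facts_ok_upto5632 : ∀ j < 5632, ∃ item, checkFact facts 18364758544493064720 words 384 subs 8650 j item = true := fun j hj =>
  (Nat.lt_or_ge j 5120).elim (facts_ok_upto5120 j) fun h =>
    checkFacts_spec _ _ _ _ _ _ items5120 5120 facts_ok5120 j h (lt_of_lt_of_eq hj (by decide +kernel))

theorem facts_ok_upto6144 : ∀ j < 6144, ∃ item, checkFact facts 18364758544493064720 words 384 subs 8650 j item = true := fun j hj =>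
  (Nat.lt_or_ge j 5632).elim (facts_ok_upto5632 j) fun h =>
    checkFacts_spec _ _ _ _ _ _ items5632 5632 facts_ok5632 j h (lt_of_lt_of_eq hj (by decide +kernel))

theorem facts_ok_upto6656 : ∀ j < 6656, ∃ item, checkFact facts 18364758544493064720 words 384 subs 8650 j item = true := fun j hj =>
  (Nat.lt_or_ge j 6144).elim (facts_ok_upto6144 j) fun h =>
    checkFacts_spec _ _ _ _ _ _ items6144 6144 facts_ok6144 j h (lt_of_lt_of_eq hj (by decide +kernel))

theorem facts_ok_upto7168 : ∀ j < 7168, ∃ item, checkFact facts 18364758544493064720 words 384 subs 8650 j item = true := fun j hj =>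
  (Nat.lt_or_ge j 6656).elim (facts_ok_upto6656 j) fun h =>
    checkFacts_spec _ _ _ _ _ _ items6656 6656 facts_ok6656 j h (lt_of_lt_of_eq hj (by decide +kernel))

theorem facts_ok_upto7680 : ∀ j < 7680, ∃ item, checkFact facts 18364758544493064720 words 384 subs 8650 j item = true := fun j hj =>
  (Nat.lt_or_ge j 7168).elim (facts_ok_upto7168 j) fun h =>
    checkFacts_spec _ _ _ _ _ _ items7168 7168 facts_ok7168 j h (lt_of_lt_of_eq hj (by decide +kernel))

theorem facts_ok_upto8192 : ∀ j < 8192, ∃ item, checkFact facts 18364758544493064720 words 384 subs 8650 j item = true := fun j hj =>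
  (Nat.lt_or_ge j 7680).elim (facts_ok_upto7680 j) fun h =>
    checkFacts_spec _ _ _ _ _ _ items7680 7680 facts_ok7680 j h (lt_of_lt_of_eq hj (by decide +kernel))

theorem facts_ok_upto8704 : ∀ j < 8704, ∃ item, checkFact facts 18364758544493064720 words 384 subs 8650 j item = true := fun j hj =>
  (Nat.lt_or_ge j 8192).elim (facts_ok_upto8192 j) fun h =>
    checkFacts_spec _ _ _ _ _ _ items8192 8192 facts_ok8192 j h (lt_of_lt_of_eq hj (by decide +kernel))

theorem facts_ok_upto9216 : ∀ j < 9216, ∃ item, checkFact facts 18364758544493064720 words 384 subs 8650 j item = true := fun j hj =>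
  (Nat.lt_or_ge j 8704).elim (facts_ok_upto8704 j) fun h =>
    checkFacts_spec _ _ _ _ _ _ items8704 8704 facts_ok8704 j h (lt_of_lt_of_eq hj (by decide +kernel))

theorem facts_ok_upto9728 : ∀ j < 9728, ∃ item, checkFact facts 18364758544493064720 words 384 subs 8650 j item = true := fun j hj =>
  (Nat.lt_or_ge j 9216).elim (facts_ok_upto9216 j) fun h =>
    checkFacts_spec _ _ _ _ _ _ items9216 9216 facts_ok9216 j h (lt_of_lt_of_eq hj (by decide +kernel))

theorem facts_ok_upto10240 : ∀ j < 10240, ∃ item, checkFact facts 18364758544493064720 words 384 subs 8650 j item = true := fun j hj =>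
  (Nat.lt_or_ge j 9728).elim (facts_ok_upto9728 j) fun h =>
    checkFacts_spec _ _ _ _ _ _ items9728 9728 facts_ok9728 j h (lt_of_lt_of_eq hj (by decide +kernel))

theorem facts_ok_upto10752 : ∀ j < 10752, ∃ item, checkFact facts 18364758544493064720 words 384 subs 8650 j item = true := fun j hj =>
  (Nat.lt_or_ge j 10240).elim (facts_ok_upto10240 j) fun h =>
    checkFacts_spec _ _ _ _ _ _ items10240 10240 facts_ok10240 j h (lt_of_lt_of_eq hj (by decide +kernel))

theorem facts_ok_upto11264 : ∀ j < 11264, ∃ item, checkFact facts 18364758544493064720 words 384 subs 8650 j item = true := fun j hj =>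
  (Nat.lt_or_ge j 10752).elim (facts_ok_upto10752 j) fun h =>
    checkFacts_spec _ _ _ _ _ _ items10752 10752 facts_ok10752 j h (lt_of_lt_of_eq hj (by decide +kernel))

theorem facts_ok_upto11776 : ∀ j < 11776, ∃ item, checkFact facts 18364758544493064720 words 384 subs 8650 j item = true := fun j hj =>
  (Nat.lt_or_ge j 11264).elim (facts_ok_upto11264 j) fun h =>
    checkFacts_spec _ _ _ _ _ _ items11264 11264 facts_ok11264 j h (lt_of_lt_of_eq hj (by decide +kernel))

theorem facts_ok_upto12288 : ∀ j < 12288, ∃ item, checkFact facts 18364758544493064720 words 384 subs 8650 j item = true := fun j hj =>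
  (Nat.lt_or_ge j 11776).elim (facts_ok_upto11776 j) fun h =>
    checkFacts_spec _ _ _ _ _ _ items11776 11776 facts_ok11776 j h (lt_of_lt_of_eq hj (by decide +kernel))

theorem facts_ok_upto12800 : ∀ j < 12800, ∃ item, checkFact facts 18364758544493064720 words 384 subs 8650 j item = true := fun j hj =>
  (Nat.lt_or_ge j 12288).elim (facts_ok_upto12288 j) fun h =>
    checkFacts_spec _ _ _ _ _ _ items12288 12288 facts_ok12288 j h (lt_of_lt_of_eq hj (by decide +kernel))

theorem facts_ok_upto13312 : ∀ j < 13312, ∃ item, checkFact facts 18364758544493064720 words 384 subs 8650 j item = true := fun j hj =>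
  (Nat.lt_or_ge j 12800).elim (facts_ok_upto12800 j) fun h =>
    checkFacts_spec _ _ _ _ _ _ items12800 12800 facts_ok12800 j h (lt_of_lt_of_eq hj (by decide +kernel))

theorem facts_ok_upto13824 : ∀ j < 13824, ∃ item, checkFact facts 18364758544493064720 words 384 subs 8650 j item = true := fun j hj =>
  (Nat.lt_or_ge j 13312).elim (facts_ok_upto13312 j) fun h =>
    checkFacts_spec _ _ _ _ _ _ items13312 13312 facts_ok13312 j h (lt_of_lt_of_eq hj (by decide +kernel))

theorem facts_ok_upto14336 : ∀ j < 14336, ∃ item, checkFact facts 18364758544493064720 words 384 subs 8650 j item = true := fun j hj =>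
  (Nat.lt_or_ge j 13824).elim (facts_ok_upto13824 j) fun h =>
    checkFacts_spec _ _ _ _ _ _ items13824 13824 facts_ok13824 j h (lt_of_lt_of_eq hj (by decide +kernel))

theorem facts_ok_upto14848 : ∀ j < 14848, ∃ item, checkFact facts 18364758544493064720 words 384 subs 8650 j item = true := fun j hj =>
  (Nat.lt_or_ge j 14336).elim (facts_ok_upto14336 j) fun h =>
    checkFacts_spec _ _ _ _ _ _ items14336 14336 facts_ok14336 j h (lt_of_lt_of_eq hj (by decide +kernel))

theorem facts_ok_upto15360 : ∀ j < 15360, ∃ item, checkFact facts 18364758544493064720 words 384 subs 8650 j item = true := fun j hj =>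
  (Nat.lt_or_ge j 14848).elim (facts_ok_upto14848 j) fun h =>
    checkFacts_spec _ _ _ _ _ _ items14848 14848 facts_ok14848 j h (lt_of_lt_of_eq hj (by decide +kernel))

theorem facts_ok_upto15872 : ∀ j < 15872, ∃ item, checkFact facts 18364758544493064720 words 384 subs 8650 j item = true := fun j hj =>
  (Nat.lt_or_ge j 15360).elim (facts_ok_upto15360 j) fun h =>
    checkFacts_spec _ _ _ _ _ _ items15360 15360 facts_ok15360 j h (lt_of_lt_of_eq hj (by decide +kernel))

theorem facts_ok_upto16384 : ∀ j < 16384, ∃ item, checkFact facts 18364758544493064720 words 384 subs 8650 j item = true := fun j hj =>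
  (Nat.lt_or_ge j 15872).elim (facts_ok_upto15872 j) fun h =>
    checkFacts_spec _ _ _ _ _ _ items15872 15872 facts_ok15872 j h (lt_of_lt_of_eq hj (by decide +kernel))

theorem facts_ok_upto16896 : ∀ j < 16896, ∃ item, checkFact facts 18364758544493064720 words 384 subs 8650 j item = true := fun j hj =>
  (Nat.lt_or_ge j 16384).elim (facts_ok_upto16384 j) fun h =>
    checkFacts_spec _ _ _ _ _ _ items16384 16384 facts_ok16384 j h (lt_of_lt_of_eq hj (by decide +kernel))

theorem facts_ok_upto17408 : ∀ j < 17408, ∃ item, checkFact facts 18364758544493064720 words 384 subs 8650 j item = true := fun j hj =>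
  (Nat.lt_or_ge j 16896).elim (facts_ok_upto16896 j) fun h =>
    checkFacts_spec _ _ _ _ _ _ items16896 16896 facts_ok16896 j h (lt_of_lt_of_eq hj (by decide +kernel))

theorem facts_ok_upto17920 : ∀ j < 17920, ∃ item, checkFact facts 18364758544493064720 words 384 subs 8650 j item = true := fun j hj =>
  (Nat.lt_or_ge j 17408).elim (facts_ok_upto17408 j) fun h =>
    checkFacts_spec _ _ _ _ _ _ items17408 17408 facts_ok17408 j h (lt_of_lt_of_eq hj (by decide +kernel))

theorem facts_ok_upto18432 : ∀ j < 18432, ∃ item, checkFact facts 18364758544493064720 words 384 subs 8650 j item = true := fun j hj =>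
  (Nat.lt_or_ge j 17920).elim (facts_ok_upto17920 j) fun h =>
    checkFacts_spec _ _ _ _ _ _ items17920 17920 facts_ok17920 j h (lt_of_lt_of_eq hj (by decide +kernel))

theorem facts_ok_upto18944 : ∀ j < 18944, ∃ item, checkFact facts 18364758544493064720 words 384 subs 8650 j item = true := fun j hj =>
  (Nat.lt_or_ge j 18432).elim (facts_ok_upto18432 j) fun h =>
    checkFacts_spec _ _ _ _ _ _ items18432 18432 facts_ok18432 j h (lt_of_lt_of_eq hj (by decide +kernel))

theorem facts_ok_upto19456 : ∀ j < 19456, ∃ item, checkFact facts 18364758544493064720 words 384 subs 8650 j item = true := fun j hj =>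
  (Nat.lt_or_ge j 18944).elim (facts_ok_upto18944 j) fun h =>
    checkFacts_spec _ _ _ _ _ _ items18944 18944 facts_ok18944 j h (lt_of_lt_of_eq hj (by decide +kernel))

theorem facts_ok_upto19968 : ∀ j < 19968, ∃ item, checkFact facts 18364758544493064720 words 384 subs 8650 j item = true := fun j hj =>
  (Nat.lt_or_ge j 19456).elim (facts_ok_upto19456 j) fun h =>
    checkFacts_spec _ _ _ _ _ _ items19456 19456 facts_ok19456 j h (lt_of_lt_of_eq hj (by decide +kernel))

theorem facts_ok_upto20480 : ∀ j < 20480, ∃ item, checkFact facts 18364758544493064720 words 384 subs 8650 j item = true := fun j hj =>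
  (Nat.lt_or_ge j 19968).elim (facts_ok_upto19968 j) fun h =>
    checkFacts_spec _ _ _ _ _ _ items19968 19968 facts_ok19968 j h (lt_of_lt_of_eq hj (by decide +kernel))

theorem facts_ok_upto20992 : ∀ j < 20992, ∃ item, checkFact facts 18364758544493064720 words 384 subs 8650 j item = true := fun j hj =>
  (Nat.lt_or_ge j 20480).elim (facts_ok_upto20480 j) fun h =>
    checkFacts_spec _ _ _ _ _ _ items20480 20480 facts_ok20480 j h (lt_of_lt_of_eq hj (by decide +kernel))

theorem facts_ok_upto21504 : ∀ j < 21504, ∃ item, checkFact facts 18364758544493064720 words 384 subs 8650 j item = true := fun j hj =>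
  (Nat.lt_or_ge j 20992).elim (facts_ok_upto20992 j) fun h =>
    checkFacts_spec _ _ _ _ _ _ items20992 20992 facts_ok20992 j h (lt_of_lt_of_eq hj (by decide +kernel))

theorem facts_ok_upto22016 : ∀ j < 22016, ∃ item, checkFact facts 18364758544493064720 words 384 subs 8650 j item = true := fun j hj =>
  (Nat.lt_or_ge j 21504).elim (facts_ok_upto21504 j) fun h =>
    checkFacts_spec _ _ _ _ _ _ items21504 21504 facts_ok21504 j h (lt_of_lt_of_eq hj (by decide +kernel))

theorem facts_ok_upto22528 : ∀ j < 22528, ∃ item, checkFact facts 18364758544493064720 words 384 subs 8650 j item = true := fun j hj =>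
  (Nat.lt_or_ge j 22016).elim (facts_ok_upto22016 j) fun h =>
    checkFacts_spec _ _ _ _ _ _ items22016 22016 facts_ok22016 j h (lt_of_lt_of_eq hj (by decide +kernel))

theorem facts_ok_upto23040 : ∀ j < 23040, ∃ item, checkFact facts 18364758544493064720 words 384 subs 8650 j item = true := fun j hj =>
  (Nat.lt_or_ge j 22528).elim (facts_ok_upto22528 j) fun h =>
    checkFacts_spec _ _ _ _ _ _ items22528 22528 facts_ok22528 j h (lt_of_lt_of_eq hj (by decide +kernel))

theorem facts_ok_upto23552 : ∀ j < 23552, ∃ item, checkFact facts 18364758544493064720 words 384 subs 8650 j item = true := fun j hj =>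
  (Nat.lt_or_ge j 23040).elim (facts_ok_upto23040 j) fun h =>
    checkFacts_spec _ _ _ _ _ _ items23040 23040 facts_ok23040 j h (lt_of_lt_of_eq hj (by decide +kernel))

theorem facts_ok_upto24064 : ∀ j < 24064, ∃ item, checkFact facts 18364758544493064720 words 384 subs 8650 j item = true := fun j hj =>
  (Nat.lt_or_ge j 23552).elim (facts_ok_upto23552 j) fun h =>
    checkFacts_spec _ _ _ _ _ _ items23552 23552 facts_ok23552 j h (lt_of_lt_of_eq hj (by decide +kernel))

theorem facts_ok_upto24576 : ∀ j < 24576, ∃ item, checkFact facts 18364758544493064720 words 384 subs 8650 j item = true := fun j hj =>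
  (Nat.lt_or_ge j 24064).elim (facts_ok_upto24064 j) fun h =>
    checkFacts_spec _ _ _ _ _ _ items24064 24064 facts_ok24064 j h (lt_of_lt_of_eq hj (by decide +kernel))

theorem facts_ok_upto25088 : ∀ j < 25088, ∃ item, checkFact facts 18364758544493064720 words 384 subs 8650 j item = true := fun j hj =>
  (Nat.lt_or_ge j 24576).elim (facts_ok_upto24576 j) fun h =>
    checkFacts_spec _ _ _ _ _ _ items24576 24576 facts_ok24576 j h (lt_of_lt_of_eq hj (by decide +kernel))

theorem facts_ok_upto25600 : ∀ j < 25600, ∃ item, checkFact facts 18364758544493064720 words 384 subs 8650 j item = true := fun j hj =>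
  (Nat.lt_or_ge j 25088).elim (facts_ok_upto25088 j) fun h =>
    checkFacts_spec _ _ _ _ _ _ items25088 25088 facts_ok25088 j h (lt_of_lt_of_eq hj (by decide +kernel))

theorem facts_ok_upto26112 : ∀ j < 26112, ∃ item, checkFact facts 18364758544493064720 words 384 subs 8650 j item = true := fun j hj =>
  (Nat.lt_or_ge j 25600).elim (facts_ok_upto25600 j) fun h =>
    checkFacts_spec _ _ _ _ _ _ items25600 25600 facts_ok25600 j h (lt_of_lt_of_eq hj (by decide +kernel))

theorem facts_ok_upto26624 : ∀ j < 26624, ∃ item, checkFact facts 18364758544493064720 words 384 subs 8650 j item = true := fun j hj =>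
  (Nat.lt_or_ge j 26112).elim (facts_ok_upto26112 j) fun h =>
    checkFacts_spec _ _ _ _ _ _ items26112 26112 facts_ok26112 j h (lt_of_lt_of_eq hj (by decide +kernel))

theorem facts_ok_upto27136 : ∀ j < 27136, ∃ item, checkFact facts 18364758544493064720 words 384 subs 8650 j item = true := fun j hj =>
  (Nat.lt_or_ge j 26624).elim (facts_ok_upto26624 j) fun h =>
    checkFacts_spec _ _ _ _ _ _ items26624 26624 facts_ok26624 j h (lt_of_lt_of_eq hj (by decide +kernel))

theorem facts_ok_upto27648 : ∀ j < 27648, ∃ item, checkFact facts 18364758544493064720 words 384 subs 8650 j item = true := fun j hj =>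
  (Nat.lt_or_ge j 27136).elim (facts_ok_upto27136 j) fun h =>
    checkFacts_spec _ _ _ _ _ _ items27136 27136 facts_ok27136 j h (lt_of_lt_of_eq hj (by decide +kernel))

theorem facts_ok_upto28160 : ∀ j < 28160, ∃ item, checkFact facts 18364758544493064720 words 384 subs 8650 j item = true := fun j hj =>
  (Nat.lt_or_ge j 27648).elim (facts_ok_upto27648 j) fun h =>
    checkFacts_spec _ _ _ _ _ _ items27648 27648 facts_ok27648 j h (lt_of_lt_of_eq hj (by decide +kernel))

theorem facts_ok_upto28672 : ∀ j < 28672, ∃ item, checkFact facts 18364758544493064720 words 384 subs 8650 j item = true := fun j hj =>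
  (Nat.lt_or_ge j 28160).elim (facts_ok_upto28160 j) fun h =>
    checkFacts_spec _ _ _ _ _ _ items28160 28160 facts_ok28160 j h (lt_of_lt_of_eq hj (by decide +kernel))

theorem facts_ok_upto29184 : ∀ j < 29184, ∃ item, checkFact facts 18364758544493064720 words 384 subs 8650 j item = true := fun j hj =>
  (Nat.lt_or_ge j 28672).elim (facts_ok_upto28672 j) fun h =>
    checkFacts_spec _ _ _ _ _ _ items28672 28672 facts_ok28672 j h (lt_of_lt_of_eq hj (by decide +kernel))

theorem facts_ok_upto29696 : ∀ j < 29696, ∃ item, checkFact facts 18364758544493064720 words 384 subs 8650 j item = true := fun j hj =>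
  (Nat.lt_or_ge j 29184).elim (facts_ok_upto29184 j) fun h =>
    checkFacts_spec _ _ _ _ _ _ items29184 29184 facts_ok29184 j h (lt_of_lt_of_eq hj (by decide +kernel))

theorem facts_ok_upto30208 : ∀ j < 30208, ∃ item, checkFact facts 18364758544493064720 words 384 subs 8650 j item = true := fun j hj =>
  (Nat.lt_or_ge j 29696).elim (facts_ok_upto29696 j) fun h =>
    checkFacts_spec _ _ _ _ _ _ items29696 29696 facts_ok29696 j h (lt_of_lt_of_eq hj (by decide +kernel))

theorem facts_ok_upto30720 : ∀ j < 30720, ∃ item, checkFact facts 18364758544493064720 words 384 subs 8650 j item = true := fun j hj =>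
  (Nat.lt_or_ge j 30208).elim (facts_ok_upto30208 j) fun h =>
    checkFacts_spec _ _ _ _ _ _ items30208 30208 facts_ok30208 j h (lt_of_lt_of_eq hj (by decide +kernel))

theorem facts_ok_upto31232 : ∀ j < 31232, ∃ item, checkFact facts 18364758544493064720 words 384 subs 8650 j item = true := fun j hj =>
  (Nat.lt_or_ge j 30720).elim (facts_ok_upto30720 j) fun h =>
    checkFacts_spec _ _ _ _ _ _ items30720 30720 facts_ok30720 j h (lt_of_lt_of_eq hj (by decide +kernel))

theorem facts_ok_upto31744 : ∀ j < 31744, ∃ item, checkFact facts 18364758544493064720 words 384 subs 8650 j item = true := fun j hj =>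
  (Nat.lt_or_ge j 31232).elim (facts_ok_upto31232 j) fun h =>
    checkFacts_spec _ _ _ _ _ _ items31232 31232 facts_ok31232 j h (lt_of_lt_of_eq hj (by decide +kernel))

theorem facts_ok_upto31872 : ∀ j < 31872, ∃ item, checkFact facts 18364758544493064720 words 384 subs 8650 j item = true := fun j hj =>
  (Nat.lt_or_ge j 31744).elim (facts_ok_upto31744 j) fun h =>
    checkFacts_spec _ _ _ _ _ _ items31744 31744 facts_ok31744 j h (lt_of_lt_of_eq hj (by decide +kernel))

theorem facts_ok : ∀ j < 31872, ∃ item, checkFact facts 18364758544493064720 words 384 subs 8650 j item = true := facts_ok_upto31872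

theorem rows_ok_upto1024 : ∀ k < 1024, checkRow facts 18364758544493064720 lives entryFact 3159 8 31872 k table 0 = true := fun k hk =>
  have h : 0 ≤ k := Nat.zero_le k
  checkRows_spec _ _ _ _ _ _ _ _ _ _ rows_0 k h hk

theorem rows_ok_upto2048 : ∀ k < 2048, checkRow facts 18364758544493064720 lives entryFact 3159 8 31872 k table 0 = true := fun k hk =>
  (Nat.lt_or_ge k 1024).elim (rows_ok_upto1024 k) fun h =>
    checkRows_spec _ _ _ _ _ _ _ _ _ _ rows_1024 k h hk

theorem rows_ok_upto3072 : ∀ k < 3072, checkRow facts 18364758544493064720 lives entryFact 3159 8 31872 k table 0 = true := fun k hk =>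
  (Nat.lt_or_ge k 2048).elim (rows_ok_upto2048 k) fun h =>
    checkRows_spec _ _ _ _ _ _ _ _ _ _ rows_2048 k h hk

theorem rows_ok_upto3159 : ∀ k < 3159, checkRow facts 18364758544493064720 lives entryFact 3159 8 31872 k table 0 = true := fun k hk =>
  (Nat.lt_or_ge k 3072).elim (rows_ok_upto3072 k) fun h =>
    checkRows_spec _ _ _ _ _ _ _ _ _ _ rows_3072 k h hk

theorem rows_ok : ∀ k < 3159, checkRow facts 18364758544493064720 lives entryFact 3159 8 31872 k table 0 = true := rows_ok_upto3159

theorem words_fit : words.fits 384 21 = true := by decide +kernel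

theorem words_eq : listEq (words.entries 384 21) (allCodes 18364758544493064720 8 lsl) = true := by decide +kernel

theorem subs_fit : subs.fits 384 21 = true := by decide +kernel

theorem subs_eq : listEq (subs.entries 384 21) (subCodes 18364758544493064720 lsub) = true := by decide +kernel

theorem lives_zero : Nat.beq (lives.get 20 0) 0 = true := by decide +kernel

theorem covers : CoversCosets (Level g [1, 2, 3, 4, 5, 6, 8, 9]) (Level g [1, 2, 3, 4, 5, 6, 8]) 3159 :=
  covers_level g15 hinv ls lsWords [1, 2, 3, 4, 5, 6, 8, 9] [1, 2, 3, 4, 5, 6, 8] 18364758544493064720 (ip := 18364758544493064720) (by decide +kernel) lsl lsub (by decide +kernel) (by decide +kernel)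
    facts U1.words subs lives entryFact U1.table 384 21 8650 31872 3159 8 rfl rfl (by omega)
    words_fit words_eq subs_fit subs_eq facts_ok lives_zero rows_ok

end U1

end CfsgLib.CosetEnum.Fi23
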