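import Cfsg.Agent.Lib.CosetEnum.Fi23.Pres

set_option autoImplicit false
set_option linter.all false

namespace CfsgLib.CosetEnum.Fi23

namespace U7

open CfsgLib.CosetEnum

/-- Relator words in local letters. -/
def lsl : List (List ℕ) := [[0, 0],
  [0, 1, 0, 1, 0, 1],
  [1, 0, 1, 0, 1, 0],
  [1, 1]]

/-- Subgroup letters. -/
def lsub : List (List ℕ) := [[0]]

noncomputable def col0 : Tr :=
 (.leaf (nat_lit 0x10000200000))
noncomputable def col1 : Tr :=
 (.leaf (nat_lit 0x20000000001))
noncomputable def table : List Tr := [col0, col1]

noncomputable def facts : Tr :=
 (.leaf (nat_lit 0x10000200002000000000000000000200001010000100000))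
noncomputable def words : Tr :=
 (.leaf (nat_lit 0x10000000000000111000000000000010000000000000001110000000000000111000000000000011100000000000001110000000001101010000000000101010100000000011010100000000001010101000000000110101000000000010101010000000001010101000000000110101000000000010101010000000001101010000000000101010100000000011010100000000001010101000000000110101000000000010101010000000001101010000000000101010100000000011010100000000001101010000000000101010100000000011010100000000001010101000000000110101000000000010101010000000000000100000000000000010000000000000001000000000000000100))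
noncomputable def subs : Tr :=
 (.leaf (nat_lit 0x100000000000000010))
noncomputable def lives : Tr :=
 (.leaf (nat_lit 0x20000100000))
noncomputable def entryFact : Tr :=
 (.leaf (nat_lit 0x8000004000002000003000001000006))
noncomputable def items0 : List ℕ := [
nat_lit 0x0,
nat_lit 0x0,
nat_lit 0x1fffffe00001,
nat_lit 0x600000200000c00000400000800008]
theorem facts_ok0 : checkFacts facts 18364758544493064720 words 64 subs 3 items0 0 = true := by decide +kernel
theorem facts_ok_upto4 : ∀ j < 4, ∃ item, checkFact facts 18364758544493064720 words 64 subs 3 j item = true := fun j hj =>
  have h : 0 ≤ j := Nat.zero_le j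
  checkFacts_spec _ _ _ _ _ _ items0 0 facts_ok0 j h (lt_of_lt_of_eq hj (by decide +kernel))
theorem facts_ok : ∀ j < 4, ∃ item, checkFact facts 18364758544493064720 words 64 subs 3 j item = true := facts_ok_upto4
theorem rows_0 : checkRows facts 18364758544493064720 lives entryFact table 3 2 4 3 0 = true := by decide +kernel
theorem rows_ok_upto3 : ∀ k < 3, checkRow facts 18364758544493064720 lives entryFact 3 2 4 k table 0 = true := fun k hk =>
  have h : 0 ≤ k := Nat.zero_le k
  checkRows_spec _ _ _ _ _ _ _ _ _ _ rows_0 k h hk
theorem rows_ok : ∀ k < 3, checkRow facts 18364758544493064720 lives entryFact 3 2 4 k table 0 = true := rows_ok_upto3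
theorem words_fit : words.fits 64 128 = true := by decide +kernel
theorem words_eq : listEq (words.entries 64 128) (allCodes 18364758544493064720 2 lsl) = true := by decide +kernel
theorem subs_fit : subs.fits 64 128 = true := by decide +kernel
theorem subs_eq : listEq (subs.entries 64 128) (subCodes 18364758544493064720 lsub) = true := by decide +kernel
theorem lives_zero : Nat.beq (lives.get 20 0) 0 = true := by decide +kernel

theorem covers : CoversCosets (Level g [4, 5]) (Level g [4]) 3 :=
  covers_level g15 hinv ls lsWords [4, 5] [4] 18364758544493064720 (ip := 18364758544493064720) (by decide +kernel) lsl lsub (by decide +kernel) (by decide +kernel)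
    facts U7.words subs lives entryFact U7.table 64 128 3 4 3 2 rfl rfl (by omega)
    words_fit words_eq subs_fit subs_eq facts_ok lives_zero rows_ok

end U7

end CfsgLib.CosetEnum.Fi23
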