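import Cfsg.Agent.Lib.CosetEnum.Fi23.UTop
import Cfsg.Agent.Lib.CosetEnum.Fi23.U0
import Cfsg.Agent.Lib.CosetEnum.Fi23.U1
import Cfsg.Agent.Lib.CosetEnum.Fi23.U2
import Cfsg.Agent.Lib.CosetEnum.Fi23.U3
import Cfsg.Agent.Lib.CosetEnum.Fi23.U4
import Cfsg.Agent.Lib.CosetEnum.Fi23.U5
import Cfsg.Agent.Lib.CosetEnum.Fi23.U6
import Cfsg.Agent.Lib.CosetEnum.Fi23.U7
import Cfsg.Agent.Lib.CosetEnum.Fi23.U8

set_option autoImplicit false
set_option linter.all false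

namespace CfsgLib.CosetEnum.Fi23

namespace UBound

open CfsgLib.CosetEnum

theorem bound_end : Finite (Level g []) ∧ Nat.card (Level g []) ≤ 1 :=
  ⟨(card_level_nil g).1, (card_level_nil g).2.le⟩

theorem bound8 : Finite (Level g [4]) ∧ Nat.card (Level g [4]) ≤ 2 :=
  card_le_step U8.covers bound_end (by norm_num)

theorem bound7 : Finite (Level g [4, 5]) ∧ Nat.card (Level g [4, 5]) ≤ 6 :=
  card_le_step U7.covers bound8 (by norm_num)

theorem bound6 : Finite (Level g [4, 5, 6]) ∧ Nat.card (Level g [4, 5, 6]) ≤ 24 :=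
  card_le_step U6.covers bound7 (by norm_num)

theorem bound5 : Finite (Level g [4, 5, 6, 8]) ∧ Nat.card (Level g [4, 5, 6, 8]) ≤ 48 :=
  card_le_step U5.covers bound6 (by norm_num)

theorem bound4 : Finite (Level g [3, 4, 5, 6, 8]) ∧ Nat.card (Level g [3, 4, 5, 6, 8]) ≤ 720 :=
  card_le_step U4.covers bound5 (by norm_num)

theorem bound3 : Finite (Level g [2, 3, 4, 5, 6, 8]) ∧ Nat.card (Level g [2, 3, 4, 5, 6, 8]) ≤ 23040 :=
  card_le_step U3.covers bound4 (by norm_num)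

theorem bound2 : Finite (Level g [1, 2, 3, 4, 5, 6, 8]) ∧ Nat.card (Level g [1, 2, 3, 4, 5, 6, 8]) ≤ 2903040 :=
  card_le_step U2.covers bound3 (by norm_num)

theorem bound1 : Finite (Level g [1, 2, 3, 4, 5, 6, 8, 9]) ∧ Nat.card (Level g [1, 2, 3, 4, 5, 6, 8, 9]) ≤ 9170703360 :=
  card_le_step U1.covers bound2 (by norm_num)

theorem bound0 : Finite (Level g [0, 1, 2, 3, 4, 5, 6, 8, 9]) ∧ Nat.card (Level g [0, 1, 2, 3, 4, 5, 6, 8, 9]) ≤ 129123503308800 :=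
  card_le_step U0.covers bound1 (by norm_num)

theorem group_bound : Finite Cfsg.Spor.Fi23 ∧ Nat.card Cfsg.Spor.Fi23 ≤ 4089470473293004800 := by
  obtain ⟨h1, h2⟩ := card_le_step (m := 4089470473293004800) UTop.covers bound0 (by norm_num)
  exact ⟨Finite.of_equiv _ Subgroup.topEquiv.toEquiv, Subgroup.card_top (G := Cfsg.Spor.Fi23) ▸ h2⟩

end UBound

end CfsgLib.CosetEnum.Fi23
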