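import Cfsg.Agent.Lib.CosetEnum.Fi23.MatchD

set_option autoImplicit false

set_option linter.all false

namespace CfsgLib.CosetEnum.Fi23

open CfsgLib.CosetEnum

theorem corr_0 : allFrom (fun k => (Nat.blt (sig.get 20 k) 31671 && Nat.beq (sigInv.get 20 (sig.get 20 k)) k && allFrom (fun j => Nat.beq (act table (sel.getD j 15) (sig.get 20 k)) (sig.get 20 (act Fi22.table j k))) 9 0)) 512 0 = true := by decide +kernel

theorem corr_512 : allFrom (fun k => (Nat.blt (sig.get 20 k) 31671 && Nat.beq (sigInv.get 20 (sig.get 20 k)) k && allFrom (fun j => Nat.beq (act table (sel.getD j 15) (sig.get 20 k)) (sig.get 20 (act Fi22.table j k))) 9 0)) 512 512 = true := by decide +kernel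

theorem corr_1024 : allFrom (fun k => (Nat.blt (sig.get 20 k) 31671 && Nat.beq (sigInv.get 20 (sig.get 20 k)) k && allFrom (fun j => Nat.beq (act table (sel.getD j 15) (sig.get 20 k)) (sig.get 20 (act Fi22.table j k))) 9 0)) 512 1024 = true := by decide +kernel

theorem corr_1536 : allFrom (fun k => (Nat.blt (sig.get 20 k) 31671 && Nat.beq (sigInv.get 20 (sig.get 20 k)) k && allFrom (fun j => Nat.beq (act table (sel.getD j 15) (sig.get 20 k)) (sig.get 20 (act Fi22.table j k))) 9 0)) 512 1536 = true := by decide +kernel

theorem corr_2048 : allFrom (fun k => (Nat.blt (sig.get 20 k) 31671 && Nat.beq (sigInv.get 20 (sig.get 20 k)) k && allFrom (fun j => Nat.beq (act table (sel.getD j 15) (sig.get 20 k)) (sig.get 20 (act Fi22.table j k))) 9 0)) 512 2048 = true := by decide +kernel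

theorem corr_2560 : allFrom (fun k => (Nat.blt (sig.get 20 k) 31671 && Nat.beq (sigInv.get 20 (sig.get 20 k)) k && allFrom (fun j => Nat.beq (act table (sel.getD j 15) (sig.get 20 k)) (sig.get 20 (act Fi22.table j k))) 9 0)) 512 2560 = true := by decide +kernel

theorem corr_3072 : allFrom (fun k => (Nat.blt (sig.get 20 k) 31671 && Nat.beq (sigInv.get 20 (sig.get 20 k)) k && allFrom (fun j => Nat.beq (act table (sel.getD j 15) (sig.get 20 k)) (sig.get 20 (act Fi22.table j k))) 9 0)) 438 3072 = true := by decide +kernel

theorem zcolOK_0 : allFrom (fun k => (Nat.beq (scan table zw k) (zCol.get 20 k) && Nat.blt (zCol.get 20 k) 31671)) 1024 0 = true := by decide +kernel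

theorem zcolOK_1024 : allFrom (fun k => (Nat.beq (scan table zw k) (zCol.get 20 k) && Nat.blt (zCol.get 20 k) 31671)) 1024 1024 = true := by decide +kernel

theorem zcolOK_2048 : allFrom (fun k => (Nat.beq (scan table zw k) (zCol.get 20 k) && Nat.blt (zCol.get 20 k) 31671)) 1024 2048 = true := by decide +kernel

theorem zcolOK_3072 : allFrom (fun k => (Nat.beq (scan table zw k) (zCol.get 20 k) && Nat.blt (zCol.get 20 k) 31671)) 1024 3072 = true := by decide +kernel

theorem zcolOK_4096 : allFrom (fun k => (Nat.beq (scan table zw k) (zCol.get 20 k) && Nat.blt (zCol.get 20 k) 31671)) 1024 4096 = true := by decide +kernel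

theorem zcolOK_5120 : allFrom (fun k => (Nat.beq (scan table zw k) (zCol.get 20 k) && Nat.blt (zCol.get 20 k) 31671)) 1024 5120 = true := by decide +kernel

theorem zcolOK_6144 : allFrom (fun k => (Nat.beq (scan table zw k) (zCol.get 20 k) && Nat.blt (zCol.get 20 k) 31671)) 1024 6144 = true := by decide +kernel

theorem zcolOK_7168 : allFrom (fun k => (Nat.beq (scan table zw k) (zCol.get 20 k) && Nat.blt (zCol.get 20 k) 31671)) 1024 7168 = true := by decide +kernel

theorem zcolOK_8192 : allFrom (fun k => (Nat.beq (scan table zw k) (zCol.get 20 k) && Nat.blt (zCol.get 20 k) 31671)) 1024 8192 = true := by decide +kernel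

theorem zcolOK_9216 : allFrom (fun k => (Nat.beq (scan table zw k) (zCol.get 20 k) && Nat.blt (zCol.get 20 k) 31671)) 1024 9216 = true := by decide +kernel

theorem zcolOK_10240 : allFrom (fun k => (Nat.beq (scan table zw k) (zCol.get 20 k) && Nat.blt (zCol.get 20 k) 31671)) 1024 10240 = true := by decide +kernel

theorem zcolOK_11264 : allFrom (fun k => (Nat.beq (scan table zw k) (zCol.get 20 k) && Nat.blt (zCol.get 20 k) 31671)) 1024 11264 = true := by decide +kernel

theorem zcolOK_12288 : allFrom (fun k => (Nat.beq (scan table zw k) (zCol.get 20 k) && Nat.blt (zCol.get 20 k) 31671)) 1024 12288 = true := by decide +kernel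

theorem zcolOK_13312 : allFrom (fun k => (Nat.beq (scan table zw k) (zCol.get 20 k) && Nat.blt (zCol.get 20 k) 31671)) 1024 13312 = true := by decide +kernel

theorem zcolOK_14336 : allFrom (fun k => (Nat.beq (scan table zw k) (zCol.get 20 k) && Nat.blt (zCol.get 20 k) 31671)) 1024 14336 = true := by decide +kernel

theorem zcolOK_15360 : allFrom (fun k => (Nat.beq (scan table zw k) (zCol.get 20 k) && Nat.blt (zCol.get 20 k) 31671)) 1024 15360 = true := by decide +kernel

theorem zcolOK_16384 : allFrom (fun k => (Nat.beq (scan table zw k) (zCol.get 20 k) && Nat.blt (zCol.get 20 k) 31671)) 1024 16384 = true := by decide +kernel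

theorem zcolOK_17408 : allFrom (fun k => (Nat.beq (scan table zw k) (zCol.get 20 k) && Nat.blt (zCol.get 20 k) 31671)) 1024 17408 = true := by decide +kernel

theorem zcolOK_18432 : allFrom (fun k => (Nat.beq (scan table zw k) (zCol.get 20 k) && Nat.blt (zCol.get 20 k) 31671)) 1024 18432 = true := by decide +kernel

theorem zcolOK_19456 : allFrom (fun k => (Nat.beq (scan table zw k) (zCol.get 20 k) && Nat.blt (zCol.get 20 k) 31671)) 1024 19456 = true := by decide +kernel

theorem zcolOK_20480 : allFrom (fun k => (Nat.beq (scan table zw k) (zCol.get 20 k) && Nat.blt (zCol.get 20 k) 31671)) 1024 20480 = true := by decide +kernel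

theorem zcolOK_21504 : allFrom (fun k => (Nat.beq (scan table zw k) (zCol.get 20 k) && Nat.blt (zCol.get 20 k) 31671)) 1024 21504 = true := by decide +kernel

theorem zcolOK_22528 : allFrom (fun k => (Nat.beq (scan table zw k) (zCol.get 20 k) && Nat.blt (zCol.get 20 k) 31671)) 1024 22528 = true := by decide +kernel

theorem zcolOK_23552 : allFrom (fun k => (Nat.beq (scan table zw k) (zCol.get 20 k) && Nat.blt (zCol.get 20 k) 31671)) 1024 23552 = true := by decide +kernel

theorem zcolOK_24576 : allFrom (fun k => (Nat.beq (scan table zw k) (zCol.get 20 k) && Nat.blt (zCol.get 20 k) 31671)) 1024 24576 = true := by decide +kernel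

end CfsgLib.CosetEnum.Fi23
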