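import Cfsg.Agent.Lib.CosetEnum.Fi23.MatchD

set_option autoImplicit false

set_option linter.all false

namespace CfsgLib.CosetEnum.Fi23

open CfsgLib.CosetEnum

theorem zcolOK_25600 : allFrom (fun k => (Nat.beq (scan table zw k) (zCol.get 20 k) && Nat.blt (zCol.get 20 k) 31671)) 1024 25600 = true := by decide +kernel

theorem zcolOK_26624 : allFrom (fun k => (Nat.beq (scan table zw k) (zCol.get 20 k) && Nat.blt (zCol.get 20 k) 31671)) 1024 26624 = true := by decide +kernel

theorem zcolOK_27648 : allFrom (fun k => (Nat.beq (scan table zw k) (zCol.get 20 k) && Nat.blt (zCol.get 20 k) 31671)) 1024 27648 = true := by decide +kernel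

theorem zcolOK_28672 : allFrom (fun k => (Nat.beq (scan table zw k) (zCol.get 20 k) && Nat.blt (zCol.get 20 k) 31671)) 1024 28672 = true := by decide +kernel

theorem zcolOK_29696 : allFrom (fun k => (Nat.beq (scan table zw k) (zCol.get 20 k) && Nat.blt (zCol.get 20 k) 31671)) 1024 29696 = true := by decide +kernel

theorem zcolOK_30720 : allFrom (fun k => (Nat.beq (scan table zw k) (zCol.get 20 k) && Nat.blt (zCol.get 20 k) 31671)) 951 30720 = true := by decide +kernel

theorem zcommOK_0 : allFrom (fun k => allFrom (fun j => Nat.beq (zCol.get 20 (act table (sel.getD j 15) k)) (act table (sel.getD j 15) (zCol.get 20 k))) 9 0) 1024 0 = true := by decide +kernel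

theorem zcommOK_1024 : allFrom (fun k => allFrom (fun j => Nat.beq (zCol.get 20 (act table (sel.getD j 15) k)) (act table (sel.getD j 15) (zCol.get 20 k))) 9 0) 1024 1024 = true := by decide +kernel

theorem zcommOK_2048 : allFrom (fun k => allFrom (fun j => Nat.beq (zCol.get 20 (act table (sel.getD j 15) k)) (act table (sel.getD j 15) (zCol.get 20 k))) 9 0) 1024 2048 = true := by decide +kernel

theorem zcommOK_3072 : allFrom (fun k => allFrom (fun j => Nat.beq (zCol.get 20 (act table (sel.getD j 15) k)) (act table (sel.getD j 15) (zCol.get 20 k))) 9 0) 1024 3072 = true := by decide +kernel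

theorem zcommOK_4096 : allFrom (fun k => allFrom (fun j => Nat.beq (zCol.get 20 (act table (sel.getD j 15) k)) (act table (sel.getD j 15) (zCol.get 20 k))) 9 0) 1024 4096 = true := by decide +kernel

theorem zcommOK_5120 : allFrom (fun k => allFrom (fun j => Nat.beq (zCol.get 20 (act table (sel.getD j 15) k)) (act table (sel.getD j 15) (zCol.get 20 k))) 9 0) 1024 5120 = true := by decide +kernel

theorem zcommOK_6144 : allFrom (fun k => allFrom (fun j => Nat.beq (zCol.get 20 (act table (sel.getD j 15) k)) (act table (sel.getD j 15) (zCol.get 20 k))) 9 0) 1024 6144 = true := by decide +kernel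

end CfsgLib.CosetEnum.Fi23
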