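import Cfsg.Agent.Lib.CosetEnum.Fi23.MatchD

set_option autoImplicit false

set_option linter.all false

namespace CfsgLib.CosetEnum.Fi23

open CfsgLib.CosetEnum

theorem zcommOK_7168 : allFrom (fun k => allFrom (fun j => Nat.beq (zCol.get 20 (act table (sel.getD j 15) k)) (act table (sel.getD j 15) (zCol.get 20 k))) 9 0) 1024 7168 = true := by decide +kernel

theorem zcommOK_8192 : allFrom (fun k => allFrom (fun j => Nat.beq (zCol.get 20 (act table (sel.getD j 15) k)) (act table (sel.getD j 15) (zCol.get 20 k))) 9 0) 1024 8192 = true := by decide +kernel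

theorem zcommOK_9216 : allFrom (fun k => allFrom (fun j => Nat.beq (zCol.get 20 (act table (sel.getD j 15) k)) (act table (sel.getD j 15) (zCol.get 20 k))) 9 0) 1024 9216 = true := by decide +kernel

theorem zcommOK_10240 : allFrom (fun k => allFrom (fun j => Nat.beq (zCol.get 20 (act table (sel.getD j 15) k)) (act table (sel.getD j 15) (zCol.get 20 k))) 9 0) 1024 10240 = true := by decide +kernel

theorem zcommOK_11264 : allFrom (fun k => allFrom (fun j => Nat.beq (zCol.get 20 (act table (sel.getD j 15) k)) (act table (sel.getD j 15) (zCol.get 20 k))) 9 0) 1024 11264 = true := by decide +kernel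

theorem zcommOK_12288 : allFrom (fun k => allFrom (fun j => Nat.beq (zCol.get 20 (act table (sel.getD j 15) k)) (act table (sel.getD j 15) (zCol.get 20 k))) 9 0) 1024 12288 = true := by decide +kernel

theorem zcommOK_13312 : allFrom (fun k => allFrom (fun j => Nat.beq (zCol.get 20 (act table (sel.getD j 15) k)) (act table (sel.getD j 15) (zCol.get 20 k))) 9 0) 1024 13312 = true := by decide +kernel

theorem zcommOK_14336 : allFrom (fun k => allFrom (fun j => Nat.beq (zCol.get 20 (act table (sel.getD j 15) k)) (act table (sel.getD j 15) (zCol.get 20 k))) 9 0) 1024 14336 = true := by decide +kernel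

theorem zcommOK_15360 : allFrom (fun k => allFrom (fun j => Nat.beq (zCol.get 20 (act table (sel.getD j 15) k)) (act table (sel.getD j 15) (zCol.get 20 k))) 9 0) 1024 15360 = true := by decide +kernel

end CfsgLib.CosetEnum.Fi23
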