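import Cfsg.Agent.Lib.CosetEnum.Fi23.MatchD

set_option autoImplicit false

set_option linter.all false

namespace CfsgLib.CosetEnum.Fi23

open CfsgLib.CosetEnum

theorem zcommOK_16384 : allFrom (fun k => allFrom (fun j => Nat.beq (zCol.get 20 (act table (sel.getD j 15) k)) (act table (sel.getD j 15) (zCol.get 20 k))) 9 0) 1024 16384 = true := by decide +kernel

theorem zcommOK_17408 : allFrom (fun k => allFrom (fun j => Nat.beq (zCol.get 20 (act table (sel.getD j 15) k)) (act table (sel.getD j 15) (zCol.get 20 k))) 9 0) 1024 17408 = true := by decide +kernel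

theorem zcommOK_18432 : allFrom (fun k => allFrom (fun j => Nat.beq (zCol.get 20 (act table (sel.getD j 15) k)) (act table (sel.getD j 15) (zCol.get 20 k))) 9 0) 1024 18432 = true := by decide +kernel

theorem zcommOK_19456 : allFrom (fun k => allFrom (fun j => Nat.beq (zCol.get 20 (act table (sel.getD j 15) k)) (act table (sel.getD j 15) (zCol.get 20 k))) 9 0) 1024 19456 = true := by decide +kernel

theorem zcommOK_20480 : allFrom (fun k => allFrom (fun j => Nat.beq (zCol.get 20 (act table (sel.getD j 15) k)) (act table (sel.getD j 15) (zCol.get 20 k))) 9 0) 1024 20480 = true := by decide +kernel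

theorem zcommOK_21504 : allFrom (fun k => allFrom (fun j => Nat.beq (zCol.get 20 (act table (sel.getD j 15) k)) (act table (sel.getD j 15) (zCol.get 20 k))) 9 0) 1024 21504 = true := by decide +kernel

theorem zcommOK_22528 : allFrom (fun k => allFrom (fun j => Nat.beq (zCol.get 20 (act table (sel.getD j 15) k)) (act table (sel.getD j 15) (zCol.get 20 k))) 9 0) 1024 22528 = true := by decide +kernel

theorem zcommOK_23552 : allFrom (fun k => allFrom (fun j => Nat.beq (zCol.get 20 (act table (sel.getD j 15) k)) (act table (sel.getD j 15) (zCol.get 20 k))) 9 0) 1024 23552 = true := by decide +kernel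

end CfsgLib.CosetEnum.Fi23
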