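import Cfsg.Agent.Lib.CosetEnum.Fi23.MatchD

set_option autoImplicit false

set_option linter.all false

namespace CfsgLib.CosetEnum.Fi23

open CfsgLib.CosetEnum

theorem pair2OK_20480 : allFrom (fun k => pairStep t2 2 k) 1024 20480 = true := by decide +kernel

theorem pair2OK_21504 : allFrom (fun k => pairStep t2 2 k) 1024 21504 = true := by decide +kernel

theorem pair2OK_22528 : allFrom (fun k => pairStep t2 2 k) 1024 22528 = true := by decide +kernel

theorem pair2OK_23552 : allFrom (fun k => pairStep t2 2 k) 1024 23552 = true := by decide +kernel

theorem pair2OK_24576 : allFrom (fun k => pairStep t2 2 k) 1024 24576 = true := by decide +kernel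

theorem pair2OK_25600 : allFrom (fun k => pairStep t2 2 k) 1024 25600 = true := by decide +kernel

theorem pair2OK_26624 : allFrom (fun k => pairStep t2 2 k) 1024 26624 = true := by decide +kernel

theorem pair2OK_27648 : allFrom (fun k => pairStep t2 2 k) 1024 27648 = true := by decide +kernel

theorem pair2OK_28672 : allFrom (fun k => pairStep t2 2 k) 1024 28672 = true := by decide +kernel

theorem pair2OK_29696 : allFrom (fun k => pairStep t2 2 k) 1024 29696 = true := by decide +kernel

theorem pair2OK_30720 : allFrom (fun k => pairStep t2 2 k) 951 30720 = true := by decide +kernel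

theorem labLt_0 : allFrom (fun k => Nat.blt (lab.get 20 k) 3) 2048 0 = true := by decide +kernel

theorem labLt_2048 : allFrom (fun k => Nat.blt (lab.get 20 k) 3) 2048 2048 = true := by decide +kernel

theorem labLt_4096 : allFrom (fun k => Nat.blt (lab.get 20 k) 3) 2048 4096 = true := by decide +kernel

theorem labLt_6144 : allFrom (fun k => Nat.blt (lab.get 20 k) 3) 2048 6144 = true := by decide +kernel

theorem labLt_8192 : allFrom (fun k => Nat.blt (lab.get 20 k) 3) 2048 8192 = true := by decide +kernel

theorem labLt_10240 : allFrom (fun k => Nat.blt (lab.get 20 k) 3) 2048 10240 = true := by decide +kernel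

theorem labLt_12288 : allFrom (fun k => Nat.blt (lab.get 20 k) 3) 2048 12288 = true := by decide +kernel

theorem labLt_14336 : allFrom (fun k => Nat.blt (lab.get 20 k) 3) 2048 14336 = true := by decide +kernel

theorem labLt_16384 : allFrom (fun k => Nat.blt (lab.get 20 k) 3) 2048 16384 = true := by decide +kernel

theorem labLt_18432 : allFrom (fun k => Nat.blt (lab.get 20 k) 3) 2048 18432 = true := by decide +kernel

theorem labLt_20480 : allFrom (fun k => Nat.blt (lab.get 20 k) 3) 2048 20480 = true := by decide +kernel

theorem labLt_22528 : allFrom (fun k => Nat.blt (lab.get 20 k) 3) 2048 22528 = true := by decide +kernel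

theorem labLt_24576 : allFrom (fun k => Nat.blt (lab.get 20 k) 3) 2048 24576 = true := by decide +kernel

theorem labLt_26624 : allFrom (fun k => Nat.blt (lab.get 20 k) 3) 2048 26624 = true := by decide +kernel

theorem labLt_28672 : allFrom (fun k => Nat.blt (lab.get 20 k) 3) 2048 28672 = true := by decide +kernel

theorem labLt_30720 : allFrom (fun k => Nat.blt (lab.get 20 k) 3) 951 30720 = true := by decide +kernel

end CfsgLib.CosetEnum.Fi23
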