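import Cfsg.Agent.Lib.CosetEnum.Fi23.Orbits
import Cfsg.Agent.Lib.CosetEnum.Fi22.Simple
import Cfsg.Agent.Lib.CosetEnum.Fi23.MatchQ0
import Cfsg.Agent.Lib.CosetEnum.Fi23.MatchQ1
import Cfsg.Agent.Lib.CosetEnum.Fi23.MatchQ2
import Cfsg.Agent.Lib.CosetEnum.Fi23.MatchQ3
import Cfsg.Agent.Lib.CosetEnum.Fi23.MatchQ4
import Cfsg.Agent.Lib.CosetEnum.Fi23.MatchQ5
import Cfsg.Agent.Lib.CosetEnum.Fi23.MatchQ6

set_option autoImplicit false

set_option linter.all false

namespace CfsgLib.CosetEnum.Fi23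

open CfsgLib.CosetEnum

theorem corr_ok_upto512 : ∀ k < 512, (Nat.blt (sig.get 20 k) 31671 && Nat.beq (sigInv.get 20 (sig.get 20 k)) k && allFrom (fun j => Nat.beq (act table (sel.getD j 15) (sig.get 20 k)) (sig.get 20 (act Fi22.table j k))) 9 0) = true := fun k hk =>
  have h : 0 ≤ k := Nat.zero_le k
  allFrom_spec _ _ _ corr_0 k h hk

theorem corr_ok_upto1024 : ∀ k < 1024, (Nat.blt (sig.get 20 k) 31671 && Nat.beq (sigInv.get 20 (sig.get 20 k)) k && allFrom (fun j => Nat.beq (act table (sel.getD j 15) (sig.get 20 k)) (sig.get 20 (act Fi22.table j k))) 9 0) = true := fun k hk =>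
  (Nat.lt_or_ge k 512).elim (corr_ok_upto512 k) fun h =>
    allFrom_spec _ _ _ corr_512 k h hk

theorem corr_ok_upto1536 : ∀ k < 1536, (Nat.blt (sig.get 20 k) 31671 && Nat.beq (sigInv.get 20 (sig.get 20 k)) k && allFrom (fun j => Nat.beq (act table (sel.getD j 15) (sig.get 20 k)) (sig.get 20 (act Fi22.table j k))) 9 0) = true := fun k hk =>
  (Nat.lt_or_ge k 1024).elim (corr_ok_upto1024 k) fun h =>
    allFrom_spec _ _ _ corr_1024 k h hk

theorem corr_ok_upto2048 : ∀ k < 2048, (Nat.blt (sig.get 20 k) 31671 && Nat.beq (sigInv.get 20 (sig.get 20 k)) k && allFrom (fun j => Nat.beq (act table (sel.getD j 15) (sig.get 20 k)) (sig.get 20 (act Fi22.table j k))) 9 0) = true := fun k hk =>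
  (Nat.lt_or_ge k 1536).elim (corr_ok_upto1536 k) fun h =>
    allFrom_spec _ _ _ corr_1536 k h hk

theorem corr_ok_upto2560 : ∀ k < 2560, (Nat.blt (sig.get 20 k) 31671 && Nat.beq (sigInv.get 20 (sig.get 20 k)) k && allFrom (fun j => Nat.beq (act table (sel.getD j 15) (sig.get 20 k)) (sig.get 20 (act Fi22.table j k))) 9 0) = true := fun k hk =>
  (Nat.lt_or_ge k 2048).elim (corr_ok_upto2048 k) fun h =>
    allFrom_spec _ _ _ corr_2048 k h hk

theorem corr_ok_upto3072 : ∀ k < 3072, (Nat.blt (sig.get 20 k) 31671 && Nat.beq (sigInv.get 20 (sig.get 20 k)) k && allFrom (fun j => Nat.beq (act table (sel.getD j 15) (sig.get 20 k)) (sig.get 20 (act Fi22.table j k))) 9 0) = true := fun k hk =>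
  (Nat.lt_or_ge k 2560).elim (corr_ok_upto2560 k) fun h =>
    allFrom_spec _ _ _ corr_2560 k h hk

theorem corr_ok_upto3510 : ∀ k < 3510, (Nat.blt (sig.get 20 k) 31671 && Nat.beq (sigInv.get 20 (sig.get 20 k)) k && allFrom (fun j => Nat.beq (act table (sel.getD j 15) (sig.get 20 k)) (sig.get 20 (act Fi22.table j k))) 9 0) = true := fun k hk =>
  (Nat.lt_or_ge k 3072).elim (corr_ok_upto3072 k) fun h =>
    allFrom_spec _ _ _ corr_3072 k h hk

theorem corr_ok : ∀ k < 3510, (Nat.blt (sig.get 20 k) 31671 && Nat.beq (sigInv.get 20 (sig.get 20 k)) k && allFrom (fun j => Nat.beq (act table (sel.getD j 15) (sig.get 20 k)) (sig.get 20 (act Fi22.table j k))) 9 0) = true := corr_ok_upto3510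

theorem zcol_ok_upto1024 : ∀ k < 1024, (Nat.beq (scan table zw k) (zCol.get 20 k) && Nat.blt (zCol.get 20 k) 31671) = true := fun k hk =>
  have h : 0 ≤ k := Nat.zero_le k
  allFrom_spec _ _ _ zcolOK_0 k h hk

theorem zcol_ok_upto2048 : ∀ k < 2048, (Nat.beq (scan table zw k) (zCol.get 20 k) && Nat.blt (zCol.get 20 k) 31671) = true := fun k hk =>
  (Nat.lt_or_ge k 1024).elim (zcol_ok_upto1024 k) fun h =>
    allFrom_spec _ _ _ zcolOK_1024 k h hk

theorem zcol_ok_upto3072 : ∀ k < 3072, (Nat.beq (scan table zw k) (zCol.get 20 k) && Nat.blt (zCol.get 20 k) 31671) = true := fun k hk =>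
  (Nat.lt_or_ge k 2048).elim (zcol_ok_upto2048 k) fun h =>
    allFrom_spec _ _ _ zcolOK_2048 k h hk

theorem zcol_ok_upto4096 : ∀ k < 4096, (Nat.beq (scan table zw k) (zCol.get 20 k) && Nat.blt (zCol.get 20 k) 31671) = true := fun k hk =>
  (Nat.lt_or_ge k 3072).elim (zcol_ok_upto3072 k) fun h =>
    allFrom_spec _ _ _ zcolOK_3072 k h hk

theorem zcol_ok_upto5120 : ∀ k < 5120, (Nat.beq (scan table zw k) (zCol.get 20 k) && Nat.blt (zCol.get 20 k) 31671) = true := fun k hk =>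
  (Nat.lt_or_ge k 4096).elim (zcol_ok_upto4096 k) fun h =>
    allFrom_spec _ _ _ zcolOK_4096 k h hk

theorem zcol_ok_upto6144 : ∀ k < 6144, (Nat.beq (scan table zw k) (zCol.get 20 k) && Nat.blt (zCol.get 20 k) 31671) = true := fun k hk =>
  (Nat.lt_or_ge k 5120).elim (zcol_ok_upto5120 k) fun h =>
    allFrom_spec _ _ _ zcolOK_5120 k h hk

theorem zcol_ok_upto7168 : ∀ k < 7168, (Nat.beq (scan table zw k) (zCol.get 20 k) && Nat.blt (zCol.get 20 k) 31671) = true := fun k hk =>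
  (Nat.lt_or_ge k 6144).elim (zcol_ok_upto6144 k) fun h =>
    allFrom_spec _ _ _ zcolOK_6144 k h hk

theorem zcol_ok_upto8192 : ∀ k < 8192, (Nat.beq (scan table zw k) (zCol.get 20 k) && Nat.blt (zCol.get 20 k) 31671) = true := fun k hk =>
  (Nat.lt_or_ge k 7168).elim (zcol_ok_upto7168 k) fun h =>
    allFrom_spec _ _ _ zcolOK_7168 k h hk

theorem zcol_ok_upto9216 : ∀ k < 9216, (Nat.beq (scan table zw k) (zCol.get 20 k) && Nat.blt (zCol.get 20 k) 31671) = true := fun k hk =>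
  (Nat.lt_or_ge k 8192).elim (zcol_ok_upto8192 k) fun h =>
    allFrom_spec _ _ _ zcolOK_8192 k h hk

theorem zcol_ok_upto10240 : ∀ k < 10240, (Nat.beq (scan table zw k) (zCol.get 20 k) && Nat.blt (zCol.get 20 k) 31671) = true := fun k hk =>
  (Nat.lt_or_ge k 9216).elim (zcol_ok_upto9216 k) fun h =>
    allFrom_spec _ _ _ zcolOK_9216 k h hk

theorem zcol_ok_upto11264 : ∀ k < 11264, (Nat.beq (scan table zw k) (zCol.get 20 k) && Nat.blt (zCol.get 20 k) 31671) = true := fun k hk =>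
  (Nat.lt_or_ge k 10240).elim (zcol_ok_upto10240 k) fun h =>
    allFrom_spec _ _ _ zcolOK_10240 k h hk

theorem zcol_ok_upto12288 : ∀ k < 12288, (Nat.beq (scan table zw k) (zCol.get 20 k) && Nat.blt (zCol.get 20 k) 31671) = true := fun k hk =>
  (Nat.lt_or_ge k 11264).elim (zcol_ok_upto11264 k) fun h =>
    allFrom_spec _ _ _ zcolOK_11264 k h hk

theorem zcol_ok_upto13312 : ∀ k < 13312, (Nat.beq (scan table zw k) (zCol.get 20 k) && Nat.blt (zCol.get 20 k) 31671) = true := fun k hk =>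
  (Nat.lt_or_ge k 12288).elim (zcol_ok_upto12288 k) fun h =>
    allFrom_spec _ _ _ zcolOK_12288 k h hk

theorem zcol_ok_upto14336 : ∀ k < 14336, (Nat.beq (scan table zw k) (zCol.get 20 k) && Nat.blt (zCol.get 20 k) 31671) = true := fun k hk =>
  (Nat.lt_or_ge k 13312).elim (zcol_ok_upto13312 k) fun h =>
    allFrom_spec _ _ _ zcolOK_13312 k h hk

theorem zcol_ok_upto15360 : ∀ k < 15360, (Nat.beq (scan table zw k) (zCol.get 20 k) && Nat.blt (zCol.get 20 k) 31671) = true := fun k hk =>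
  (Nat.lt_or_ge k 14336).elim (zcol_ok_upto14336 k) fun h =>
    allFrom_spec _ _ _ zcolOK_14336 k h hk

theorem zcol_ok_upto16384 : ∀ k < 16384, (Nat.beq (scan table zw k) (zCol.get 20 k) && Nat.blt (zCol.get 20 k) 31671) = true := fun k hk =>
  (Nat.lt_or_ge k 15360).elim (zcol_ok_upto15360 k) fun h =>
    allFrom_spec _ _ _ zcolOK_15360 k h hk

theorem zcol_ok_upto17408 : ∀ k < 17408, (Nat.beq (scan table zw k) (zCol.get 20 k) && Nat.blt (zCol.get 20 k) 31671) = true := fun k hk =>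
  (Nat.lt_or_ge k 16384).elim (zcol_ok_upto16384 k) fun h =>
    allFrom_spec _ _ _ zcolOK_16384 k h hk

theorem zcol_ok_upto18432 : ∀ k < 18432, (Nat.beq (scan table zw k) (zCol.get 20 k) && Nat.blt (zCol.get 20 k) 31671) = true := fun k hk =>
  (Nat.lt_or_ge k 17408).elim (zcol_ok_upto17408 k) fun h =>
    allFrom_spec _ _ _ zcolOK_17408 k h hk

theorem zcol_ok_upto19456 : ∀ k < 19456, (Nat.beq (scan table zw k) (zCol.get 20 k) && Nat.blt (zCol.get 20 k) 31671) = true := fun k hk =>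
  (Nat.lt_or_ge k 18432).elim (zcol_ok_upto18432 k) fun h =>
    allFrom_spec _ _ _ zcolOK_18432 k h hk

theorem zcol_ok_upto20480 : ∀ k < 20480, (Nat.beq (scan table zw k) (zCol.get 20 k) && Nat.blt (zCol.get 20 k) 31671) = true := fun k hk =>
  (Nat.lt_or_ge k 19456).elim (zcol_ok_upto19456 k) fun h =>
    allFrom_spec _ _ _ zcolOK_19456 k h hk

theorem zcol_ok_upto21504 : ∀ k < 21504, (Nat.beq (scan table zw k) (zCol.get 20 k) && Nat.blt (zCol.get 20 k) 31671) = true := fun k hk =>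
  (Nat.lt_or_ge k 20480).elim (zcol_ok_upto20480 k) fun h =>
    allFrom_spec _ _ _ zcolOK_20480 k h hk

theorem zcol_ok_upto22528 : ∀ k < 22528, (Nat.beq (scan table zw k) (zCol.get 20 k) && Nat.blt (zCol.get 20 k) 31671) = true := fun k hk =>
  (Nat.lt_or_ge k 21504).elim (zcol_ok_upto21504 k) fun h =>
    allFrom_spec _ _ _ zcolOK_21504 k h hk

theorem zcol_ok_upto23552 : ∀ k < 23552, (Nat.beq (scan table zw k) (zCol.get 20 k) && Nat.blt (zCol.get 20 k) 31671) = true := fun k hk =>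
  (Nat.lt_or_ge k 22528).elim (zcol_ok_upto22528 k) fun h =>
    allFrom_spec _ _ _ zcolOK_22528 k h hk

theorem zcol_ok_upto24576 : ∀ k < 24576, (Nat.beq (scan table zw k) (zCol.get 20 k) && Nat.blt (zCol.get 20 k) 31671) = true := fun k hk =>
  (Nat.lt_or_ge k 23552).elim (zcol_ok_upto23552 k) fun h =>
    allFrom_spec _ _ _ zcolOK_23552 k h hk

theorem zcol_ok_upto25600 : ∀ k < 25600, (Nat.beq (scan table zw k) (zCol.get 20 k) && Nat.blt (zCol.get 20 k) 31671) = true := fun k hk =>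
  (Nat.lt_or_ge k 24576).elim (zcol_ok_upto24576 k) fun h =>
    allFrom_spec _ _ _ zcolOK_24576 k h hk

theorem zcol_ok_upto26624 : ∀ k < 26624, (Nat.beq (scan table zw k) (zCol.get 20 k) && Nat.blt (zCol.get 20 k) 31671) = true := fun k hk =>
  (Nat.lt_or_ge k 25600).elim (zcol_ok_upto25600 k) fun h =>
    allFrom_spec _ _ _ zcolOK_25600 k h hk

theorem zcol_ok_upto27648 : ∀ k < 27648, (Nat.beq (scan table zw k) (zCol.get 20 k) && Nat.blt (zCol.get 20 k) 31671) = true := fun k hk =>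
  (Nat.lt_or_ge k 26624).elim (zcol_ok_upto26624 k) fun h =>
    allFrom_spec _ _ _ zcolOK_26624 k h hk

theorem zcol_ok_upto28672 : ∀ k < 28672, (Nat.beq (scan table zw k) (zCol.get 20 k) && Nat.blt (zCol.get 20 k) 31671) = true := fun k hk =>
  (Nat.lt_or_ge k 27648).elim (zcol_ok_upto27648 k) fun h =>
    allFrom_spec _ _ _ zcolOK_27648 k h hk

theorem zcol_ok_upto29696 : ∀ k < 29696, (Nat.beq (scan table zw k) (zCol.get 20 k) && Nat.blt (zCol.get 20 k) 31671) = true := fun k hk =>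
  (Nat.lt_or_ge k 28672).elim (zcol_ok_upto28672 k) fun h =>
    allFrom_spec _ _ _ zcolOK_28672 k h hk

theorem zcol_ok_upto30720 : ∀ k < 30720, (Nat.beq (scan table zw k) (zCol.get 20 k) && Nat.blt (zCol.get 20 k) 31671) = true := fun k hk =>
  (Nat.lt_or_ge k 29696).elim (zcol_ok_upto29696 k) fun h =>
    allFrom_spec _ _ _ zcolOK_29696 k h hk

theorem zcol_ok_upto31671 : ∀ k < 31671, (Nat.beq (scan table zw k) (zCol.get 20 k) && Nat.blt (zCol.get 20 k) 31671) = true := fun k hk =>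
  (Nat.lt_or_ge k 30720).elim (zcol_ok_upto30720 k) fun h =>
    allFrom_spec _ _ _ zcolOK_30720 k h hk

theorem zcol_ok : ∀ k < 31671, (Nat.beq (scan table zw k) (zCol.get 20 k) && Nat.blt (zCol.get 20 k) 31671) = true := zcol_ok_upto31671

theorem zcomm_ok_upto1024 : ∀ k < 1024, allFrom (fun j => Nat.beq (zCol.get 20 (act table (sel.getD j 15) k)) (act table (sel.getD j 15) (zCol.get 20 k))) 9 0 = true := fun k hk =>
  have h : 0 ≤ k := Nat.zero_le k
  allFrom_spec _ _ _ zcommOK_0 k h hk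

theorem zcomm_ok_upto2048 : ∀ k < 2048, allFrom (fun j => Nat.beq (zCol.get 20 (act table (sel.getD j 15) k)) (act table (sel.getD j 15) (zCol.get 20 k))) 9 0 = true := fun k hk =>
  (Nat.lt_or_ge k 1024).elim (zcomm_ok_upto1024 k) fun h =>
    allFrom_spec _ _ _ zcommOK_1024 k h hk

theorem zcomm_ok_upto3072 : ∀ k < 3072, allFrom (fun j => Nat.beq (zCol.get 20 (act table (sel.getD j 15) k)) (act table (sel.getD j 15) (zCol.get 20 k))) 9 0 = true := fun k hk =>
  (Nat.lt_or_ge k 2048).elim (zcomm_ok_upto2048 k) fun h =>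
    allFrom_spec _ _ _ zcommOK_2048 k h hk

theorem zcomm_ok_upto4096 : ∀ k < 4096, allFrom (fun j => Nat.beq (zCol.get 20 (act table (sel.getD j 15) k)) (act table (sel.getD j 15) (zCol.get 20 k))) 9 0 = true := fun k hk =>
  (Nat.lt_or_ge k 3072).elim (zcomm_ok_upto3072 k) fun h =>
    allFrom_spec _ _ _ zcommOK_3072 k h hk

theorem zcomm_ok_upto5120 : ∀ k < 5120, allFrom (fun j => Nat.beq (zCol.get 20 (act table (sel.getD j 15) k)) (act table (sel.getD j 15) (zCol.get 20 k))) 9 0 = true := fun k hk =>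
  (Nat.lt_or_ge k 4096).elim (zcomm_ok_upto4096 k) fun h =>
    allFrom_spec _ _ _ zcommOK_4096 k h hk

theorem zcomm_ok_upto6144 : ∀ k < 6144, allFrom (fun j => Nat.beq (zCol.get 20 (act table (sel.getD j 15) k)) (act table (sel.getD j 15) (zCol.get 20 k))) 9 0 = true := fun k hk =>
  (Nat.lt_or_ge k 5120).elim (zcomm_ok_upto5120 k) fun h =>
    allFrom_spec _ _ _ zcommOK_5120 k h hk

theorem zcomm_ok_upto7168 : ∀ k < 7168, allFrom (fun j => Nat.beq (zCol.get 20 (act table (sel.getD j 15) k)) (act table (sel.getD j 15) (zCol.get 20 k))) 9 0 = true := fun k hk =>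
  (Nat.lt_or_ge k 6144).elim (zcomm_ok_upto6144 k) fun h =>
    allFrom_spec _ _ _ zcommOK_6144 k h hk

theorem zcomm_ok_upto8192 : ∀ k < 8192, allFrom (fun j => Nat.beq (zCol.get 20 (act table (sel.getD j 15) k)) (act table (sel.getD j 15) (zCol.get 20 k))) 9 0 = true := fun k hk =>
  (Nat.lt_or_ge k 7168).elim (zcomm_ok_upto7168 k) fun h =>
    allFrom_spec _ _ _ zcommOK_7168 k h hk

theorem zcomm_ok_upto9216 : ∀ k < 9216, allFrom (fun j => Nat.beq (zCol.get 20 (act table (sel.getD j 15) k)) (act table (sel.getD j 15) (zCol.get 20 k))) 9 0 = true := fun k hk =>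
  (Nat.lt_or_ge k 8192).elim (zcomm_ok_upto8192 k) fun h =>
    allFrom_spec _ _ _ zcommOK_8192 k h hk

theorem zcomm_ok_upto10240 : ∀ k < 10240, allFrom (fun j => Nat.beq (zCol.get 20 (act table (sel.getD j 15) k)) (act table (sel.getD j 15) (zCol.get 20 k))) 9 0 = true := fun k hk =>
  (Nat.lt_or_ge k 9216).elim (zcomm_ok_upto9216 k) fun h =>
    allFrom_spec _ _ _ zcommOK_9216 k h hk

theorem zcomm_ok_upto11264 : ∀ k < 11264, allFrom (fun j => Nat.beq (zCol.get 20 (act table (sel.getD j 15) k)) (act table (sel.getD j 15) (zCol.get 20 k))) 9 0 = true := fun k hk =>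
  (Nat.lt_or_ge k 10240).elim (zcomm_ok_upto10240 k) fun h =>
    allFrom_spec _ _ _ zcommOK_10240 k h hk

theorem zcomm_ok_upto12288 : ∀ k < 12288, allFrom (fun j => Nat.beq (zCol.get 20 (act table (sel.getD j 15) k)) (act table (sel.getD j 15) (zCol.get 20 k))) 9 0 = true := fun k hk =>
  (Nat.lt_or_ge k 11264).elim (zcomm_ok_upto11264 k) fun h =>
    allFrom_spec _ _ _ zcommOK_11264 k h hk

theorem zcomm_ok_upto13312 : ∀ k < 13312, allFrom (fun j => Nat.beq (zCol.get 20 (act table (sel.getD j 15) k)) (act table (sel.getD j 15) (zCol.get 20 k))) 9 0 = true := fun k hk =>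
  (Nat.lt_or_ge k 12288).elim (zcomm_ok_upto12288 k) fun h =>
    allFrom_spec _ _ _ zcommOK_12288 k h hk

theorem zcomm_ok_upto14336 : ∀ k < 14336, allFrom (fun j => Nat.beq (zCol.get 20 (act table (sel.getD j 15) k)) (act table (sel.getD j 15) (zCol.get 20 k))) 9 0 = true := fun k hk =>
  (Nat.lt_or_ge k 13312).elim (zcomm_ok_upto13312 k) fun h =>
    allFrom_spec _ _ _ zcommOK_13312 k h hk

theorem zcomm_ok_upto15360 : ∀ k < 15360, allFrom (fun j => Nat.beq (zCol.get 20 (act table (sel.getD j 15) k)) (act table (sel.getD j 15) (zCol.get 20 k))) 9 0 = true := fun k hk =>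
  (Nat.lt_or_ge k 14336).elim (zcomm_ok_upto14336 k) fun h =>
    allFrom_spec _ _ _ zcommOK_14336 k h hk

theorem zcomm_ok_upto16384 : ∀ k < 16384, allFrom (fun j => Nat.beq (zCol.get 20 (act table (sel.getD j 15) k)) (act table (sel.getD j 15) (zCol.get 20 k))) 9 0 = true := fun k hk =>
  (Nat.lt_or_ge k 15360).elim (zcomm_ok_upto15360 k) fun h =>
    allFrom_spec _ _ _ zcommOK_15360 k h hk

theorem zcomm_ok_upto17408 : ∀ k < 17408, allFrom (fun j => Nat.beq (zCol.get 20 (act table (sel.getD j 15) k)) (act table (sel.getD j 15) (zCol.get 20 k))) 9 0 = true := fun k hk =>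
  (Nat.lt_or_ge k 16384).elim (zcomm_ok_upto16384 k) fun h =>
    allFrom_spec _ _ _ zcommOK_16384 k h hk

theorem zcomm_ok_upto18432 : ∀ k < 18432, allFrom (fun j => Nat.beq (zCol.get 20 (act table (sel.getD j 15) k)) (act table (sel.getD j 15) (zCol.get 20 k))) 9 0 = true := fun k hk =>
  (Nat.lt_or_ge k 17408).elim (zcomm_ok_upto17408 k) fun h =>
    allFrom_spec _ _ _ zcommOK_17408 k h hk

theorem zcomm_ok_upto19456 : ∀ k < 19456, allFrom (fun j => Nat.beq (zCol.get 20 (act table (sel.getD j 15) k)) (act table (sel.getD j 15) (zCol.get 20 k))) 9 0 = true := fun k hk =>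
  (Nat.lt_or_ge k 18432).elim (zcomm_ok_upto18432 k) fun h =>
    allFrom_spec _ _ _ zcommOK_18432 k h hk

theorem zcomm_ok_upto20480 : ∀ k < 20480, allFrom (fun j => Nat.beq (zCol.get 20 (act table (sel.getD j 15) k)) (act table (sel.getD j 15) (zCol.get 20 k))) 9 0 = true := fun k hk =>
  (Nat.lt_or_ge k 19456).elim (zcomm_ok_upto19456 k) fun h =>
    allFrom_spec _ _ _ zcommOK_19456 k h hk

theorem zcomm_ok_upto21504 : ∀ k < 21504, allFrom (fun j => Nat.beq (zCol.get 20 (act table (sel.getD j 15) k)) (act table (sel.getD j 15) (zCol.get 20 k))) 9 0 = true := fun k hk =>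
  (Nat.lt_or_ge k 20480).elim (zcomm_ok_upto20480 k) fun h =>
    allFrom_spec _ _ _ zcommOK_20480 k h hk

theorem zcomm_ok_upto22528 : ∀ k < 22528, allFrom (fun j => Nat.beq (zCol.get 20 (act table (sel.getD j 15) k)) (act table (sel.getD j 15) (zCol.get 20 k))) 9 0 = true := fun k hk =>
  (Nat.lt_or_ge k 21504).elim (zcomm_ok_upto21504 k) fun h =>
    allFrom_spec _ _ _ zcommOK_21504 k h hk

theorem zcomm_ok_upto23552 : ∀ k < 23552, allFrom (fun j => Nat.beq (zCol.get 20 (act table (sel.getD j 15) k)) (act table (sel.getD j 15) (zCol.get 20 k))) 9 0 = true := fun k hk =>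
  (Nat.lt_or_ge k 22528).elim (zcomm_ok_upto22528 k) fun h =>
    allFrom_spec _ _ _ zcommOK_22528 k h hk

theorem zcomm_ok_upto24576 : ∀ k < 24576, allFrom (fun j => Nat.beq (zCol.get 20 (act table (sel.getD j 15) k)) (act table (sel.getD j 15) (zCol.get 20 k))) 9 0 = true := fun k hk =>
  (Nat.lt_or_ge k 23552).elim (zcomm_ok_upto23552 k) fun h =>
    allFrom_spec _ _ _ zcommOK_23552 k h hk

theorem zcomm_ok_upto25600 : ∀ k < 25600, allFrom (fun j => Nat.beq (zCol.get 20 (act table (sel.getD j 15) k)) (act table (sel.getD j 15) (zCol.get 20 k))) 9 0 = true := fun k hk =>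
  (Nat.lt_or_ge k 24576).elim (zcomm_ok_upto24576 k) fun h =>
    allFrom_spec _ _ _ zcommOK_24576 k h hk

theorem zcomm_ok_upto26624 : ∀ k < 26624, allFrom (fun j => Nat.beq (zCol.get 20 (act table (sel.getD j 15) k)) (act table (sel.getD j 15) (zCol.get 20 k))) 9 0 = true := fun k hk =>
  (Nat.lt_or_ge k 25600).elim (zcomm_ok_upto25600 k) fun h =>
    allFrom_spec _ _ _ zcommOK_25600 k h hk

theorem zcomm_ok_upto27648 : ∀ k < 27648, allFrom (fun j => Nat.beq (zCol.get 20 (act table (sel.getD j 15) k)) (act table (sel.getD j 15) (zCol.get 20 k))) 9 0 = true := fun k hk =>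
  (Nat.lt_or_ge k 26624).elim (zcomm_ok_upto26624 k) fun h =>
    allFrom_spec _ _ _ zcommOK_26624 k h hk

theorem zcomm_ok_upto28672 : ∀ k < 28672, allFrom (fun j => Nat.beq (zCol.get 20 (act table (sel.getD j 15) k)) (act table (sel.getD j 15) (zCol.get 20 k))) 9 0 = true := fun k hk =>
  (Nat.lt_or_ge k 27648).elim (zcomm_ok_upto27648 k) fun h =>
    allFrom_spec _ _ _ zcommOK_27648 k h hk

theorem zcomm_ok_upto29696 : ∀ k < 29696, allFrom (fun j => Nat.beq (zCol.get 20 (act table (sel.getD j 15) k)) (act table (sel.getD j 15) (zCol.get 20 k))) 9 0 = true := fun k hk =>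
  (Nat.lt_or_ge k 28672).elim (zcomm_ok_upto28672 k) fun h =>
    allFrom_spec _ _ _ zcommOK_28672 k h hk

theorem zcomm_ok_upto30720 : ∀ k < 30720, allFrom (fun j => Nat.beq (zCol.get 20 (act table (sel.getD j 15) k)) (act table (sel.getD j 15) (zCol.get 20 k))) 9 0 = true := fun k hk =>
  (Nat.lt_or_ge k 29696).elim (zcomm_ok_upto29696 k) fun h =>
    allFrom_spec _ _ _ zcommOK_29696 k h hk

theorem zcomm_ok_upto31671 : ∀ k < 31671, allFrom (fun j => Nat.beq (zCol.get 20 (act table (sel.getD j 15) k)) (act table (sel.getD j 15) (zCol.get 20 k))) 9 0 = true := fun k hk =>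
  (Nat.lt_or_ge k 30720).elim (zcomm_ok_upto30720 k) fun h =>
    allFrom_spec _ _ _ zcommOK_30720 k h hk

theorem zcomm_ok : ∀ k < 31671, allFrom (fun j => Nat.beq (zCol.get 20 (act table (sel.getD j 15) k)) (act table (sel.getD j 15) (zCol.get 20 k))) 9 0 = true := zcomm_ok_upto31671

theorem pair1_ok_upto1024 : ∀ k < 1024, pairStep t1 3 k = true := fun k hk =>
  have h : 0 ≤ k := Nat.zero_le k
  allFrom_spec _ _ _ pair1OK_0 k h hk

theorem pair1_ok_upto2048 : ∀ k < 2048, pairStep t1 3 k = true := fun k hk =>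
  (Nat.lt_or_ge k 1024).elim (pair1_ok_upto1024 k) fun h =>
    allFrom_spec _ _ _ pair1OK_1024 k h hk

theorem pair1_ok_upto3072 : ∀ k < 3072, pairStep t1 3 k = true := fun k hk =>
  (Nat.lt_or_ge k 2048).elim (pair1_ok_upto2048 k) fun h =>
    allFrom_spec _ _ _ pair1OK_2048 k h hk

theorem pair1_ok_upto4096 : ∀ k < 4096, pairStep t1 3 k = true := fun k hk =>
  (Nat.lt_or_ge k 3072).elim (pair1_ok_upto3072 k) fun h =>
    allFrom_spec _ _ _ pair1OK_3072 k h hk

theorem pair1_ok_upto5120 : ∀ k < 5120, pairStep t1 3 k = true := fun k hk =>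
  (Nat.lt_or_ge k 4096).elim (pair1_ok_upto4096 k) fun h =>
    allFrom_spec _ _ _ pair1OK_4096 k h hk

theorem pair1_ok_upto6144 : ∀ k < 6144, pairStep t1 3 k = true := fun k hk =>
  (Nat.lt_or_ge k 5120).elim (pair1_ok_upto5120 k) fun h =>
    allFrom_spec _ _ _ pair1OK_5120 k h hk

theorem pair1_ok_upto7168 : ∀ k < 7168, pairStep t1 3 k = true := fun k hk =>
  (Nat.lt_or_ge k 6144).elim (pair1_ok_upto6144 k) fun h =>
    allFrom_spec _ _ _ pair1OK_6144 k h hk

theorem pair1_ok_upto8192 : ∀ k < 8192, pairStep t1 3 k = true := fun k hk =>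
  (Nat.lt_or_ge k 7168).elim (pair1_ok_upto7168 k) fun h =>
    allFrom_spec _ _ _ pair1OK_7168 k h hk

theorem pair1_ok_upto9216 : ∀ k < 9216, pairStep t1 3 k = true := fun k hk =>
  (Nat.lt_or_ge k 8192).elim (pair1_ok_upto8192 k) fun h =>
    allFrom_spec _ _ _ pair1OK_8192 k h hk

theorem pair1_ok_upto10240 : ∀ k < 10240, pairStep t1 3 k = true := fun k hk =>
  (Nat.lt_or_ge k 9216).elim (pair1_ok_upto9216 k) fun h =>
    allFrom_spec _ _ _ pair1OK_9216 k h hk

theorem pair1_ok_upto11264 : ∀ k < 11264, pairStep t1 3 k = true := fun k hk =>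
  (Nat.lt_or_ge k 10240).elim (pair1_ok_upto10240 k) fun h =>
    allFrom_spec _ _ _ pair1OK_10240 k h hk

theorem pair1_ok_upto12288 : ∀ k < 12288, pairStep t1 3 k = true := fun k hk =>
  (Nat.lt_or_ge k 11264).elim (pair1_ok_upto11264 k) fun h =>
    allFrom_spec _ _ _ pair1OK_11264 k h hk

theorem pair1_ok_upto13312 : ∀ k < 13312, pairStep t1 3 k = true := fun k hk =>
  (Nat.lt_or_ge k 12288).elim (pair1_ok_upto12288 k) fun h =>
    allFrom_spec _ _ _ pair1OK_12288 k h hk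

theorem pair1_ok_upto14336 : ∀ k < 14336, pairStep t1 3 k = true := fun k hk =>
  (Nat.lt_or_ge k 13312).elim (pair1_ok_upto13312 k) fun h =>
    allFrom_spec _ _ _ pair1OK_13312 k h hk

theorem pair1_ok_upto15360 : ∀ k < 15360, pairStep t1 3 k = true := fun k hk =>
  (Nat.lt_or_ge k 14336).elim (pair1_ok_upto14336 k) fun h =>
    allFrom_spec _ _ _ pair1OK_14336 k h hk

theorem pair1_ok_upto16384 : ∀ k < 16384, pairStep t1 3 k = true := fun k hk =>
  (Nat.lt_or_ge k 15360).elim (pair1_ok_upto15360 k) fun h =>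
    allFrom_spec _ _ _ pair1OK_15360 k h hk

theorem pair1_ok_upto17408 : ∀ k < 17408, pairStep t1 3 k = true := fun k hk =>
  (Nat.lt_or_ge k 16384).elim (pair1_ok_upto16384 k) fun h =>
    allFrom_spec _ _ _ pair1OK_16384 k h hk

theorem pair1_ok_upto18432 : ∀ k < 18432, pairStep t1 3 k = true := fun k hk =>
  (Nat.lt_or_ge k 17408).elim (pair1_ok_upto17408 k) fun h =>
    allFrom_spec _ _ _ pair1OK_17408 k h hk

theorem pair1_ok_upto19456 : ∀ k < 19456, pairStep t1 3 k = true := fun k hk =>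
  (Nat.lt_or_ge k 18432).elim (pair1_ok_upto18432 k) fun h =>
    allFrom_spec _ _ _ pair1OK_18432 k h hk

theorem pair1_ok_upto20480 : ∀ k < 20480, pairStep t1 3 k = true := fun k hk =>
  (Nat.lt_or_ge k 19456).elim (pair1_ok_upto19456 k) fun h =>
    allFrom_spec _ _ _ pair1OK_19456 k h hk

theorem pair1_ok_upto21504 : ∀ k < 21504, pairStep t1 3 k = true := fun k hk =>
  (Nat.lt_or_ge k 20480).elim (pair1_ok_upto20480 k) fun h =>
    allFrom_spec _ _ _ pair1OK_20480 k h hk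

theorem pair1_ok_upto22528 : ∀ k < 22528, pairStep t1 3 k = true := fun k hk =>
  (Nat.lt_or_ge k 21504).elim (pair1_ok_upto21504 k) fun h =>
    allFrom_spec _ _ _ pair1OK_21504 k h hk

theorem pair1_ok_upto23552 : ∀ k < 23552, pairStep t1 3 k = true := fun k hk =>
  (Nat.lt_or_ge k 22528).elim (pair1_ok_upto22528 k) fun h =>
    allFrom_spec _ _ _ pair1OK_22528 k h hk

theorem pair1_ok_upto24576 : ∀ k < 24576, pairStep t1 3 k = true := fun k hk =>
  (Nat.lt_or_ge k 23552).elim (pair1_ok_upto23552 k) fun h =>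
    allFrom_spec _ _ _ pair1OK_23552 k h hk

theorem pair1_ok_upto25600 : ∀ k < 25600, pairStep t1 3 k = true := fun k hk =>
  (Nat.lt_or_ge k 24576).elim (pair1_ok_upto24576 k) fun h =>
    allFrom_spec _ _ _ pair1OK_24576 k h hk

theorem pair1_ok_upto26624 : ∀ k < 26624, pairStep t1 3 k = true := fun k hk =>
  (Nat.lt_or_ge k 25600).elim (pair1_ok_upto25600 k) fun h =>
    allFrom_spec _ _ _ pair1OK_25600 k h hk

theorem pair1_ok_upto27648 : ∀ k < 27648, pairStep t1 3 k = true := fun k hk =>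
  (Nat.lt_or_ge k 26624).elim (pair1_ok_upto26624 k) fun h =>
    allFrom_spec _ _ _ pair1OK_26624 k h hk

theorem pair1_ok_upto28672 : ∀ k < 28672, pairStep t1 3 k = true := fun k hk =>
  (Nat.lt_or_ge k 27648).elim (pair1_ok_upto27648 k) fun h =>
    allFrom_spec _ _ _ pair1OK_27648 k h hk

theorem pair1_ok_upto29696 : ∀ k < 29696, pairStep t1 3 k = true := fun k hk =>
  (Nat.lt_or_ge k 28672).elim (pair1_ok_upto28672 k) fun h =>
    allFrom_spec _ _ _ pair1OK_28672 k h hk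

theorem pair1_ok_upto30720 : ∀ k < 30720, pairStep t1 3 k = true := fun k hk =>
  (Nat.lt_or_ge k 29696).elim (pair1_ok_upto29696 k) fun h =>
    allFrom_spec _ _ _ pair1OK_29696 k h hk

theorem pair1_ok_upto31671 : ∀ k < 31671, pairStep t1 3 k = true := fun k hk =>
  (Nat.lt_or_ge k 30720).elim (pair1_ok_upto30720 k) fun h =>
    allFrom_spec _ _ _ pair1OK_30720 k h hk

theorem pair1_ok : ∀ k < 31671, pairStep t1 3 k = true := pair1_ok_upto31671

theorem t1_moves : Nat.beq (scan table t1.reverse 0) 1 = true := by decide +kernel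

theorem pair2_ok_upto1024 : ∀ k < 1024, pairStep t2 2 k = true := fun k hk =>
  have h : 0 ≤ k := Nat.zero_le k
  allFrom_spec _ _ _ pair2OK_0 k h hk

theorem pair2_ok_upto2048 : ∀ k < 2048, pairStep t2 2 k = true := fun k hk =>
  (Nat.lt_or_ge k 1024).elim (pair2_ok_upto1024 k) fun h =>
    allFrom_spec _ _ _ pair2OK_1024 k h hk

theorem pair2_ok_upto3072 : ∀ k < 3072, pairStep t2 2 k = true := fun k hk =>
  (Nat.lt_or_ge k 2048).elim (pair2_ok_upto2048 k) fun h =>
    allFrom_spec _ _ _ pair2OK_2048 k h hk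

theorem pair2_ok_upto4096 : ∀ k < 4096, pairStep t2 2 k = true := fun k hk =>
  (Nat.lt_or_ge k 3072).elim (pair2_ok_upto3072 k) fun h =>
    allFrom_spec _ _ _ pair2OK_3072 k h hk

theorem pair2_ok_upto5120 : ∀ k < 5120, pairStep t2 2 k = true := fun k hk =>
  (Nat.lt_or_ge k 4096).elim (pair2_ok_upto4096 k) fun h =>
    allFrom_spec _ _ _ pair2OK_4096 k h hk

theorem pair2_ok_upto6144 : ∀ k < 6144, pairStep t2 2 k = true := fun k hk =>
  (Nat.lt_or_ge k 5120).elim (pair2_ok_upto5120 k) fun h =>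
    allFrom_spec _ _ _ pair2OK_5120 k h hk

theorem pair2_ok_upto7168 : ∀ k < 7168, pairStep t2 2 k = true := fun k hk =>
  (Nat.lt_or_ge k 6144).elim (pair2_ok_upto6144 k) fun h =>
    allFrom_spec _ _ _ pair2OK_6144 k h hk

theorem pair2_ok_upto8192 : ∀ k < 8192, pairStep t2 2 k = true := fun k hk =>
  (Nat.lt_or_ge k 7168).elim (pair2_ok_upto7168 k) fun h =>
    allFrom_spec _ _ _ pair2OK_7168 k h hk

theorem pair2_ok_upto9216 : ∀ k < 9216, pairStep t2 2 k = true := fun k hk =>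
  (Nat.lt_or_ge k 8192).elim (pair2_ok_upto8192 k) fun h =>
    allFrom_spec _ _ _ pair2OK_8192 k h hk

theorem pair2_ok_upto10240 : ∀ k < 10240, pairStep t2 2 k = true := fun k hk =>
  (Nat.lt_or_ge k 9216).elim (pair2_ok_upto9216 k) fun h =>
    allFrom_spec _ _ _ pair2OK_9216 k h hk

theorem pair2_ok_upto11264 : ∀ k < 11264, pairStep t2 2 k = true := fun k hk =>
  (Nat.lt_or_ge k 10240).elim (pair2_ok_upto10240 k) fun h =>
    allFrom_spec _ _ _ pair2OK_10240 k h hk

theorem pair2_ok_upto12288 : ∀ k < 12288, pairStep t2 2 k = true := fun k hk =>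
  (Nat.lt_or_ge k 11264).elim (pair2_ok_upto11264 k) fun h =>
    allFrom_spec _ _ _ pair2OK_11264 k h hk

theorem pair2_ok_upto13312 : ∀ k < 13312, pairStep t2 2 k = true := fun k hk =>
  (Nat.lt_or_ge k 12288).elim (pair2_ok_upto12288 k) fun h =>
    allFrom_spec _ _ _ pair2OK_12288 k h hk

theorem pair2_ok_upto14336 : ∀ k < 14336, pairStep t2 2 k = true := fun k hk =>
  (Nat.lt_or_ge k 13312).elim (pair2_ok_upto13312 k) fun h =>
    allFrom_spec _ _ _ pair2OK_13312 k h hk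

theorem pair2_ok_upto15360 : ∀ k < 15360, pairStep t2 2 k = true := fun k hk =>
  (Nat.lt_or_ge k 14336).elim (pair2_ok_upto14336 k) fun h =>
    allFrom_spec _ _ _ pair2OK_14336 k h hk

theorem pair2_ok_upto16384 : ∀ k < 16384, pairStep t2 2 k = true := fun k hk =>
  (Nat.lt_or_ge k 15360).elim (pair2_ok_upto15360 k) fun h =>
    allFrom_spec _ _ _ pair2OK_15360 k h hk

theorem pair2_ok_upto17408 : ∀ k < 17408, pairStep t2 2 k = true := fun k hk =>
  (Nat.lt_or_ge k 16384).elim (pair2_ok_upto16384 k) fun h =>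
    allFrom_spec _ _ _ pair2OK_16384 k h hk

theorem pair2_ok_upto18432 : ∀ k < 18432, pairStep t2 2 k = true := fun k hk =>
  (Nat.lt_or_ge k 17408).elim (pair2_ok_upto17408 k) fun h =>
    allFrom_spec _ _ _ pair2OK_17408 k h hk

theorem pair2_ok_upto19456 : ∀ k < 19456, pairStep t2 2 k = true := fun k hk =>
  (Nat.lt_or_ge k 18432).elim (pair2_ok_upto18432 k) fun h =>
    allFrom_spec _ _ _ pair2OK_18432 k h hk

theorem pair2_ok_upto20480 : ∀ k < 20480, pairStep t2 2 k = true := fun k hk =>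
  (Nat.lt_or_ge k 19456).elim (pair2_ok_upto19456 k) fun h =>
    allFrom_spec _ _ _ pair2OK_19456 k h hk

theorem pair2_ok_upto21504 : ∀ k < 21504, pairStep t2 2 k = true := fun k hk =>
  (Nat.lt_or_ge k 20480).elim (pair2_ok_upto20480 k) fun h =>
    allFrom_spec _ _ _ pair2OK_20480 k h hk

theorem pair2_ok_upto22528 : ∀ k < 22528, pairStep t2 2 k = true := fun k hk =>
  (Nat.lt_or_ge k 21504).elim (pair2_ok_upto21504 k) fun h =>
    allFrom_spec _ _ _ pair2OK_21504 k h hk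

theorem pair2_ok_upto23552 : ∀ k < 23552, pairStep t2 2 k = true := fun k hk =>
  (Nat.lt_or_ge k 22528).elim (pair2_ok_upto22528 k) fun h =>
    allFrom_spec _ _ _ pair2OK_22528 k h hk

theorem pair2_ok_upto24576 : ∀ k < 24576, pairStep t2 2 k = true := fun k hk =>
  (Nat.lt_or_ge k 23552).elim (pair2_ok_upto23552 k) fun h =>
    allFrom_spec _ _ _ pair2OK_23552 k h hk

theorem pair2_ok_upto25600 : ∀ k < 25600, pairStep t2 2 k = true := fun k hk =>
  (Nat.lt_or_ge k 24576).elim (pair2_ok_upto24576 k) fun h =>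
    allFrom_spec _ _ _ pair2OK_24576 k h hk

theorem pair2_ok_upto26624 : ∀ k < 26624, pairStep t2 2 k = true := fun k hk =>
  (Nat.lt_or_ge k 25600).elim (pair2_ok_upto25600 k) fun h =>
    allFrom_spec _ _ _ pair2OK_25600 k h hk

theorem pair2_ok_upto27648 : ∀ k < 27648, pairStep t2 2 k = true := fun k hk =>
  (Nat.lt_or_ge k 26624).elim (pair2_ok_upto26624 k) fun h =>
    allFrom_spec _ _ _ pair2OK_26624 k h hk

theorem pair2_ok_upto28672 : ∀ k < 28672, pairStep t2 2 k = true := fun k hk =>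
  (Nat.lt_or_ge k 27648).elim (pair2_ok_upto27648 k) fun h =>
    allFrom_spec _ _ _ pair2OK_27648 k h hk

theorem pair2_ok_upto29696 : ∀ k < 29696, pairStep t2 2 k = true := fun k hk =>
  (Nat.lt_or_ge k 28672).elim (pair2_ok_upto28672 k) fun h =>
    allFrom_spec _ _ _ pair2OK_28672 k h hk

theorem pair2_ok_upto30720 : ∀ k < 30720, pairStep t2 2 k = true := fun k hk =>
  (Nat.lt_or_ge k 29696).elim (pair2_ok_upto29696 k) fun h =>
    allFrom_spec _ _ _ pair2OK_29696 k h hk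

theorem pair2_ok_upto31671 : ∀ k < 31671, pairStep t2 2 k = true := fun k hk =>
  (Nat.lt_or_ge k 30720).elim (pair2_ok_upto30720 k) fun h =>
    allFrom_spec _ _ _ pair2OK_30720 k h hk

theorem pair2_ok : ∀ k < 31671, pairStep t2 2 k = true := pair2_ok_upto31671

theorem t2_moves : Nat.beq (scan table t2.reverse 0) 52 = true := by decide +kernel

theorem lab_lt_upto2048 : ∀ k < 2048, Nat.blt (lab.get 20 k) 3 = true := fun k hk =>
  have h : 0 ≤ k := Nat.zero_le k
  allFrom_spec _ _ _ labLt_0 k h hk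

theorem lab_lt_upto4096 : ∀ k < 4096, Nat.blt (lab.get 20 k) 3 = true := fun k hk =>
  (Nat.lt_or_ge k 2048).elim (lab_lt_upto2048 k) fun h =>
    allFrom_spec _ _ _ labLt_2048 k h hk

theorem lab_lt_upto6144 : ∀ k < 6144, Nat.blt (lab.get 20 k) 3 = true := fun k hk =>
  (Nat.lt_or_ge k 4096).elim (lab_lt_upto4096 k) fun h =>
    allFrom_spec _ _ _ labLt_4096 k h hk

theorem lab_lt_upto8192 : ∀ k < 8192, Nat.blt (lab.get 20 k) 3 = true := fun k hk =>
  (Nat.lt_or_ge k 6144).elim (lab_lt_upto6144 k) fun h =>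
    allFrom_spec _ _ _ labLt_6144 k h hk

theorem lab_lt_upto10240 : ∀ k < 10240, Nat.blt (lab.get 20 k) 3 = true := fun k hk =>
  (Nat.lt_or_ge k 8192).elim (lab_lt_upto8192 k) fun h =>
    allFrom_spec _ _ _ labLt_8192 k h hk

theorem lab_lt_upto12288 : ∀ k < 12288, Nat.blt (lab.get 20 k) 3 = true := fun k hk =>
  (Nat.lt_or_ge k 10240).elim (lab_lt_upto10240 k) fun h =>
    allFrom_spec _ _ _ labLt_10240 k h hk

theorem lab_lt_upto14336 : ∀ k < 14336, Nat.blt (lab.get 20 k) 3 = true := fun k hk =>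
  (Nat.lt_or_ge k 12288).elim (lab_lt_upto12288 k) fun h =>
    allFrom_spec _ _ _ labLt_12288 k h hk

theorem lab_lt_upto16384 : ∀ k < 16384, Nat.blt (lab.get 20 k) 3 = true := fun k hk =>
  (Nat.lt_or_ge k 14336).elim (lab_lt_upto14336 k) fun h =>
    allFrom_spec _ _ _ labLt_14336 k h hk

theorem lab_lt_upto18432 : ∀ k < 18432, Nat.blt (lab.get 20 k) 3 = true := fun k hk =>
  (Nat.lt_or_ge k 16384).elim (lab_lt_upto16384 k) fun h =>
    allFrom_spec _ _ _ labLt_16384 k h hk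

theorem lab_lt_upto20480 : ∀ k < 20480, Nat.blt (lab.get 20 k) 3 = true := fun k hk =>
  (Nat.lt_or_ge k 18432).elim (lab_lt_upto18432 k) fun h =>
    allFrom_spec _ _ _ labLt_18432 k h hk

theorem lab_lt_upto22528 : ∀ k < 22528, Nat.blt (lab.get 20 k) 3 = true := fun k hk =>
  (Nat.lt_or_ge k 20480).elim (lab_lt_upto20480 k) fun h =>
    allFrom_spec _ _ _ labLt_20480 k h hk

theorem lab_lt_upto24576 : ∀ k < 24576, Nat.blt (lab.get 20 k) 3 = true := fun k hk =>
  (Nat.lt_or_ge k 22528).elim (lab_lt_upto22528 k) fun h =>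
    allFrom_spec _ _ _ labLt_22528 k h hk

theorem lab_lt_upto26624 : ∀ k < 26624, Nat.blt (lab.get 20 k) 3 = true := fun k hk =>
  (Nat.lt_or_ge k 24576).elim (lab_lt_upto24576 k) fun h =>
    allFrom_spec _ _ _ labLt_24576 k h hk

theorem lab_lt_upto28672 : ∀ k < 28672, Nat.blt (lab.get 20 k) 3 = true := fun k hk =>
  (Nat.lt_or_ge k 26624).elim (lab_lt_upto26624 k) fun h =>
    allFrom_spec _ _ _ labLt_26624 k h hk

theorem lab_lt_upto30720 : ∀ k < 30720, Nat.blt (lab.get 20 k) 3 = true := fun k hk =>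
  (Nat.lt_or_ge k 28672).elim (lab_lt_upto28672 k) fun h =>
    allFrom_spec _ _ _ labLt_28672 k h hk

theorem lab_lt_upto31671 : ∀ k < 31671, Nat.blt (lab.get 20 k) 3 = true := fun k hk =>
  (Nat.lt_or_ge k 30720).elim (lab_lt_upto30720 k) fun h =>
    allFrom_spec _ _ _ labLt_30720 k h hk

theorem lab_lt : ∀ k < 31671, Nat.blt (lab.get 20 k) 3 = true := lab_lt_upto31671

end CfsgLib.CosetEnum.Fi23
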