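import Cfsg.Agent.Lib.CosetEnum.Fi23.OrbitsD

set_option autoImplicit false

set_option linter.all false

namespace CfsgLib.CosetEnum.Fi23

open CfsgLib.CosetEnum

theorem orbitOK_0 : allFrom (fun k => orbitRowOK subTable lab orbPar root 31671 k) 1024 0 = true := by decide +kernel

theorem orbitOK_1024 : allFrom (fun k => orbitRowOK subTable lab orbPar root 31671 k) 1024 1024 = true := by decide +kernel

theorem orbitOK_2048 : allFrom (fun k => orbitRowOK subTable lab orbPar root 31671 k) 1024 2048 = true := by decide +kernel

theorem orbitOK_3072 : allFrom (fun k => orbitRowOK subTable lab orbPar root 31671 k) 1024 3072 = true := by decide +kernel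

theorem orbitOK_4096 : allFrom (fun k => orbitRowOK subTable lab orbPar root 31671 k) 1024 4096 = true := by decide +kernel

theorem orbitOK_5120 : allFrom (fun k => orbitRowOK subTable lab orbPar root 31671 k) 1024 5120 = true := by decide +kernel

theorem orbitOK_6144 : allFrom (fun k => orbitRowOK subTable lab orbPar root 31671 k) 1024 6144 = true := by decide +kernel

theorem orbitOK_7168 : allFrom (fun k => orbitRowOK subTable lab orbPar root 31671 k) 1024 7168 = true := by decide +kernel

theorem orbitOK_8192 : allFrom (fun k => orbitRowOK subTable lab orbPar root 31671 k) 1024 8192 = true := by decide +kernel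

theorem orbitOK_9216 : allFrom (fun k => orbitRowOK subTable lab orbPar root 31671 k) 1024 9216 = true := by decide +kernel

end CfsgLib.CosetEnum.Fi23
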