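import Cfsg.Agent.Lib.CosetEnum.Fi23.OrbitsD

set_option autoImplicit false

set_option linter.all false

namespace CfsgLib.CosetEnum.Fi23

open CfsgLib.CosetEnum

theorem orbitOK_21504 : allFrom (fun k => orbitRowOK subTable lab orbPar root 31671 k) 1024 21504 = true := by decide +kernel

theorem orbitOK_22528 : allFrom (fun k => orbitRowOK subTable lab orbPar root 31671 k) 1024 22528 = true := by decide +kernel

theorem orbitOK_23552 : allFrom (fun k => orbitRowOK subTable lab orbPar root 31671 k) 1024 23552 = true := by decide +kernel

theorem orbitOK_24576 : allFrom (fun k => orbitRowOK subTable lab orbPar root 31671 k) 1024 24576 = true := by decide +kernel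

theorem orbitOK_25600 : allFrom (fun k => orbitRowOK subTable lab orbPar root 31671 k) 1024 25600 = true := by decide +kernel

theorem orbitOK_26624 : allFrom (fun k => orbitRowOK subTable lab orbPar root 31671 k) 1024 26624 = true := by decide +kernel

theorem orbitOK_27648 : allFrom (fun k => orbitRowOK subTable lab orbPar root 31671 k) 1024 27648 = true := by decide +kernel

theorem orbitOK_28672 : allFrom (fun k => orbitRowOK subTable lab orbPar root 31671 k) 1024 28672 = true := by decide +kernel

theorem orbitOK_29696 : allFrom (fun k => orbitRowOK subTable lab orbPar root 31671 k) 1024 29696 = true := by decide +kernel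

theorem orbitOK_30720 : allFrom (fun k => orbitRowOK subTable lab orbPar root 31671 k) 951 30720 = true := by decide +kernel

end CfsgLib.CosetEnum.Fi23
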