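import Cfsg.Agent.Lib.CosetEnum.Fi23.Exact
import Cfsg.Agent.Lib.CosetEnum.Fi23.OrbitsQ0
import Cfsg.Agent.Lib.CosetEnum.Fi23.OrbitsQ1
import Cfsg.Agent.Lib.CosetEnum.Fi23.OrbitsQ2

set_option autoImplicit false

set_option linter.all false

namespace CfsgLib.CosetEnum.Fi23

open CfsgLib.CosetEnum

theorem orbit_ok_upto1024 : ∀ k < 1024, orbitRowOK subTable lab orbPar root 31671 k = true := fun k hk =>
  have h : 0 ≤ k := Nat.zero_le k
  allFrom_spec _ _ _ orbitOK_0 k h hk

theorem orbit_ok_upto2048 : ∀ k < 2048, orbitRowOK subTable lab orbPar root 31671 k = true := fun k hk =>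
  (Nat.lt_or_ge k 1024).elim (orbit_ok_upto1024 k) fun h =>
    allFrom_spec _ _ _ orbitOK_1024 k h hk

theorem orbit_ok_upto3072 : ∀ k < 3072, orbitRowOK subTable lab orbPar root 31671 k = true := fun k hk =>
  (Nat.lt_or_ge k 2048).elim (orbit_ok_upto2048 k) fun h =>
    allFrom_spec _ _ _ orbitOK_2048 k h hk

theorem orbit_ok_upto4096 : ∀ k < 4096, orbitRowOK subTable lab orbPar root 31671 k = true := fun k hk =>
  (Nat.lt_or_ge k 3072).elim (orbit_ok_upto3072 k) fun h =>
    allFrom_spec _ _ _ orbitOK_3072 k h hk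

theorem orbit_ok_upto5120 : ∀ k < 5120, orbitRowOK subTable lab orbPar root 31671 k = true := fun k hk =>
  (Nat.lt_or_ge k 4096).elim (orbit_ok_upto4096 k) fun h =>
    allFrom_spec _ _ _ orbitOK_4096 k h hk

theorem orbit_ok_upto6144 : ∀ k < 6144, orbitRowOK subTable lab orbPar root 31671 k = true := fun k hk =>
  (Nat.lt_or_ge k 5120).elim (orbit_ok_upto5120 k) fun h =>
    allFrom_spec _ _ _ orbitOK_5120 k h hk

theorem orbit_ok_upto7168 : ∀ k < 7168, orbitRowOK subTable lab orbPar root 31671 k = true := fun k hk =>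
  (Nat.lt_or_ge k 6144).elim (orbit_ok_upto6144 k) fun h =>
    allFrom_spec _ _ _ orbitOK_6144 k h hk

theorem orbit_ok_upto8192 : ∀ k < 8192, orbitRowOK subTable lab orbPar root 31671 k = true := fun k hk =>
  (Nat.lt_or_ge k 7168).elim (orbit_ok_upto7168 k) fun h =>
    allFrom_spec _ _ _ orbitOK_7168 k h hk

theorem orbit_ok_upto9216 : ∀ k < 9216, orbitRowOK subTable lab orbPar root 31671 k = true := fun k hk =>
  (Nat.lt_or_ge k 8192).elim (orbit_ok_upto8192 k) fun h =>
    allFrom_spec _ _ _ orbitOK_8192 k h hk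

theorem orbit_ok_upto10240 : ∀ k < 10240, orbitRowOK subTable lab orbPar root 31671 k = true := fun k hk =>
  (Nat.lt_or_ge k 9216).elim (orbit_ok_upto9216 k) fun h =>
    allFrom_spec _ _ _ orbitOK_9216 k h hk

theorem orbit_ok_upto11264 : ∀ k < 11264, orbitRowOK subTable lab orbPar root 31671 k = true := fun k hk =>
  (Nat.lt_or_ge k 10240).elim (orbit_ok_upto10240 k) fun h =>
    allFrom_spec _ _ _ orbitOK_10240 k h hk

theorem orbit_ok_upto12288 : ∀ k < 12288, orbitRowOK subTable lab orbPar root 31671 k = true := fun k hk =>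
  (Nat.lt_or_ge k 11264).elim (orbit_ok_upto11264 k) fun h =>
    allFrom_spec _ _ _ orbitOK_11264 k h hk

theorem orbit_ok_upto13312 : ∀ k < 13312, orbitRowOK subTable lab orbPar root 31671 k = true := fun k hk =>
  (Nat.lt_or_ge k 12288).elim (orbit_ok_upto12288 k) fun h =>
    allFrom_spec _ _ _ orbitOK_12288 k h hk

theorem orbit_ok_upto14336 : ∀ k < 14336, orbitRowOK subTable lab orbPar root 31671 k = true := fun k hk =>
  (Nat.lt_or_ge k 13312).elim (orbit_ok_upto13312 k) fun h =>
    allFrom_spec _ _ _ orbitOK_13312 k h hk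

theorem orbit_ok_upto15360 : ∀ k < 15360, orbitRowOK subTable lab orbPar root 31671 k = true := fun k hk =>
  (Nat.lt_or_ge k 14336).elim (orbit_ok_upto14336 k) fun h =>
    allFrom_spec _ _ _ orbitOK_14336 k h hk

theorem orbit_ok_upto16384 : ∀ k < 16384, orbitRowOK subTable lab orbPar root 31671 k = true := fun k hk =>
  (Nat.lt_or_ge k 15360).elim (orbit_ok_upto15360 k) fun h =>
    allFrom_spec _ _ _ orbitOK_15360 k h hk

theorem orbit_ok_upto17408 : ∀ k < 17408, orbitRowOK subTable lab orbPar root 31671 k = true := fun k hk =>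
  (Nat.lt_or_ge k 16384).elim (orbit_ok_upto16384 k) fun h =>
    allFrom_spec _ _ _ orbitOK_16384 k h hk

theorem orbit_ok_upto18432 : ∀ k < 18432, orbitRowOK subTable lab orbPar root 31671 k = true := fun k hk =>
  (Nat.lt_or_ge k 17408).elim (orbit_ok_upto17408 k) fun h =>
    allFrom_spec _ _ _ orbitOK_17408 k h hk

theorem orbit_ok_upto19456 : ∀ k < 19456, orbitRowOK subTable lab orbPar root 31671 k = true := fun k hk =>
  (Nat.lt_or_ge k 18432).elim (orbit_ok_upto18432 k) fun h =>
    allFrom_spec _ _ _ orbitOK_18432 k h hk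

theorem orbit_ok_upto20480 : ∀ k < 20480, orbitRowOK subTable lab orbPar root 31671 k = true := fun k hk =>
  (Nat.lt_or_ge k 19456).elim (orbit_ok_upto19456 k) fun h =>
    allFrom_spec _ _ _ orbitOK_19456 k h hk

theorem orbit_ok_upto21504 : ∀ k < 21504, orbitRowOK subTable lab orbPar root 31671 k = true := fun k hk =>
  (Nat.lt_or_ge k 20480).elim (orbit_ok_upto20480 k) fun h =>
    allFrom_spec _ _ _ orbitOK_20480 k h hk

theorem orbit_ok_upto22528 : ∀ k < 22528, orbitRowOK subTable lab orbPar root 31671 k = true := fun k hk =>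
  (Nat.lt_or_ge k 21504).elim (orbit_ok_upto21504 k) fun h =>
    allFrom_spec _ _ _ orbitOK_21504 k h hk

theorem orbit_ok_upto23552 : ∀ k < 23552, orbitRowOK subTable lab orbPar root 31671 k = true := fun k hk =>
  (Nat.lt_or_ge k 22528).elim (orbit_ok_upto22528 k) fun h =>
    allFrom_spec _ _ _ orbitOK_22528 k h hk

theorem orbit_ok_upto24576 : ∀ k < 24576, orbitRowOK subTable lab orbPar root 31671 k = true := fun k hk =>
  (Nat.lt_or_ge k 23552).elim (orbit_ok_upto23552 k) fun h =>
    allFrom_spec _ _ _ orbitOK_23552 k h hk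

theorem orbit_ok_upto25600 : ∀ k < 25600, orbitRowOK subTable lab orbPar root 31671 k = true := fun k hk =>
  (Nat.lt_or_ge k 24576).elim (orbit_ok_upto24576 k) fun h =>
    allFrom_spec _ _ _ orbitOK_24576 k h hk

theorem orbit_ok_upto26624 : ∀ k < 26624, orbitRowOK subTable lab orbPar root 31671 k = true := fun k hk =>
  (Nat.lt_or_ge k 25600).elim (orbit_ok_upto25600 k) fun h =>
    allFrom_spec _ _ _ orbitOK_25600 k h hk

theorem orbit_ok_upto27648 : ∀ k < 27648, orbitRowOK subTable lab orbPar root 31671 k = true := fun k hk =>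
  (Nat.lt_or_ge k 26624).elim (orbit_ok_upto26624 k) fun h =>
    allFrom_spec _ _ _ orbitOK_26624 k h hk

theorem orbit_ok_upto28672 : ∀ k < 28672, orbitRowOK subTable lab orbPar root 31671 k = true := fun k hk =>
  (Nat.lt_or_ge k 27648).elim (orbit_ok_upto27648 k) fun h =>
    allFrom_spec _ _ _ orbitOK_27648 k h hk

theorem orbit_ok_upto29696 : ∀ k < 29696, orbitRowOK subTable lab orbPar root 31671 k = true := fun k hk =>
  (Nat.lt_or_ge k 28672).elim (orbit_ok_upto28672 k) fun h =>
    allFrom_spec _ _ _ orbitOK_28672 k h hk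

theorem orbit_ok_upto30720 : ∀ k < 30720, orbitRowOK subTable lab orbPar root 31671 k = true := fun k hk =>
  (Nat.lt_or_ge k 29696).elim (orbit_ok_upto29696 k) fun h =>
    allFrom_spec _ _ _ orbitOK_29696 k h hk

theorem orbit_ok_upto31671 : ∀ k < 31671, orbitRowOK subTable lab orbPar root 31671 k = true := fun k hk =>
  (Nat.lt_or_ge k 30720).elim (orbit_ok_upto30720 k) fun h =>
    allFrom_spec _ _ _ orbitOK_30720 k h hk

theorem orbit_ok : ∀ k < 31671, orbitRowOK subTable lab orbPar root 31671 k = true := orbit_ok_upto31671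

theorem maximal : (∀ M : Subgroup Cfsg.Spor.Fi23, H ≤ M → M = H ∨ M = ⊤) ∧ ∀ N : Subgroup Cfsg.Spor.Fi23, N.Normal → N ≤ H → N = ⊥ :=
  maximal_of_orbits (n := 31671) π (by omega) H covers (sub_fix (by omega)) (transitive (by omega)) injective subTable sub_spec.1 sub_spec.2 lab orbPar root orbit_ok
    [1, 28160, 3510] (by decide +kernel) (by decide +kernel) (by decide +kernel) (by decide +kernel)

theorem exists_orbit (r : Fin 31671) (c N : ℕ) (h1 : Nat.beq (lab.get 20 r) c = true) (h2 : Nat.beq (root.get 20 c) r = true)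
    (h3 : Nat.beq (countLab lab c 31671) N = true) : ∃ q : Cfsg.Spor.Fi23 ⧸ H, (MulAction.orbit H q).ncard = N := by
  have hn : 0 < 31671 := by omega
  obtain ⟨q, hq⟩ := (cosetPt_bijective hn π H covers (sub_fix hn) (transitive hn)).2 r
  refine ⟨q, ?_⟩
  rw [orbit_ncard_eq hn π H covers (sub_fix hn) (transitive hn), hq]
  exact orbit_class_ncard π H subTable sub_spec.1 sub_spec.2 lab orbPar root orbit_ok r c h1 h2 N h3

end CfsgLib.CosetEnum.Fi23
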