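import Cfsg.Agent.Lib.CosetEnum.Fi23.SimplePowD

set_option autoImplicit false

set_option linter.all false

namespace CfsgLib.CosetEnum.Fi23

namespace Simple

open CfsgLib.CosetEnum

theorem wpowOK_0 : allFrom (fun k => Nat.beq (iterGet wCol 23 k) k) 2048 0 = true := by decide +kernel

theorem wpowOK_2048 : allFrom (fun k => Nat.beq (iterGet wCol 23 k) k) 2048 2048 = true := by decide +kernel

theorem wpowOK_4096 : allFrom (fun k => Nat.beq (iterGet wCol 23 k) k) 2048 4096 = true := by decide +kernel

theorem wpowOK_6144 : allFrom (fun k => Nat.beq (iterGet wCol 23 k) k) 2048 6144 = true := by decide +kernel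

theorem wpowOK_8192 : allFrom (fun k => Nat.beq (iterGet wCol 23 k) k) 2048 8192 = true := by decide +kernel

theorem wpowOK_10240 : allFrom (fun k => Nat.beq (iterGet wCol 23 k) k) 2048 10240 = true := by decide +kernel

theorem wpowOK_12288 : allFrom (fun k => Nat.beq (iterGet wCol 23 k) k) 2048 12288 = true := by decide +kernel

theorem wpowOK_14336 : allFrom (fun k => Nat.beq (iterGet wCol 23 k) k) 2048 14336 = true := by decide +kernel

theorem wpowOK_16384 : allFrom (fun k => Nat.beq (iterGet wCol 23 k) k) 2048 16384 = true := by decide +kernel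

theorem wpowOK_18432 : allFrom (fun k => Nat.beq (iterGet wCol 23 k) k) 2048 18432 = true := by decide +kernel

theorem wpowOK_20480 : allFrom (fun k => Nat.beq (iterGet wCol 23 k) k) 2048 20480 = true := by decide +kernel

theorem wpowOK_22528 : allFrom (fun k => Nat.beq (iterGet wCol 23 k) k) 2048 22528 = true := by decide +kernel

theorem wpowOK_24576 : allFrom (fun k => Nat.beq (iterGet wCol 23 k) k) 2048 24576 = true := by decide +kernel

theorem wpowOK_26624 : allFrom (fun k => Nat.beq (iterGet wCol 23 k) k) 2048 26624 = true := by decide +kernel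

theorem wpowOK_28672 : allFrom (fun k => Nat.beq (iterGet wCol 23 k) k) 2048 28672 = true := by decide +kernel

theorem wpowOK_30720 : allFrom (fun k => Nat.beq (iterGet wCol 23 k) k) 951 30720 = true := by decide +kernel

end Simple

end CfsgLib.CosetEnum.Fi23
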