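import Cfsg.Agent.Lib.CosetEnum.Fi23.SimplePowQ0
import Cfsg.Agent.Lib.CosetEnum.Fi23.SimplePowQ1

set_option autoImplicit false

set_option linter.all false

namespace CfsgLib.CosetEnum.Fi23

namespace Simple

open CfsgLib.CosetEnum

theorem wcol_ok_upto2048 : ∀ k < 2048, (Nat.beq (scan CfsgLib.CosetEnum.Fi23.table lw k) (wCol.get 20 k) && Nat.blt (wCol.get 20 k) 31671) = true := fun k hk =>
  have h : 0 ≤ k := Nat.zero_le k
  allFrom_spec _ _ _ wcolOK_0 k h hk

theorem wcol_ok_upto4096 : ∀ k < 4096, (Nat.beq (scan CfsgLib.CosetEnum.Fi23.table lw k) (wCol.get 20 k) && Nat.blt (wCol.get 20 k) 31671) = true := fun k hk =>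
  (Nat.lt_or_ge k 2048).elim (wcol_ok_upto2048 k) fun h =>
    allFrom_spec _ _ _ wcolOK_2048 k h hk

theorem wcol_ok_upto6144 : ∀ k < 6144, (Nat.beq (scan CfsgLib.CosetEnum.Fi23.table lw k) (wCol.get 20 k) && Nat.blt (wCol.get 20 k) 31671) = true := fun k hk =>
  (Nat.lt_or_ge k 4096).elim (wcol_ok_upto4096 k) fun h =>
    allFrom_spec _ _ _ wcolOK_4096 k h hk

theorem wcol_ok_upto8192 : ∀ k < 8192, (Nat.beq (scan CfsgLib.CosetEnum.Fi23.table lw k) (wCol.get 20 k) && Nat.blt (wCol.get 20 k) 31671) = true := fun k hk =>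
  (Nat.lt_or_ge k 6144).elim (wcol_ok_upto6144 k) fun h =>
    allFrom_spec _ _ _ wcolOK_6144 k h hk

theorem wcol_ok_upto10240 : ∀ k < 10240, (Nat.beq (scan CfsgLib.CosetEnum.Fi23.table lw k) (wCol.get 20 k) && Nat.blt (wCol.get 20 k) 31671) = true := fun k hk =>
  (Nat.lt_or_ge k 8192).elim (wcol_ok_upto8192 k) fun h =>
    allFrom_spec _ _ _ wcolOK_8192 k h hk

theorem wcol_ok_upto12288 : ∀ k < 12288, (Nat.beq (scan CfsgLib.CosetEnum.Fi23.table lw k) (wCol.get 20 k) && Nat.blt (wCol.get 20 k) 31671) = true := fun k hk =>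
  (Nat.lt_or_ge k 10240).elim (wcol_ok_upto10240 k) fun h =>
    allFrom_spec _ _ _ wcolOK_10240 k h hk

theorem wcol_ok_upto14336 : ∀ k < 14336, (Nat.beq (scan CfsgLib.CosetEnum.Fi23.table lw k) (wCol.get 20 k) && Nat.blt (wCol.get 20 k) 31671) = true := fun k hk =>
  (Nat.lt_or_ge k 12288).elim (wcol_ok_upto12288 k) fun h =>
    allFrom_spec _ _ _ wcolOK_12288 k h hk

theorem wcol_ok_upto16384 : ∀ k < 16384, (Nat.beq (scan CfsgLib.CosetEnum.Fi23.table lw k) (wCol.get 20 k) && Nat.blt (wCol.get 20 k) 31671) = true := fun k hk =>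
  (Nat.lt_or_ge k 14336).elim (wcol_ok_upto14336 k) fun h =>
    allFrom_spec _ _ _ wcolOK_14336 k h hk

theorem wcol_ok_upto18432 : ∀ k < 18432, (Nat.beq (scan CfsgLib.CosetEnum.Fi23.table lw k) (wCol.get 20 k) && Nat.blt (wCol.get 20 k) 31671) = true := fun k hk =>
  (Nat.lt_or_ge k 16384).elim (wcol_ok_upto16384 k) fun h =>
    allFrom_spec _ _ _ wcolOK_16384 k h hk

theorem wcol_ok_upto20480 : ∀ k < 20480, (Nat.beq (scan CfsgLib.CosetEnum.Fi23.table lw k) (wCol.get 20 k) && Nat.blt (wCol.get 20 k) 31671) = true := fun k hk =>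
  (Nat.lt_or_ge k 18432).elim (wcol_ok_upto18432 k) fun h =>
    allFrom_spec _ _ _ wcolOK_18432 k h hk

theorem wcol_ok_upto22528 : ∀ k < 22528, (Nat.beq (scan CfsgLib.CosetEnum.Fi23.table lw k) (wCol.get 20 k) && Nat.blt (wCol.get 20 k) 31671) = true := fun k hk =>
  (Nat.lt_or_ge k 20480).elim (wcol_ok_upto20480 k) fun h =>
    allFrom_spec _ _ _ wcolOK_20480 k h hk

theorem wcol_ok_upto24576 : ∀ k < 24576, (Nat.beq (scan CfsgLib.CosetEnum.Fi23.table lw k) (wCol.get 20 k) && Nat.blt (wCol.get 20 k) 31671) = true := fun k hk =>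
  (Nat.lt_or_ge k 22528).elim (wcol_ok_upto22528 k) fun h =>
    allFrom_spec _ _ _ wcolOK_22528 k h hk

theorem wcol_ok_upto26624 : ∀ k < 26624, (Nat.beq (scan CfsgLib.CosetEnum.Fi23.table lw k) (wCol.get 20 k) && Nat.blt (wCol.get 20 k) 31671) = true := fun k hk =>
  (Nat.lt_or_ge k 24576).elim (wcol_ok_upto24576 k) fun h =>
    allFrom_spec _ _ _ wcolOK_24576 k h hk

theorem wcol_ok_upto28672 : ∀ k < 28672, (Nat.beq (scan CfsgLib.CosetEnum.Fi23.table lw k) (wCol.get 20 k) && Nat.blt (wCol.get 20 k) 31671) = true := fun k hk =>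
  (Nat.lt_or_ge k 26624).elim (wcol_ok_upto26624 k) fun h =>
    allFrom_spec _ _ _ wcolOK_26624 k h hk

theorem wcol_ok_upto30720 : ∀ k < 30720, (Nat.beq (scan CfsgLib.CosetEnum.Fi23.table lw k) (wCol.get 20 k) && Nat.blt (wCol.get 20 k) 31671) = true := fun k hk =>
  (Nat.lt_or_ge k 28672).elim (wcol_ok_upto28672 k) fun h =>
    allFrom_spec _ _ _ wcolOK_28672 k h hk

theorem wcol_ok_upto31671 : ∀ k < 31671, (Nat.beq (scan CfsgLib.CosetEnum.Fi23.table lw k) (wCol.get 20 k) && Nat.blt (wCol.get 20 k) 31671) = true := fun k hk =>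
  (Nat.lt_or_ge k 30720).elim (wcol_ok_upto30720 k) fun h =>
    allFrom_spec _ _ _ wcolOK_30720 k h hk

theorem wcol_ok : ∀ k < 31671, (Nat.beq (scan CfsgLib.CosetEnum.Fi23.table lw k) (wCol.get 20 k) && Nat.blt (wCol.get 20 k) 31671) = true := wcol_ok_upto31671

theorem wpow_ok_upto2048 : ∀ k < 2048, Nat.beq (iterGet wCol 23 k) k = true := fun k hk =>
  have h : 0 ≤ k := Nat.zero_le k
  allFrom_spec _ _ _ wpowOK_0 k h hk

theorem wpow_ok_upto4096 : ∀ k < 4096, Nat.beq (iterGet wCol 23 k) k = true := fun k hk =>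
  (Nat.lt_or_ge k 2048).elim (wpow_ok_upto2048 k) fun h =>
    allFrom_spec _ _ _ wpowOK_2048 k h hk

theorem wpow_ok_upto6144 : ∀ k < 6144, Nat.beq (iterGet wCol 23 k) k = true := fun k hk =>
  (Nat.lt_or_ge k 4096).elim (wpow_ok_upto4096 k) fun h =>
    allFrom_spec _ _ _ wpowOK_4096 k h hk

theorem wpow_ok_upto8192 : ∀ k < 8192, Nat.beq (iterGet wCol 23 k) k = true := fun k hk =>
  (Nat.lt_or_ge k 6144).elim (wpow_ok_upto6144 k) fun h =>
    allFrom_spec _ _ _ wpowOK_6144 k h hk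

theorem wpow_ok_upto10240 : ∀ k < 10240, Nat.beq (iterGet wCol 23 k) k = true := fun k hk =>
  (Nat.lt_or_ge k 8192).elim (wpow_ok_upto8192 k) fun h =>
    allFrom_spec _ _ _ wpowOK_8192 k h hk

theorem wpow_ok_upto12288 : ∀ k < 12288, Nat.beq (iterGet wCol 23 k) k = true := fun k hk =>
  (Nat.lt_or_ge k 10240).elim (wpow_ok_upto10240 k) fun h =>
    allFrom_spec _ _ _ wpowOK_10240 k h hk

theorem wpow_ok_upto14336 : ∀ k < 14336, Nat.beq (iterGet wCol 23 k) k = true := fun k hk =>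
  (Nat.lt_or_ge k 12288).elim (wpow_ok_upto12288 k) fun h =>
    allFrom_spec _ _ _ wpowOK_12288 k h hk

theorem wpow_ok_upto16384 : ∀ k < 16384, Nat.beq (iterGet wCol 23 k) k = true := fun k hk =>
  (Nat.lt_or_ge k 14336).elim (wpow_ok_upto14336 k) fun h =>
    allFrom_spec _ _ _ wpowOK_14336 k h hk

theorem wpow_ok_upto18432 : ∀ k < 18432, Nat.beq (iterGet wCol 23 k) k = true := fun k hk =>
  (Nat.lt_or_ge k 16384).elim (wpow_ok_upto16384 k) fun h =>
    allFrom_spec _ _ _ wpowOK_16384 k h hk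

theorem wpow_ok_upto20480 : ∀ k < 20480, Nat.beq (iterGet wCol 23 k) k = true := fun k hk =>
  (Nat.lt_or_ge k 18432).elim (wpow_ok_upto18432 k) fun h =>
    allFrom_spec _ _ _ wpowOK_18432 k h hk

theorem wpow_ok_upto22528 : ∀ k < 22528, Nat.beq (iterGet wCol 23 k) k = true := fun k hk =>
  (Nat.lt_or_ge k 20480).elim (wpow_ok_upto20480 k) fun h =>
    allFrom_spec _ _ _ wpowOK_20480 k h hk

theorem wpow_ok_upto24576 : ∀ k < 24576, Nat.beq (iterGet wCol 23 k) k = true := fun k hk =>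
  (Nat.lt_or_ge k 22528).elim (wpow_ok_upto22528 k) fun h =>
    allFrom_spec _ _ _ wpowOK_22528 k h hk

theorem wpow_ok_upto26624 : ∀ k < 26624, Nat.beq (iterGet wCol 23 k) k = true := fun k hk =>
  (Nat.lt_or_ge k 24576).elim (wpow_ok_upto24576 k) fun h =>
    allFrom_spec _ _ _ wpowOK_24576 k h hk

theorem wpow_ok_upto28672 : ∀ k < 28672, Nat.beq (iterGet wCol 23 k) k = true := fun k hk =>
  (Nat.lt_or_ge k 26624).elim (wpow_ok_upto26624 k) fun h =>
    allFrom_spec _ _ _ wpowOK_26624 k h hk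

theorem wpow_ok_upto30720 : ∀ k < 30720, Nat.beq (iterGet wCol 23 k) k = true := fun k hk =>
  (Nat.lt_or_ge k 28672).elim (wpow_ok_upto28672 k) fun h =>
    allFrom_spec _ _ _ wpowOK_28672 k h hk

theorem wpow_ok_upto31671 : ∀ k < 31671, Nat.beq (iterGet wCol 23 k) k = true := fun k hk =>
  (Nat.lt_or_ge k 30720).elim (wpow_ok_upto30720 k) fun h =>
    allFrom_spec _ _ _ wpowOK_30720 k h hk

theorem wpow_ok : ∀ k < 31671, Nat.beq (iterGet wCol 23 k) k = true := wpow_ok_upto31671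

theorem pow_ok : ∀ k < 31671, fixesAll CfsgLib.CosetEnum.Fi23.table k [(List.replicate 23 lw).flatten] = true := by
  intro k hk
  have h1 := scan_replicate CfsgLib.CosetEnum.Fi23.table lw wCol 31671 wcol_ok 23 k hk
  show (Nat.beq (scan CfsgLib.CosetEnum.Fi23.table (List.replicate 23 lw).flatten k) k && true) = true
  rw [h1, wpow_ok k hk]
  rfl

end Simple

end CfsgLib.CosetEnum.Fi23
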