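import Cfsg.Agent.Lib.CosetEnum.Fi23.SimplePowD

set_option autoImplicit false

set_option linter.all false

namespace CfsgLib.CosetEnum.Fi23

namespace Simple

open CfsgLib.CosetEnum

theorem wcolOK_0 : allFrom (fun k => (Nat.beq (scan CfsgLib.CosetEnum.Fi23.table lw k) (wCol.get 20 k) && Nat.blt (wCol.get 20 k) 31671)) 2048 0 = true := by decide +kernel

theorem wcolOK_2048 : allFrom (fun k => (Nat.beq (scan CfsgLib.CosetEnum.Fi23.table lw k) (wCol.get 20 k) && Nat.blt (wCol.get 20 k) 31671)) 2048 2048 = true := by decide +kernel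

theorem wcolOK_4096 : allFrom (fun k => (Nat.beq (scan CfsgLib.CosetEnum.Fi23.table lw k) (wCol.get 20 k) && Nat.blt (wCol.get 20 k) 31671)) 2048 4096 = true := by decide +kernel

theorem wcolOK_6144 : allFrom (fun k => (Nat.beq (scan CfsgLib.CosetEnum.Fi23.table lw k) (wCol.get 20 k) && Nat.blt (wCol.get 20 k) 31671)) 2048 6144 = true := by decide +kernel

theorem wcolOK_8192 : allFrom (fun k => (Nat.beq (scan CfsgLib.CosetEnum.Fi23.table lw k) (wCol.get 20 k) && Nat.blt (wCol.get 20 k) 31671)) 2048 8192 = true := by decide +kernel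

theorem wcolOK_10240 : allFrom (fun k => (Nat.beq (scan CfsgLib.CosetEnum.Fi23.table lw k) (wCol.get 20 k) && Nat.blt (wCol.get 20 k) 31671)) 2048 10240 = true := by decide +kernel

theorem wcolOK_12288 : allFrom (fun k => (Nat.beq (scan CfsgLib.CosetEnum.Fi23.table lw k) (wCol.get 20 k) && Nat.blt (wCol.get 20 k) 31671)) 2048 12288 = true := by decide +kernel

theorem wcolOK_14336 : allFrom (fun k => (Nat.beq (scan CfsgLib.CosetEnum.Fi23.table lw k) (wCol.get 20 k) && Nat.blt (wCol.get 20 k) 31671)) 2048 14336 = true := by decide +kernel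

theorem wcolOK_16384 : allFrom (fun k => (Nat.beq (scan CfsgLib.CosetEnum.Fi23.table lw k) (wCol.get 20 k) && Nat.blt (wCol.get 20 k) 31671)) 2048 16384 = true := by decide +kernel

theorem wcolOK_18432 : allFrom (fun k => (Nat.beq (scan CfsgLib.CosetEnum.Fi23.table lw k) (wCol.get 20 k) && Nat.blt (wCol.get 20 k) 31671)) 2048 18432 = true := by decide +kernel

theorem wcolOK_20480 : allFrom (fun k => (Nat.beq (scan CfsgLib.CosetEnum.Fi23.table lw k) (wCol.get 20 k) && Nat.blt (wCol.get 20 k) 31671)) 2048 20480 = true := by decide +kernel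

theorem wcolOK_22528 : allFrom (fun k => (Nat.beq (scan CfsgLib.CosetEnum.Fi23.table lw k) (wCol.get 20 k) && Nat.blt (wCol.get 20 k) 31671)) 2048 22528 = true := by decide +kernel

theorem wcolOK_24576 : allFrom (fun k => (Nat.beq (scan CfsgLib.CosetEnum.Fi23.table lw k) (wCol.get 20 k) && Nat.blt (wCol.get 20 k) 31671)) 2048 24576 = true := by decide +kernel

theorem wcolOK_26624 : allFrom (fun k => (Nat.beq (scan CfsgLib.CosetEnum.Fi23.table lw k) (wCol.get 20 k) && Nat.blt (wCol.get 20 k) 31671)) 2048 26624 = true := by decide +kernel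

theorem wcolOK_28672 : allFrom (fun k => (Nat.beq (scan CfsgLib.CosetEnum.Fi23.table lw k) (wCol.get 20 k) && Nat.blt (wCol.get 20 k) 31671)) 2048 28672 = true := by decide +kernel

theorem wcolOK_30720 : allFrom (fun k => (Nat.beq (scan CfsgLib.CosetEnum.Fi23.table lw k) (wCol.get 20 k) && Nat.blt (wCol.get 20 k) 31671)) 951 30720 = true := by decide +kernel

end Simple

end CfsgLib.CosetEnum.Fi23
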