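import Cfsg.Agent.Lib.CosetEnum.Fi23.Cover
import Cfsg.Agent.Lib.CosetEnum.Fi23.Simple

set_option autoImplicit false

/-!
The conjugates of the central involution of `2.Fi22` form a class of 31671 3-transpositions of `Fi23`.
-/

namespace CfsgLib.CosetEnum.Fi23

open CfsgLib.CosetEnum

local notation "G" => Cfsg.Spor.Fi23

/-- The central involution of the point stabiliser. -/
def z : G := (zw.map g).prod

theorem scan_lt (l : List ℕ) (hl : ∀ x ∈ l, x < 16) : ∀ k < 31671, scan table l k < 31671 := by
  induction l with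
  | nil => intro k hk; exact hk
  | cons x r ih =>
    intro k hk
    rw [scan_cons]
    exact ih (fun y hy => hl y (List.mem_cons_of_mem _ hy)) _
      (act_spec table 18364758544493064720 31671 row_ok (hl x (by simp)) hk).1

theorem zc_eq (k : ℕ) (hk : k < 31671) : scan table zw k = zCol.get 20 k := by
  have h := zcol_ok k hk
  simp only [Bool.and_eq_true] at h
  exact Nat.eq_of_beq_eq_true h.1

theorem zc_lt (k : ℕ) (hk : k < 31671) : zCol.get 20 k < 31671 := by
  have h := zcol_ok k hk
  simp only [Bool.and_eq_true] at h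
  exact Nat.le_of_ble_eq_true h.2

theorem pair_scan (t : List ℕ) (ht : ∀ x ∈ t, x < 16) (m : ℕ) (k : ℕ) (hk : k < 31671) (h : pairStep t m k = true) :
    scan table (List.replicate m (zw ++ t ++ zw ++ t.reverse)).flatten k = k := by
  have key : ∀ m k, k < 31671 → scan table (List.replicate m (zw ++ t ++ zw ++ t.reverse)).flatten k =
      Nat.rec (motive := fun _ => ℕ → ℕ) (fun j => j)
        (fun _ ih j => strict (scan table t.reverse (zCol.get 20 (scan table t (zCol.get 20 j)))) fun j' => ih j') m k := by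
    intro m
    induction m with
    | zero => intro k _; rfl
    | succ m ih =>
      intro k hk
      have h1 := scan_lt t ht _ (zc_lt k hk)
      have h2 := scan_lt t.reverse (fun x hx => ht x (List.mem_reverse.mp hx)) _ (zc_lt _ h1)
      rw [List.replicate_succ, List.flatten_cons, scan_append, scan_append, scan_append, scan_append,
        zc_eq k hk, zc_eq _ h1, ih _ h2]
      show _ = strict (scan table t.reverse (zCol.get 20 (scan table t (zCol.get 20 k)))) _
      rw [strict_eq]
  rw [key m k hk]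
  exact Nat.eq_of_beq_eq_true h

theorem zw_lt : ∀ x ∈ zw, x < 16 := by decide

theorem z_mem : z ∈ H :=
  list_prod_mem fun y hy => by
    obtain ⟨x, hx, rfl⟩ := List.mem_map.mp hy
    exact mem_sub x ((by decide : ∀ x ∈ zw, x ∈ sel) x hx)

theorem z_comm : ∀ w ∈ H, w * z = z * w := by
  intro w hw
  have hle : H ≤ Subgroup.centralizer ({z} : Set G) := by
    conv_lhs => rw [sub_eq_closure]
    refine (Subgroup.closure_le _).mpr ?_
    rintro _ ⟨j, rfl⟩
    set x := sel.getD j 15 with hx
    have hxs : x ∈ sel := (by decide : ∀ j : Fin 9, sel.getD j 15 ∈ sel) j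
    have hx16 := sel_lt x hxs
    rw [SetLike.mem_coe, Subgroup.mem_centralizer_singleton_iff]
    have h1 := prod_eq_of_scan_eq table 18364758544493064720 ip_ok row_ok π g hinv hπ injective ([x] ++ zw) (zw ++ [x])
      (by simp only [List.mem_append, List.mem_singleton]; rintro y (rfl | hy); exacts [hx16, zw_lt y hy])
      (by simp only [List.mem_append, List.mem_singleton]; rintro y (hy | rfl); exacts [zw_lt y hy, hx16])
      (fun k hk => by
        rw [scan_append, scan_append, scan_cons, scan_nil, scan_cons, scan_nil,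
          zc_eq _ (act_spec table 18364758544493064720 31671 row_ok hx16 hk).1, zc_eq k hk, hx]
        exact Nat.eq_of_beq_eq_true (allFrom_spec _ _ _ (zcomm_ok k hk) j (Nat.zero_le _) (by have := j.2; omega)))
    simp only [List.map_append, List.prod_append, List.map_cons, List.map_nil, List.prod_cons, List.prod_nil,
      mul_one] at h1
    exact h1
  exact Subgroup.mem_centralizer_singleton_iff.mp (hle hw)

theorem z_ne_one : z ≠ 1 := by
  intro h
  have h1 : π z = 1 := by rw [h, map_one]
  have h2 : π z⁻¹ = 1 := by rw [map_inv, h1, inv_one]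
  have h3 : ∀ k < 31671, scan table zw k = k := by
    intro k hk
    have := congrArg (fun e : Equiv.Perm (Fin 31671) => ((e ⟨k, hk⟩ : Fin 31671) : ℕ)) h2
    simp only [z, ← prod_invWord hinv zw zw_lt, map_list_prod, List.map_map, Equiv.Perm.one_apply] at this
    rw [List.map_congr_left (f := ⇑π ∘ g) (g := permOf table 18364758544493064720 31671 ip_ok row_ok)
      (fun x hx => hπ x (invWord_lt zw x hx)), prod_invWord_apply table 18364758544493064720 31671 ip_ok row_ok zw zw_lt] at this
    exact this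
  have h4 := h3 1 (by omega)
  have h5 : Nat.beq (scan table zw 1) 1 = false := by decide +kernel
  generalize scan table zw 1 = v at h4 h5
  subst h4
  exact Bool.noConfusion h5

attribute [local irreducible] z

theorem orderOf_z : orderOf z = 2 := by
  haveI : Finite G := finite
  have hc : (⟨z, z_mem⟩ : H) ∈ Subgroup.center H :=
    Subgroup.mem_center_iff.mpr fun w => Subtype.ext (z_comm w w.2)
  have hne : (⟨_, hc⟩ : Subgroup.center H) ≠ 1 := fun h => z_ne_one (Subtype.ext_iff.mp (Subtype.ext_iff.mp h))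
  have h2 : orderOf (⟨_, hc⟩ : Subgroup.center H) ∣ 2 := (orderOf_dvd_natCard _).trans (dvd_of_eq doubleCover.1)
  rcases (Nat.dvd_prime Nat.prime_two).mp h2 with h | h
  · exact absurd (orderOf_eq_one_iff.mp h) hne
  · rwa [← Subgroup.orderOf_coe, ← Subgroup.orderOf_coe] at h

theorem centralizer_z : Subgroup.centralizer ({z} : Set G) = H := by
  haveI : Finite G := finite
  haveI := Simple.isSimple
  rcases maximal.1 _ (fun w hw => Subgroup.mem_centralizer_singleton_iff.mpr (z_comm w hw)) with h | h
  · exact h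
  · exfalso
    refine z_ne_one (Subgroup.mem_bot.mp ?_)
    rw [← center_eq_bot_of_simple (K := G) (by rw [card_group]; norm_num), Subgroup.mem_center_iff]
    intro w
    exact Subgroup.mem_centralizer_singleton_iff.mp (h ▸ Subgroup.mem_top w)

theorem mem_of_fix (t : G) (h : π t ⟨0, by omega⟩ = ⟨0, by omega⟩) : t ∈ H := by
  have hn : 0 < 31671 := by omega
  have h1 : (t : G ⧸ H) = ((1 : G) : G ⧸ H) :=
    (cosetPt_bijective hn π H covers (sub_fix hn) (transitive hn)).1
      (by rw [cosetPt_mk, cosetPt_mk, h, map_one, Equiv.Perm.one_apply])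
  simpa using QuotientGroup.eq.mp h1.symm

theorem word_moves (t : List ℕ) (r : ℕ) (hr : r < 31671) (ht : ∀ x ∈ t, x < 16)
    (h : Nat.beq (scan table t.reverse 0) r = true) : π ((t.map g).prod) ⟨0, by omega⟩ = ⟨r, hr⟩ := by
  have htr : ∀ x ∈ t.reverse, x < 16 := fun x hx => ht x (List.mem_reverse.mp hx)
  refine Fin.ext ?_
  rw [show (t.map g).prod = ((t.reverse.map g).prod)⁻¹ by rw [word_inv _ htr, List.reverse_reverse],
    ← prod_invWord hinv _ htr, map_list_prod, List.map_map,
    List.map_congr_left (f := ⇑π ∘ g) (g := permOf table 18364758544493064720 31671 ip_ok row_ok)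
      (fun x hx => hπ x (invWord_lt _ x hx)),
    prod_invWord_apply table 18364758544493064720 31671 ip_ok row_ok _ htr]
  exact Nat.eq_of_beq_eq_true h

theorem pair_case (t p : List ℕ) (r : ℕ) (hr : r < 31671) (c m : ℕ) (ht : ∀ x ∈ t, x < 16)
    (hmove : Nat.beq (scan table t.reverse 0) r = true) (hlab : Nat.beq (lab.get 20 r) c = true)
    (hroot : Nat.beq (root.get 20 c) r = true)
    (hp : p = (List.replicate m (zw ++ t ++ zw ++ t.reverse)).flatten) (hok : ∀ k < 31671, pairStep t m k = true)
    (u : G) (hu : lab.get 20 ((π u ⟨0, by omega⟩ : Fin 31671) : ℕ) = c) : (z * (u * z * u⁻¹)) ^ m = 1 := by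
  have hT := word_moves t r hr ht hmove
  set T := (t.map g).prod with hTdef
  have hrep : ∀ x ∈ p, x < 16 := by
    intro x hx
    rw [hp] at hx
    obtain ⟨l, hl, hxl⟩ := List.mem_flatten.mp hx
    rw [List.eq_of_mem_replicate hl] at hxl
    simp only [List.mem_append, List.mem_reverse] at hxl
    rcases hxl with ((h | h) | h) | h
    exacts [zw_lt x h, ht x h, zw_lt x h, ht x h]
  have h1 := word_eq_one p hrep fun k hk => hp ▸ pair_scan t ht m k hk (hok k hk)
  have h2 : (z * (T * z * T⁻¹)) ^ m = 1 := by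
    rw [hp, List.map_flatten, List.prod_flatten, List.map_map, List.map_replicate, List.prod_replicate] at h1
    simp only [Function.comp_apply, List.map_append, List.prod_append, ← word_inv t ht, ← hTdef] at h1
    rw [z]
    simpa [mul_assoc] using h1
  obtain ⟨w, hw, hwr⟩ : π u ⟨0, by omega⟩ ∈ {k | ∃ w ∈ H, π w (⟨r, hr⟩ : Fin 31671) = k} := by
    rw [orbit_class π H subTable sub_spec.1 sub_spec.2 lab orbPar root orbit_ok ⟨r, hr⟩ c hlab hroot]
    exact hu
  have hh : (w * T)⁻¹ * u ∈ H := by
    refine mem_of_fix _ ?_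
    rw [map_mul, Equiv.Perm.mul_apply, ← hwr, map_inv, map_mul, ← hT]
    simp
  have e : u * z * u⁻¹ = w * (T * z * T⁻¹) * w⁻¹ := by
    have := z_comm _ hh
    calc u * z * u⁻¹ = (w * T) * (((w * T)⁻¹ * u) * z) * u⁻¹ := by group
      _ = (w * T) * (z * ((w * T)⁻¹ * u)) * u⁻¹ := by rw [this]
      _ = w * (T * z * T⁻¹) * w⁻¹ := by group
  have hz' : z = w * z * w⁻¹ := by rw [z_comm w hw]; group
  rw [e]
  conv_lhs => rw [hz']
  rw [show w * z * w⁻¹ * (w * (T * (w * z * w⁻¹) * T⁻¹) * w⁻¹) = w * (z * (T * (w * z * w⁻¹) * T⁻¹)) * w⁻¹ by group,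
    conj_pow, ← hz', h2]
  group

theorem pair_ok (u : G) : (z * (u * z * u⁻¹)) ^ 2 = 1 ∨ (z * (u * z * u⁻¹)) ^ 3 = 1 := by
  have hk := (π u ⟨0, by omega⟩ : Fin 31671).2
  have h3 := Nat.le_of_ble_eq_true (lab_lt _ hk)
  rcases (by omega : lab.get 20 ((π u ⟨0, by omega⟩ : Fin 31671) : ℕ) = 0 ∨ lab.get 20 ((π u ⟨0, by omega⟩ : Fin 31671) : ℕ) = 1 ∨
      lab.get 20 ((π u ⟨0, by omega⟩ : Fin 31671) : ℕ) = 2) with h | h | h
  · left
    obtain ⟨w, hw, hwr⟩ : π u ⟨0, by omega⟩ ∈ {k | ∃ w ∈ H, π w (⟨0, by omega⟩ : Fin 31671) = k} := by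
      rw [orbit_class π H subTable sub_spec.1 sub_spec.2 lab orbPar root orbit_ok ⟨0, by omega⟩ 0 (show Nat.beq (lab.get 20 0) 0 = true by decide +kernel)
        (show Nat.beq (root.get 20 0) 0 = true by decide +kernel)]
      exact h
    rw [sub_fix (by omega) w hw] at hwr
    have hu := mem_of_fix u hwr.symm
    rw [z_comm u hu, mul_inv_cancel_right, ← pow_two, ← pow_mul]
    exact orderOf_dvd_iff_pow_eq_one.mp (by rw [orderOf_z]; exact Dvd.intro 2 rfl)
  · exact Or.inr (pair_case t1 _ 1 (by omega) 1 3 (by decide +kernel) t1_moves (by decide +kernel) (by decide +kernel)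
      rfl pair1_ok u h)
  · exact Or.inl (pair_case t2 _ 52 (by omega) 2 2 (by decide +kernel) t2_moves (by decide +kernel) (by decide +kernel)
      rfl pair2_ok u h)

theorem card_class : Nat.card (conjugatesOf z : Set G) = 31671 := by
  haveI : Finite G := finite
  rw [← index_H, ← centralizer_z, Subgroup.index]
  refine Nat.card_congr (Equiv.ofBijective (Quotient.lift (fun w : G => (⟨w * z * w⁻¹, isConj_iff.mpr ⟨w, rfl⟩⟩ : (conjugatesOf z : Set G))) ?_) ⟨?_, ?_⟩).symm
  · intro a b hab
    have h := Subgroup.mem_centralizer_singleton_iff.mp (QuotientGroup.leftRel_apply.mp hab)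
    apply Subtype.ext
    calc a * z * a⁻¹ = a * (z * (a⁻¹ * b)) * b⁻¹ := by group
      _ = a * ((a⁻¹ * b) * z) * b⁻¹ := by rw [h]
      _ = b * z * b⁻¹ := by group
  · intro a b
    induction a using QuotientGroup.induction_on with | H a => ?_
    induction b using QuotientGroup.induction_on with | H b => ?_
    intro hab
    have h : a * z * a⁻¹ = b * z * b⁻¹ := congrArg Subtype.val hab
    refine QuotientGroup.eq.mpr (Subgroup.mem_centralizer_singleton_iff.mpr ?_)
    calc a⁻¹ * b * z = a⁻¹ * (b * z * b⁻¹) * b := by group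
      _ = a⁻¹ * (a * z * a⁻¹) * b := by rw [h]
      _ = z * (a⁻¹ * b) := by group
  · rintro ⟨b, hb⟩
    obtain ⟨w, rfl⟩ := isConj_iff.mp hb
    exact ⟨(w : G ⧸ Subgroup.centralizer ({z} : Set G)), rfl⟩

theorem threeClass : Cfsg.IsThreeTranspositionClass (conjugatesOf z : Set G) := by
  haveI : Finite G := finite
  haveI := Simple.isSimple
  refine ⟨⟨fun d hd => ?_, fun d hd e he => ?_⟩, ⟨z, mem_conjugatesOf_self, rfl⟩, ?_⟩
  · obtain ⟨w, rfl⟩ := isConj_iff.mp hd
    rw [← orderOf_z]
    exact (MulAut.conj w).orderOf_eq z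
  · obtain ⟨a, rfl⟩ := isConj_iff.mp hd
    obtain ⟨b, rfl⟩ := isConj_iff.mp he
    have e1 : a * z * a⁻¹ * (b * z * b⁻¹) = a * (z * ((a⁻¹ * b) * z * (a⁻¹ * b)⁻¹)) * a⁻¹ := by group
    rcases pair_ok (a⁻¹ * b) with h | h
    · left; rw [e1, conj_pow, h]; group
    · right; rw [e1, conj_pow, h]; group
  · have hN : Subgroup.normalClosure ({z} : Set G) = Subgroup.closure (conjugatesOf z) := by
      rw [Subgroup.normalClosure, Group.conjugatesOfSet, Set.biUnion_singleton]
    rw [← hN]
    rcases (Subgroup.normalClosure_normal (s := ({z} : Set G))).eq_bot_or_eq_top with h | h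
    · exact absurd (Subgroup.mem_bot.mp (h ▸ Subgroup.subset_normalClosure (Set.mem_singleton z))) z_ne_one
    · exact h

theorem centralizer_conj (d : G) (hd : d ∈ (conjugatesOf z : Set G)) :
    Cfsg.IsNonsplitDoubleCover (Subgroup.centralizer ({d} : Set G)) Cfsg.Spor.Fi22 := by
  obtain ⟨w, rfl⟩ := isConj_iff.mp hd
  have hm : Subgroup.centralizer ({w * z * w⁻¹} : Set G) = H.map (MulAut.conj w : G ≃* G).toMonoidHom := by
    rw [← centralizer_z]
    ext v
    rw [Subgroup.mem_centralizer_singleton_iff, Subgroup.mem_map_equiv, Subgroup.mem_centralizer_singleton_iff,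
      MulAut.conj_symm_apply]
    constructor
    · intro h
      calc w⁻¹ * v * w * z = w⁻¹ * (v * (w * z * w⁻¹)) * w := by group
        _ = w⁻¹ * ((w * z * w⁻¹) * v) * w := by rw [h]
        _ = z * (w⁻¹ * v * w) := by group
    · intro h
      calc v * (w * z * w⁻¹) = w * ((w⁻¹ * v * w) * z) * w⁻¹ := by group
        _ = w * (z * (w⁻¹ * v * w)) * w⁻¹ := by rw [h]
        _ = w * z * w⁻¹ * v := by group
  rw [hm]
  let e : H ≃* H.map (MulAut.conj w : G ≃* G).toMonoidHom := (MulAut.conj w : G ≃* G).subgroupMap H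
  obtain ⟨h1, ⟨q⟩, h3⟩ := doubleCover
  have hc : (Subgroup.center H).map e.toMonoidHom = Subgroup.center _ :=
    Subgroup.ext fun v => by
      rw [Subgroup.mem_map_equiv, Subgroup.mem_center_iff, Subgroup.mem_center_iff]
      constructor
      · intro h u
        have := congrArg e (h (e.symm u))
        erw [map_mul, map_mul, e.apply_symm_apply, e.apply_symm_apply] at this
        exact this
      · intro h u
        apply e.injective
        erw [map_mul, map_mul, e.apply_symm_apply]
        exact h (e u)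
  refine ⟨?_, ⟨((QuotientGroup.congr _ _ e hc).symm).trans q⟩, fun L hL => ?_⟩
  · rw [← hc, Subgroup.card_map_of_injective e.injective]; exact h1
  · refine no_index_two (L.comap e.toMonoidHom) ?_
    rw [Subgroup.index_comap_of_surjective _ e.surjective, hL.index_eq_card, ← hc,
      Subgroup.card_map_of_injective e.injective, h1]

end CfsgLib.CosetEnum.Fi23
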